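import Cfsg.Agent.Lib.FgsB.Basic

/-!
# The subgroup generated by the derangements of a transitive action
Elements outside it fix exactly one point.
-/

set_option autoImplicit false

namespace CfsgLib.Derangements

open MulAction Subgroup

variable (G Ω : Type*) [Group G] [MulAction G Ω]

/-- The subgroup generated by the elements without fixed point. -/
def derSubgroup : Subgroup G := closure {g : G | ∀ ω : Ω, g • ω ≠ ω}

theorem derSubgroup_normal : (derSubgroup G Ω).Normal := by
  have h : Group.conjugatesOfSet {g : G | ∀ ω : Ω, g • ω ≠ ω} = {g : G | ∀ ω : Ω, g • ω ≠ ω} := by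
    refine Set.Subset.antisymm (fun x hx => ?_) Group.subset_conjugatesOfSet
    obtain ⟨g, hg, hc⟩ := Group.mem_conjugatesOfSet_iff.mp hx
    obtain ⟨c, rfl⟩ := isConj_iff.mp hc
    intro ω hω
    refine hg (c⁻¹ • ω) ?_
    conv_rhs => rw [← hω]
    simp [mul_smul]
  have h' : derSubgroup G Ω = normalClosure {g : G | ∀ ω : Ω, g • ω ≠ ω} := by
    rw [derSubgroup, normalClosure, h]
  rw [h']
  exact normalClosure_normal

variable {G Ω}

theorem exists_fix {g : G} (hg : g ∉ derSubgroup G Ω) : ∃ ω : Ω, g • ω = ω := by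
  by_contra h
  exact hg (subset_closure fun ω hω => h ⟨ω, hω⟩)

variable [Finite G] [IsPretransitive G Ω]

theorem stabilizer_sup (ω : Ω) : stabilizer G ω ⊔ derSubgroup G Ω = ⊤ := by
  refine CfsgLib.FgsB.eq_top_of_forall_exists_conj_mem fun x => ?_
  by_cases hx : x ∈ derSubgroup G Ω
  · exact ⟨1, by simpa using mem_sup_right hx⟩
  · obtain ⟨β, hβ⟩ := exists_fix hx
    obtain ⟨g, rfl⟩ := exists_smul_eq G ω β
    refine ⟨g, mem_sup_left ?_⟩
    rw [mem_stabilizer_iff, mul_smul, mul_smul, hβ, inv_smul_smul]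

theorem exists_smul_der (ω β : Ω) : ∃ n ∈ derSubgroup G Ω, n • ω = β := by
  have := derSubgroup_normal G Ω
  obtain ⟨g, rfl⟩ := exists_smul_eq G ω β
  have hg : g ∈ stabilizer G ω ⊔ derSubgroup G Ω := by rw [stabilizer_sup]; trivial
  obtain ⟨s, hs, n, hn, rfl⟩ := mem_sup_of_normal_right.mp hg
  refine ⟨s * n * s⁻¹, this.conj_mem n hn s, ?_⟩
  conv_lhs => rw [← mem_stabilizer_iff.mp hs]
  rw [← mul_smul, inv_mul_cancel_right]

/-- An element outside the derangement subgroup fixes exactly one point. -/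
theorem eq_of_fix [Finite Ω] {g : G} (hg : g ∉ derSubgroup G Ω) {α β : Ω} (hα : g • α = α)
    (hβ : g • β = β) : α = β := by
  classical
  set N := derSubgroup G Ω with hN
  have hpre : IsPretransitive N Ω := ⟨fun a b => by
    obtain ⟨n, hn, h⟩ := exists_smul_der (G := G) a b
    exact ⟨⟨n, hn⟩, h⟩⟩
  let E := {p : N × Ω // (g * (p.1 : G)) • p.2 = p.2}
  let e : E ≃ (Σ ω : Ω, {n : N // n • ω = g⁻¹ • ω}) :=
    { toFun := fun p => ⟨p.1.2, p.1.1, eq_inv_smul_iff.mpr ((mul_smul g ((p.1.1 : N) : G) p.1.2).symm.trans p.2)⟩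
      invFun := fun q => ⟨(q.2.1, q.1), by
        show (g * (q.2.1 : G)) • q.1 = q.1
        rw [mul_smul, show (q.2.1 : G) • q.1 = g⁻¹ • q.1 from q.2.2, smul_inv_smul]⟩
      left_inv := fun p => rfl
      right_inv := fun q => rfl }
  have hfib : ∀ ω : Ω, Nat.card {n : N // n • ω = g⁻¹ • ω} * Nat.card Ω = Nat.card N := by
    intro ω
    obtain ⟨n0, hn0⟩ := exists_smul_eq N ω (g⁻¹ • ω)
    have : {n : N // n • ω = g⁻¹ • ω} ≃ stabilizer N ω :=
      { toFun := fun n => ⟨n0⁻¹ * n.1, by
          rw [mem_stabilizer_iff, mul_smul, n.2, ← hn0, inv_smul_smul]⟩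
        invFun := fun s => ⟨n0 * s.1, by
          rw [mul_smul, mem_stabilizer_iff.mp s.2, hn0]⟩
        left_inv := fun n => by simp
        right_inv := fun s => by simp }
    rw [Nat.card_congr this, ← index_stabilizer_of_transitive N ω, Subgroup.card_mul_index]
  haveI : Nonempty Ω := ⟨α⟩
  haveI := Fintype.ofFinite Ω
  have hE : Nat.card E = Nat.card N := by
    have hΩ : Nat.card Ω ≠ 0 := Nat.card_pos.ne'
    apply mul_right_cancel₀ hΩ
    rw [Nat.card_congr e, Nat.card_sigma, Finset.sum_mul, Finset.sum_congr rfl fun ω _ => hfib ω,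
      Finset.sum_const, Finset.card_univ, Nat.card_eq_fintype_card (α := Ω), smul_eq_mul, mul_comm]
  have hsurj : Function.Surjective (fun p : E => p.1.1) := by
    intro n
    have : g * (n : G) ∉ N := fun h => hg (by simpa using N.mul_mem h (N.inv_mem n.2))
    obtain ⟨ω, hω⟩ := exists_fix this
    exact ⟨⟨(n, ω), hω⟩, rfl⟩
  have hinj : Function.Injective (fun p : E => p.1.1) :=
    ((Nat.bijective_iff_surjective_and_card _).mpr ⟨hsurj, hE⟩).1
  have := @hinj ⟨((1 : N), α), by simpa using hα⟩ ⟨((1 : N), β), by simpa using hβ⟩ rfl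
  exact congrArg (fun p : E => p.1.2) this

variable [Finite Ω]

theorem index_eq_relIndex (ω : Ω) :
    (derSubgroup G Ω).index = (derSubgroup G Ω).relIndex (stabilizer G ω) := by
  have := derSubgroup_normal G Ω
  rw [← relIndex_sup_right (H := stabilizer G ω), stabilizer_sup, relIndex_top_right]

/-- The orbit of another point under a stabiliser has length divisible by the index. -/
theorem index_dvd_orbit {ω α : Ω} (hα : α ≠ ω) :
    (derSubgroup G Ω).index ∣ Nat.card (orbit (stabilizer G ω) α) := by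
  have hle : stabilizer (stabilizer G ω) α ≤ (derSubgroup G Ω).subgroupOf (stabilizer G ω) := by
    intro s hs
    rw [Subgroup.mem_subgroupOf]
    by_contra h
    exact hα (eq_of_fix h (mem_stabilizer_iff.mp hs) (mem_stabilizer_iff.mp s.2))
  rw [Nat.card_coe_set_eq, ← index_stabilizer, index_eq_relIndex ω]
  exact index_dvd_of_le hle

/-- The index of the derangement subgroup divides the size of every invariant set avoiding `ω`. -/
theorem index_dvd_card {ω : Ω} (Y : Set Ω) (hY : ω ∉ Y)
    (hinv : ∀ s ∈ stabilizer G ω, ∀ y ∈ Y, s • y ∈ Y) :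
    (derSubgroup G Ω).index ∣ Y.ncard := by
  classical
  let Y' : SubMulAction (stabilizer G ω) Ω := ⟨Y, fun s y hy => hinv s.1 s.2 y hy⟩
  rw [← Nat.card_coe_set_eq]
  haveI : Finite (Quotient (orbitRel (stabilizer G ω) Y')) := Quotient.finite _
  haveI := Fintype.ofFinite (Quotient (orbitRel (stabilizer G ω) Y'))
  show _ ∣ Nat.card Y'
  rw [Nat.card_congr (selfEquivSigmaOrbits (stabilizer G ω) Y'), Nat.card_sigma]
  refine Finset.dvd_sum fun q _ => ?_
  have h : Nat.card (orbit (stabilizer G ω) q.out) =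
      Nat.card (orbit (stabilizer G ω) ((q.out : Y') : Ω)) := by
    rw [← SubMulAction.val_image_orbit q.out, Nat.card_image_of_injective Subtype.val_injective]
  rw [h]
  exact index_dvd_orbit fun e => hY (e ▸ q.out.2)

end CfsgLib.Derangements
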