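import Mathlib
import Cfsg.Agent.Lib.Derangements.Basic

/-!
# Subgroups covering the quotient by the derangement subgroup

A subgroup covers when together with the derangement subgroup it generates the whole group. Every
covering subgroup has a covering point stabiliser, unique up to the subgroup's action, and so every
semiregular subgroup normalised by a covering subgroup gives a congruence on the degree.
-/

set_option autoImplicit false
set_option linter.unusedSectionVars false
set_option linter.style.haveILetI false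

namespace CfsgLib.Derangements

open MulAction Subgroup

variable {G : Type*} [Group G] (Ω : Type*) [MulAction G Ω]

/-- A subgroup covers the quotient by the derangement subgroup. -/
def Covers (K : Subgroup G) : Prop := K ⊔ derSubgroup G Ω = ⊤

variable {Ω}

theorem Covers.mono {K K' : Subgroup G} (h : Covers Ω K) (hle : K ≤ K') : Covers Ω K' :=
  top_le_iff.mp (h.symm.le.trans (sup_le_sup_right hle _))

theorem covers_top : Covers Ω (⊤ : Subgroup G) := top_sup_eq _

theorem covers_iff {K : Subgroup G} :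
    Covers Ω K ↔ ∀ x : G, ∃ k ∈ K, k⁻¹ * x ∈ derSubgroup G Ω := by
  haveI := derSubgroup_normal G Ω
  constructor
  · intro h x
    obtain ⟨k, hk, d, hd, rfl⟩ := mem_sup_of_normal_right.mp (h ▸ mem_top x)
    exact ⟨k, hk, by rwa [inv_mul_cancel_left]⟩
  · intro h
    refine eq_top_iff.mpr fun x _ => ?_
    obtain ⟨k, hk, hd⟩ := h x
    exact mem_sup_of_normal_right.mpr ⟨k, hk, _, hd, mul_inv_cancel_left k x⟩

variable [Finite G] [IsPretransitive G Ω] [Finite Ω]

theorem covers_stabilizer (ω : Ω) : Covers Ω (stabilizer G ω) := stabilizer_sup ω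

theorem card_inf_mul (K : Subgroup G) :
    Nat.card ↥(derSubgroup G Ω ⊓ K) * (derSubgroup G Ω).relIndex K = Nat.card K := by
  have h := ((derSubgroup G Ω).subgroupOf K).card_mul_index
  have e : Nat.card ((derSubgroup G Ω).subgroupOf K) = Nat.card ↥(derSubgroup G Ω ⊓ K) := by
    rw [← inf_subgroupOf_right]
    exact Nat.card_congr (subgroupOfEquivOfLe inf_le_right).toEquiv
  rw [← e]; exact h

theorem Covers.relIndex_eq {K : Subgroup G} (h : Covers Ω K) :
    (derSubgroup G Ω).relIndex K = (derSubgroup G Ω).index := by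
  have := derSubgroup_normal G Ω
  rw [← relIndex_sup_right (H := K), h, relIndex_top_right]

theorem covers_of_relIndex {K : Subgroup G}
    (h : (derSubgroup G Ω).relIndex K = (derSubgroup G Ω).index) : Covers Ω K := by
  have := derSubgroup_normal G Ω
  rw [← relIndex_sup_right (H := K)] at h
  have h2 := relIndex_mul_index (le_sup_right : derSubgroup G Ω ≤ K ⊔ derSubgroup G Ω)
  rw [h] at h2
  have hne : (derSubgroup G Ω).index ≠ 0 := FiniteIndex.index_ne_zero
  exact index_eq_one.mp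
    (Nat.eq_of_mul_eq_mul_left (Nat.pos_of_ne_zero hne) (h2.trans (mul_one _).symm))

/-- The elements of `K` outside the derangement subgroup fixing a point of a given orbit. -/
def outFix (K : Subgroup G) (c : Ω) : Set G :=
  {g | g ∈ K ∧ g ∉ derSubgroup G Ω ∧ ∃ b ∈ orbit K c, g • b = b}

theorem card_outFix (K : Subgroup G) (c : Ω) :
    (outFix K c).ncard +
        Nat.card (orbit K c) * Nat.card ↥(derSubgroup G Ω ⊓ (K ⊓ stabilizer G c)) =
      Nat.card K ∧
    Nat.card (orbit K c) * Nat.card ↥(derSubgroup G Ω ⊓ (K ⊓ stabilizer G c)) *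
        (derSubgroup G Ω).relIndex (K ⊓ stabilizer G c) = Nat.card K := by
  classical
  set D := derSubgroup G Ω
  have hnorm : D.Normal := derSubgroup_normal G Ω
  set S := K ⊓ stabilizer G c
  have hOS : Nat.card (orbit K c) * Nat.card S = Nat.card K := by
    have h1 := (stabilizer K c).index_mul_card
    rw [index_stabilizer, ← Nat.card_coe_set_eq] at h1
    have e : Nat.card (stabilizer K c) = Nat.card S :=
      Nat.card_congr
        { toFun := fun s => ⟨s.1.1, s.1.2, s.2⟩
          invFun := fun s => ⟨⟨s.1, s.2.1⟩, s.2.2⟩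
          left_inv := fun s => rfl
          right_inv := fun s => rfl }
    rw [← e]; exact h1
  refine ⟨?_, by rw [mul_assoc, card_inf_mul, hOS]⟩
  let T : Set G := {g | g ∈ S ∧ g ∉ D}
  have hT : T.ncard + Nat.card ↥(D ⊓ S) = Nat.card S := by
    have h1 : T ∪ ((D ⊓ S : Subgroup G) : Set G) = (S : Set G) := by
      ext g
      by_cases hg : g ∈ D <;> simp [T, hg]
    have h2 : Disjoint T ((D ⊓ S : Subgroup G) : Set G) :=
      Set.disjoint_left.mpr fun g hg hg' => hg.2 hg'.1
    rw [← SetLike.coe_sort_coe, Nat.card_coe_set_eq, ← Set.ncard_union_eq h2, h1,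
      ← Nat.card_coe_set_eq, SetLike.coe_sort_coe]
  have hrep : ∀ b : orbit K c, ∃ k : K, k • c = (b : Ω) := fun b => b.2
  choose k hk using hrep
  have hk' : ∀ b : orbit K c, (k b : G) • c = (b : Ω) := hk
  have hcard : (outFix K c).ncard = Nat.card (orbit K c) * T.ncard := by
    rw [← Nat.card_coe_set_eq, ← Nat.card_coe_set_eq T, ← Nat.card_prod]
    refine (Nat.card_congr (Equiv.ofBijective
      (fun p : orbit K c × T =>
        (⟨(k p.1 : G) * p.2.1 * (k p.1 : G)⁻¹, ?_, ?_, p.1, p.1.2, ?_⟩ : outFix K c))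
      ⟨?_, ?_⟩)).symm
    · exact K.mul_mem (K.mul_mem (k p.1).2 p.2.2.1.1) (K.inv_mem (k p.1).2)
    · intro h
      refine p.2.2.2 ?_
      have := hnorm.conj_mem _ h (k p.1 : G)⁻¹
      simpa [mul_assoc] using this
    · rw [mul_smul, mul_smul, ← hk' p.1, inv_smul_smul, mem_stabilizer_iff.mp p.2.2.1.2]
    · rintro ⟨b, t⟩ ⟨b', t'⟩ h
      have h' : (k b : G) * t.1 * (k b : G)⁻¹ = (k b' : G) * t'.1 * (k b' : G)⁻¹ :=
        congrArg Subtype.val h
      have hb : b = b' := by
        refine Subtype.ext (eq_of_fix (g := (k b : G) * t.1 * (k b : G)⁻¹) ?_ ?_ ?_)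
        · intro hd
          refine t.2.2 ?_
          simpa [mul_assoc] using hnorm.conj_mem _ hd (k b : G)⁻¹
        · rw [mul_smul, mul_smul, ← hk' b, inv_smul_smul, mem_stabilizer_iff.mp t.2.1.2]
        · rw [h', mul_smul, mul_smul, ← hk' b', inv_smul_smul, mem_stabilizer_iff.mp t'.2.1.2]
      subst hb
      exact Prod.ext rfl (Subtype.ext (mul_left_cancel (mul_right_cancel h')))
    · rintro ⟨g, hgK, hgD, b, hb, hgb⟩
      let b' : orbit K c := ⟨b, hb⟩
      refine ⟨⟨b', ⟨(k b' : G)⁻¹ * g * (k b' : G), ⟨?_, ?_⟩, ?_⟩⟩, ?_⟩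
      · exact K.mul_mem (K.mul_mem (K.inv_mem (k b').2) hgK) (k b').2
      · show _ ∈ stabilizer G c
        rw [mem_stabilizer_iff, mul_smul, mul_smul, hk' b', hgb, inv_smul_eq_iff, hk' b']
      · intro h
        refine hgD ?_
        simpa [mul_assoc] using hnorm.conj_mem _ h (k b' : G)
      · exact Subtype.ext (by simp [mul_assoc])
  rw [hcard, ← mul_add, hT, hOS]

theorem outFix_subset (K : Subgroup G) (c : Ω) :
    outFix K c ⊆ {g | g ∈ K ∧ g ∉ derSubgroup G Ω} := fun _ h => ⟨h.1, h.2.1⟩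

theorem card_out (K : Subgroup G) :
    {g | g ∈ K ∧ g ∉ derSubgroup G Ω}.ncard + Nat.card ↥(derSubgroup G Ω ⊓ K) = Nat.card K := by
  classical
  set D := derSubgroup G Ω
  have h1 : {g | g ∈ K ∧ g ∉ D} ∪ ((D ⊓ K : Subgroup G) : Set G) = (K : Set G) := by
    ext g
    by_cases hg : g ∈ D <;> simp [hg]
  have h2 : Disjoint {g | g ∈ K ∧ g ∉ D} ((D ⊓ K : Subgroup G) : Set G) :=
    Set.disjoint_left.mpr fun g hg hg' => hg.2 hg'.1
  rw [← SetLike.coe_sort_coe, Nat.card_coe_set_eq, ← Set.ncard_union_eq h2, h1,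
    ← Nat.card_coe_set_eq, SetLike.coe_sort_coe]

/-- A covering subgroup has a covering point stabiliser. -/
theorem Covers.exists_covers_stabilizer {K : Subgroup G} (hK : Covers Ω K)
    (hm : 2 ≤ (derSubgroup G Ω).index) : ∃ c : Ω, Covers Ω (K ⊓ stabilizer G c) := by
  classical
  set D := derSubgroup G Ω with hD
  have hA := card_out (Ω := Ω) K
  have hKD := card_inf_mul (Ω := Ω) K
  rw [hK.relIndex_eq] at hKD
  rw [← hD] at hA hKD
  set A := {g | g ∈ K ∧ g ∉ D} with hAdef
  have hpos : 0 < Nat.card ↥(D ⊓ K) := Nat.card_pos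
  have hne : A.ncard ≠ 0 := fun h => by
    rw [h, zero_add] at hA
    rw [← hA] at hKD
    nlinarith
  obtain ⟨g, hg⟩ := Set.nonempty_of_ncard_ne_zero hne
  obtain ⟨c, hc⟩ := exists_fix hg.2
  refine ⟨c, covers_of_relIndex ?_⟩
  -- every element of `A` fixes a point of the orbit of `c`
  have key : ∀ g' ∈ A, ∀ c' : Ω, g' • c' = c' →
      2 * (outFix K c').ncard ≥ Nat.card K := by
    intro g' hg' c' hc'
    obtain ⟨h1, h2⟩ := card_outFix K c'
    have hs : 2 ≤ D.relIndex (K ⊓ stabilizer G c') := by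
      have hne1 : D.relIndex (K ⊓ stabilizer G c') ≠ 1 := fun h =>
        hg'.2 (relIndex_eq_one.mp h ⟨hg'.1, hc'⟩)
      have hne0 : D.relIndex (K ⊓ stabilizer G c') ≠ 0 := FiniteIndex.index_ne_zero
      omega
    rw [← hD] at h1 h2
    nlinarith
  have hall : A = outFix K c := by
    refine Set.Subset.antisymm (fun g' hg' => ?_) (outFix_subset K c)
    obtain ⟨c', hc'⟩ := exists_fix hg'.2
    by_contra hn
    have hdisj : Disjoint (outFix K c) (outFix K c') := by
      refine Set.disjoint_left.mpr fun x hx hx' => hn ?_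
      obtain ⟨hxK, hxD, b, hb, hxb⟩ := hx
      obtain ⟨-, -, b', hb', hxb'⟩ := hx'
      obtain rfl : b = b' := eq_of_fix hxD hxb hxb'
      refine ⟨hg'.1, hg'.2, c', ?_, hc'⟩
      rw [← orbit_eq_iff.mpr hb, orbit_eq_iff.mpr hb']
      exact mem_orbit_self c'
    have h3 : (outFix K c ∪ outFix K c').ncard ≤ A.ncard :=
      Set.ncard_le_ncard (Set.union_subset (outFix_subset K c) (outFix_subset K c'))
    rw [Set.ncard_union_eq hdisj] at h3
    have := key g hg c hc
    have := key g' hg' c' hc'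
    omega
  obtain ⟨h1, h2⟩ := card_outFix K c
  rw [← hall, ← hD] at h1
  rw [← hD] at h2
  have e : Nat.card (orbit K c) * Nat.card ↥(D ⊓ (K ⊓ stabilizer G c)) = Nat.card ↥(D ⊓ K) := by
    omega
  rw [e, ← hKD] at h2
  exact Nat.eq_of_mul_eq_mul_left hpos h2

/-- The covering point stabilisers of a covering subgroup form one orbit, which contains the fixed
point of every element outside the derangement subgroup. -/
theorem mem_orbit_of_fix {K : Subgroup G} {a : Ω} (hKa : Covers Ω (K ⊓ stabilizer G a)) {g : G}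
    (hg : g ∈ K) (hgD : g ∉ derSubgroup G Ω) {c : Ω} (hc : g • c = c) : c ∈ orbit K a := by
  classical
  set D := derSubgroup G Ω with hD
  obtain ⟨h1, h2⟩ := card_outFix K a
  have hA := card_out (Ω := Ω) K
  have hKD := card_inf_mul (Ω := Ω) K
  rw [(hKa.mono inf_le_left).relIndex_eq] at hKD
  rw [hKa.relIndex_eq] at h2
  rw [← hD] at h1 h2 hA hKD
  have hpos : 0 < D.index := Nat.pos_of_ne_zero FiniteIndex.index_ne_zero
  have e := Nat.eq_of_mul_eq_mul_right hpos (h2.trans hKD.symm)
  have hall : outFix K a = {g | g ∈ K ∧ g ∉ D} :=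
    Set.eq_of_subset_of_ncard_le (outFix_subset K a) (by omega)
  obtain ⟨-, -, b, hb, hgb⟩ : g ∈ outFix K a := by rw [hall]; exact ⟨hg, hgD⟩
  rwa [eq_of_fix hgD hc hgb]

theorem Covers.index_dvd_orbit {L : Subgroup G} {ω α : Ω} (hL : Covers Ω L)
    (hω : L ≤ stabilizer G ω) (hα : α ≠ ω) :
    (derSubgroup G Ω).index ∣ Nat.card (orbit L α) := by
  have hle : stabilizer L α ≤ (derSubgroup G Ω).subgroupOf L := by
    intro s hs
    rw [Subgroup.mem_subgroupOf]
    by_contra h
    exact hα (eq_of_fix h (mem_stabilizer_iff.mp hs) (mem_stabilizer_iff.mp (hω s.2)))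
  rw [Nat.card_coe_set_eq, ← index_stabilizer, ← hL.relIndex_eq]
  exact index_dvd_of_le hle

/-- The index of the derangement subgroup divides the size of a set invariant under a covering
subgroup and avoiding its fixed point. -/
theorem Covers.index_dvd_ncard {L : Subgroup G} {ω : Ω} (hL : Covers Ω L)
    (hω : L ≤ stabilizer G ω) (Y : Set Ω) (hY : ω ∉ Y) (hinv : ∀ s ∈ L, ∀ y ∈ Y, s • y ∈ Y) :
    (derSubgroup G Ω).index ∣ Y.ncard := by
  classical
  let Y' : SubMulAction L Ω := ⟨Y, fun s y hy => hinv s.1 s.2 y hy⟩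
  rw [← Nat.card_coe_set_eq]
  haveI : Finite (Quotient (orbitRel L Y')) := Quotient.finite _
  haveI := Fintype.ofFinite (Quotient (orbitRel L Y'))
  show _ ∣ Nat.card Y'
  rw [Nat.card_congr (selfEquivSigmaOrbits L Y'), Nat.card_sigma]
  refine Finset.dvd_sum fun q _ => ?_
  have h : Nat.card (orbit L q.out) = Nat.card (orbit L ((q.out : Y') : Ω)) := by
    rw [← SubMulAction.val_image_orbit q.out, Nat.card_image_of_injective Subtype.val_injective]
  rw [h]
  exact hL.index_dvd_orbit hω fun e => hY (e ▸ q.out.2)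

/-- An invariant set containing the fixed point has size congruent to one. -/
theorem Covers.index_dvd_sub_one {L : Subgroup G} {ω : Ω} (hL : Covers Ω L)
    (hω : L ≤ stabilizer G ω) (F : Set Ω) (hF : ω ∈ F) (hinv : ∀ s ∈ L, ∀ y ∈ F, s • y ∈ F) :
    (derSubgroup G Ω).index ∣ F.ncard - 1 := by
  rw [← Set.ncard_diff_singleton_of_mem hF]
  refine hL.index_dvd_ncard hω _ (fun h => h.2 rfl) fun s hs y hy => ⟨hinv s hs y hy.1, fun h => ?_⟩
  refine hy.2 (MulAction.injective s ?_)
  show s • y = s • ω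
  rw [mem_stabilizer_iff.mp (hω hs)]; exact h

/-- The arithmetical heart of the index bound. -/
theorem succ_sq_le_of_dvd {m f n : ℕ} (hf : m ∣ f - 1) (hn : m ∣ n - 1) (hfn : f ∣ n)
    (h1 : 1 < f) (h2 : f < n) : (m + 1) ^ 2 ≤ n := by
  obtain ⟨k, rfl⟩ := hfn
  have hk : 2 ≤ k := by
    rcases k with _ | _ | k <;> simp at h2 ⊢
  have hf' : m + 1 ≤ f := by have := Nat.le_of_dvd (by omega) hf; omega
  have hk' : m ∣ k - 1 := by
    have e : f * k - 1 = (f - 1) * k + (k - 1) := by
      zify [show 1 ≤ f * k by nlinarith, show 1 ≤ f by omega, show 1 ≤ k by omega]; ring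
    rw [e] at hn
    exact (Nat.dvd_add_right (dvd_mul_of_dvd_left hf k)).mp hn
  have hk'' : m + 1 ≤ k := by have := Nat.le_of_dvd (by omega) hk'; omega
  calc (m + 1) ^ 2 = (m + 1) * (m + 1) := sq _
    _ ≤ f * k := Nat.mul_le_mul hf' hk''

theorem index_dvd_card_sub_one (ω : Ω) : (derSubgroup G Ω).index ∣ Nat.card Ω - 1 := by
  rw [← Set.ncard_univ]
  exact (covers_stabilizer ω).index_dvd_sub_one le_rfl _ trivial fun _ _ _ _ => trivial

/-- An invariant set of size properly dividing the degree bounds the index. -/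
theorem Covers.bound_of_invariant {L : Subgroup G} {ω : Ω} (hL : Covers Ω L)
    (hω : L ≤ stabilizer G ω) (F : Set Ω) (hF : ω ∈ F) (hinv : ∀ s ∈ L, ∀ y ∈ F, s • y ∈ F)
    (hdvd : F.ncard ∣ Nat.card Ω) (h1 : 1 < F.ncard) (h2 : F.ncard < Nat.card Ω) :
    ((derSubgroup G Ω).index + 1) ^ 2 ≤ Nat.card Ω :=
  succ_sq_le_of_dvd (hL.index_dvd_sub_one hω F hF hinv) (index_dvd_card_sub_one ω) hdvd h1 h2

theorem smul_mem_orbit_of_normalizer {Y : Subgroup G} {s : G}
    (hs : s ∈ normalizer (Y : Set G)) {c : Ω} (hc : s • c = c) {b : Ω} (hb : b ∈ orbit Y c) :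
    s • b ∈ orbit Y c := by
  obtain ⟨y, rfl⟩ := hb
  refine ⟨⟨s * y * s⁻¹, (Subgroup.mem_normalizer_iff.mp hs y).mp y.2⟩, ?_⟩
  show (s * (y : G) * s⁻¹) • c = s • (y : G) • c
  rw [mul_smul, mul_smul, inv_smul_eq_iff.mpr hc.symm]

theorem card_orbit_of_free {Y : Subgroup G}
    (hfree : ∀ y ∈ Y, ∀ b : Ω, y • b = b → y = 1) (b : Ω) :
    Nat.card (orbit Y b) = Nat.card Y := by
  refine Nat.card_congr (Equiv.ofBijective (fun y : Y => (⟨y • b, y, rfl⟩ : orbit Y b))
    ⟨fun y y' h => ?_, fun ⟨_, y, hy⟩ => ⟨y, Subtype.ext hy⟩⟩).symm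
  have h' : (y : G) • b = (y' : G) • b := congrArg Subtype.val h
  have h1 : ((y' : G)⁻¹ * y) • b = b := by rw [mul_smul, h', inv_smul_smul]
  exact Subtype.ext
    (inv_mul_eq_one.mp (hfree _ (Y.mul_mem (Y.inv_mem y'.2) y.2) b h1)).symm

theorem card_dvd_of_free {Y : Subgroup G} (hfree : ∀ y ∈ Y, ∀ b : Ω, y • b = b → y = 1) :
    Nat.card Y ∣ Nat.card Ω := by
  classical
  haveI : Finite (Quotient (orbitRel Y Ω)) := Quotient.finite _
  haveI := Fintype.ofFinite (Quotient (orbitRel Y Ω))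
  rw [Nat.card_congr (selfEquivSigmaOrbits Y Ω), Nat.card_sigma]
  exact Finset.dvd_sum fun q _ => (card_orbit_of_free hfree _).symm.dvd

/-- A proper semiregular subgroup normalised by a covering subgroup bounds the index. -/
theorem Covers.bound_of_free {K Y : Subgroup G} (hK : Covers Ω K)
    (hm : 2 ≤ (derSubgroup G Ω).index) (hKY : K ≤ normalizer (Y : Set G))
    (hfree : ∀ y ∈ Y, ∀ b : Ω, y • b = b → y = 1) (h1 : 1 < Nat.card Y)
    (h2 : Nat.card Y < Nat.card Ω) :
    ((derSubgroup G Ω).index + 1) ^ 2 ≤ Nat.card Ω := by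
  obtain ⟨c, hc⟩ := hK.exists_covers_stabilizer hm
  have e : (orbit Y c).ncard = Nat.card Y := by
    rw [← Nat.card_coe_set_eq, card_orbit_of_free hfree]
  refine hc.bound_of_invariant inf_le_right (orbit Y c) (mem_orbit_self c)
    (fun s hs y hy => smul_mem_orbit_of_normalizer (hKY hs.1) hs.2 hy)
    (e ▸ card_dvd_of_free hfree) (e ▸ h1) (e ▸ h2)

/-- Frattini: the normaliser in a covering subgroup of a maximal `p`-subgroup of its intersection
with the derangement subgroup covers. -/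
theorem Covers.normalizer_sylow {p : ℕ} [Fact p.Prime] {K Q : Subgroup G} (hK : Covers Ω K)
    (hQp : IsPGroup p Q) (hQ : Q ≤ derSubgroup G Ω ⊓ K)
    (hmax : ∀ R : Subgroup G, IsPGroup p R → Q ≤ R → R ≤ derSubgroup G Ω ⊓ K → R = Q) :
    Covers Ω (K ⊓ normalizer (Q : Set G)) := by
  classical
  set D := derSubgroup G Ω with hD
  have hnorm : D.Normal := derSubgroup_normal G Ω
  set M := D ⊓ K with hM
  rw [covers_iff]
  intro x
  obtain ⟨k, hk, hkd⟩ := (covers_iff.mp hK) x
  rw [← hD] at hkd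
  let P : Sylow p M :=
    { toSubgroup := Q.subgroupOf M
      isPGroup' := hQp.comap_of_injective M.subtype M.subtype_injective
      is_maximal' := fun {R} hR hle => by
        have e := hmax (R.map M.subtype) (hR.map M.subtype)
          (by rw [← map_subgroupOf_eq_of_le hQ]; exact Subgroup.map_mono hle) (map_subtype_le R)
        rw [← e, subgroupOf, comap_map_eq_self_of_injective M.subtype_injective] }
  have hconjM : ∀ y, y ∈ M → k⁻¹ * y * k ∈ M := fun y hy =>
    ⟨by simpa using hnorm.conj_mem y hy.1 k⁻¹, K.mul_mem (K.mul_mem (K.inv_mem hk) hy.2) hk⟩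
  let e : M ≃* M :=
    { toFun := fun y => ⟨k⁻¹ * y * k, hconjM y y.2⟩
      invFun := fun y => ⟨k * y * k⁻¹, hnorm.conj_mem _ y.2.1 k,
        K.mul_mem (K.mul_mem hk y.2.2) (K.inv_mem hk)⟩
      left_inv := fun y => Subtype.ext (by simp [mul_assoc])
      right_inv := fun y => Subtype.ext (by simp [mul_assoc])
      map_mul' := fun y z => Subtype.ext (by simp [mul_assoc]) }
  let P' : Sylow p M :=
    { toSubgroup := (P : Subgroup M).map e.toMonoidHom
      isPGroup' := P.isPGroup'.map _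
      is_maximal' := fun {R} hR hle => by
        have hle' : (P : Subgroup M) ≤ R.comap e.toMonoidHom := Subgroup.map_le_iff_le_comap.mp hle
        have h := P.is_maximal' (hR.comap_of_injective _ e.injective) hle'
        rw [← h, map_comap_eq_self_of_surjective e.surjective] }
  obtain ⟨d, hd⟩ := MulAction.exists_smul_eq M P P'
  refine ⟨k * (d : G), ⟨K.mul_mem hk d.2.2, ?_⟩, ?_⟩
  · show _ ∈ normalizer (Q : Set G)
    rw [Subgroup.mem_normalizer_iff]
    have key : ∀ y : M, y ∈ (P' : Subgroup M) ↔ d⁻¹ * y * d ∈ (P : Subgroup M) := by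
      intro y
      rw [← hd, Sylow.coe_subgroup_smul, Subgroup.mem_pointwise_smul_iff_inv_smul_mem]
      simp [MulAut.smul_def, mul_assoc]
    intro y
    by_cases hy : y ∈ M
    · have hy' : (d : G) * y * (d : G)⁻¹ ∈ M := M.mul_mem (M.mul_mem d.2 hy) (M.inv_mem d.2)
      have h1 := key ⟨(d : G) * y * (d : G)⁻¹, hy'⟩
      have h2 : (⟨(d : G) * y * (d : G)⁻¹, hy'⟩ : M) ∈ (P' : Subgroup M) ↔
          k * ((d : G) * y * (d : G)⁻¹) * k⁻¹ ∈ Q := by
        show _ ∈ (P : Subgroup M).map e.toMonoidHom ↔ _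
        refine ⟨?_, fun h => ⟨e.symm _, h, e.apply_symm_apply _⟩⟩
        rintro ⟨z, hz, hze⟩
        have : k * ((d : G) * y * (d : G)⁻¹) * k⁻¹ = (z : G) := by
          have := congrArg (fun t : M => k * (t : G) * k⁻¹) hze
          simpa [e, mul_assoc] using this.symm
        rw [this]
        exact hz
      rw [h2] at h1
      have h3 : d⁻¹ * ⟨(d : G) * y * (d : G)⁻¹, hy'⟩ * d ∈ (P : Subgroup M) ↔ y ∈ Q := by
        show (((d⁻¹ * ⟨(d : G) * y * (d : G)⁻¹, hy'⟩ * d : M) : G)) ∈ Q ↔ _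
        simp [mul_assoc]
      rw [h3] at h1
      rw [← h1]
      simp [mul_assoc]
    · refine ⟨fun h => absurd (hQ h) hy, fun h => absurd ?_ hy⟩
      have h1 : k * (d : G) * y * (k * (d : G))⁻¹ ∈ M := hQ h
      have h2 := hconjM _ h1
      have h3 := M.mul_mem (M.mul_mem (M.inv_mem d.2) h2) d.2
      simpa [mul_assoc] using h3
  · have : (k * (d : G))⁻¹ * x = (d : G)⁻¹ * (k⁻¹ * x) := by group
    rw [this]
    exact D.mul_mem (D.inv_mem d.2.1) hkd

end CfsgLib.Derangements
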