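import Mathlib
import Cfsg.Agent.Lib.Derangements.Covering

/-!
# Reduction of the index bound to a regular elementary abelian Sylow subgroup

If the bound `(m + 1)² ≤ n` on the index `m` of the derangement subgroup fails, then the group is
primitive and a Sylow subgroup of the derangement subgroup is regular and elementary abelian.
-/

set_option autoImplicit false
set_option linter.unusedSectionVars false
set_option linter.style.haveILetI false

namespace CfsgLib.Derangements

open MulAction Subgroup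

variable {G : Type*} [Group G] {Ω : Type*} [MulAction G Ω]

/-- A `p`-subgroup of `M` is contained in a maximal one. -/
theorem exists_max_pgroup [Finite G] {p : ℕ} [Fact p.Prime] (M R : Subgroup G) (hR : IsPGroup p R)
    (hRM : R ≤ M) : ∃ Q : Subgroup G, IsPGroup p Q ∧ R ≤ Q ∧ Q ≤ M ∧
      (∀ S : Subgroup G, IsPGroup p S → Q ≤ S → S ≤ M → S = Q) ∧
      ∃ r, ¬ p ∣ r ∧ Nat.card M = Nat.card Q * r := by
  classical
  obtain ⟨P, hP⟩ := (hR.comap_of_injective M.subtype M.subtype_injective).exists_le_sylow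
    (P := R.subgroupOf M)
  refine ⟨(P : Subgroup M).map M.subtype, P.isPGroup'.map _, ?_, map_subtype_le _, ?_, ?_⟩
  · rw [← map_subgroupOf_eq_of_le hRM]
    exact Subgroup.map_mono hP
  · intro S hS hle hSM
    have h := P.is_maximal' (Q := S.subgroupOf M) (hS.comap_of_injective M.subtype M.subtype_injective)
      (fun x hx => hle ⟨x, hx, rfl⟩)
    rw [← h, map_subgroupOf_eq_of_le hSM]
  · refine ⟨(P : Subgroup M).index, P.not_dvd_index, ?_⟩
    rw [Nat.card_congr ((P : Subgroup M).equivMapOfInjective M.subtype M.subtype_injective).toEquiv.symm,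
      card_mul_index]

variable [Finite G] [IsPretransitive G Ω] [Finite Ω]

theorem exists_out {K : Subgroup G} (hK : Covers Ω K) (hm : 2 ≤ (derSubgroup G Ω).index) :
    ∃ g ∈ K, g ∉ derSubgroup G Ω := by
  by_contra h
  push Not at h
  have h1 := hK.relIndex_eq
  rw [relIndex_eq_one.mpr h] at h1
  omega

theorem card_der (a : Ω) :
    Nat.card (derSubgroup G Ω) = Nat.card Ω * Nat.card ↥(derSubgroup G Ω ⊓ stabilizer G a) := by
  have h1 := card_inf_mul (Ω := Ω) (stabilizer G a)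
  rw [(covers_stabilizer a).relIndex_eq] at h1
  have h2 := (derSubgroup G Ω).card_mul_index
  have h3 : Nat.card Ω * Nat.card (stabilizer G a) = Nat.card G := by
    rw [← index_stabilizer_of_transitive G a, index_mul_card]
  rw [← h1, ← mul_assoc, ← h2] at h3
  exact (Nat.eq_of_mul_eq_mul_right (Nat.pos_of_ne_zero FiniteIndex.index_ne_zero) h3).symm

/-- An imprimitive group satisfies the index bound. -/
theorem bound_of_not_primitive [Nontrivial Ω] (h : ¬ IsPreprimitive G Ω) :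
    ((derSubgroup G Ω).index + 1) ^ 2 ≤ Nat.card Ω := by
  obtain ⟨a⟩ : Nonempty Ω := inferInstance
  have hnc : ¬ IsCoatom (stabilizer G a) := fun hc => h ((isCoatom_stabilizer_iff_preprimitive G a).mp hc)
  have hne : stabilizer G a ≠ ⊤ := by
    intro htop
    have h1 := index_stabilizer_of_transitive G a
    rw [htop, index_top] at h1
    have h2 := Finite.one_lt_card (α := Ω)
    omega
  obtain ⟨L, hlt, hL⟩ : ∃ L, stabilizer G a < L ∧ L ≠ ⊤ := by
    by_contra hc
    push Not at hc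
    exact hnc ⟨hne, fun L hL => hc L hL⟩
  have hcard : (orbit L a).ncard * Nat.card (stabilizer G a) = Nat.card L := by
    have h1 := (stabilizer L a).index_mul_card
    rw [index_stabilizer] at h1
    have e : Nat.card (stabilizer L a) = Nat.card (stabilizer G a) :=
      Nat.card_congr
        { toFun := fun s => ⟨s.1.1, s.2⟩
          invFun := fun s => ⟨⟨s.1, hlt.le s.2⟩, s.2⟩
          left_inv := fun s => rfl
          right_inv := fun s => rfl }
    rwa [e] at h1
  have hG : Nat.card Ω * Nat.card (stabilizer G a) = Nat.card G := by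
    rw [← index_stabilizer_of_transitive G a, index_mul_card]
  have hpos : 0 < Nat.card (stabilizer G a) := Nat.card_pos
  have hLlt : Nat.card L < Nat.card G :=
    lt_of_le_of_ne (Subgroup.card_le_card_group L) fun e => hL (eq_top_of_card_eq L e)
  have hSlt : Nat.card (stabilizer G a) < Nat.card L := by
    refine lt_of_le_of_ne (Subgroup.card_le_of_le hlt.le) fun e => hlt.ne ?_
    exact eq_of_le_of_card_ge hlt.le e.ge
  refine (covers_stabilizer a).bound_of_invariant le_rfl (orbit L a) (mem_orbit_self a) ?_ ?_ ?_ ?_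
  · rintro s hs _ ⟨l, rfl⟩
    exact ⟨⟨s, hlt.le hs⟩ * l, mul_smul s (l : G) a⟩
  · have h1 := Subgroup.card_subgroup_dvd_card L
    rw [← hcard, ← hG] at h1
    exact Nat.dvd_of_mul_dvd_mul_right hpos h1
  · rw [← hcard] at hSlt; nlinarith
  · rw [← hcard, ← hG] at hLlt; nlinarith

/-- The configuration left when the index bound fails. -/
structure RegularConfig (Ω : Type*) [MulAction G Ω] (p : ℕ) (P : Subgroup G) (a : Ω) : Prop where
  prime : p.Prime
  pgroup : IsPGroup p P
  le_der : P ≤ derSubgroup G Ω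
  card_eq : Nat.card P = Nat.card Ω
  coprime : ¬ p ∣ Nat.card ↥(derSubgroup G Ω ⊓ stabilizer G a)
  free : ∀ y ∈ P, ∀ b : Ω, y • b = b → y = 1
  covers : Covers Ω (stabilizer G a ⊓ normalizer (P : Set G))
  comm : ∀ x ∈ P, ∀ y ∈ P, x * y = y * x
  pow : ∀ x ∈ P, x ^ p = 1

theorem exists_regularConfig [FaithfulSMul G Ω] [Nontrivial Ω]
    (hm : 2 ≤ (derSubgroup G Ω).index)
    (hnb : ¬ ((derSubgroup G Ω).index + 1) ^ 2 ≤ Nat.card Ω) :
    ∃ (p : ℕ) (P : Subgroup G) (a : Ω), RegularConfig Ω p P a := by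
  classical
  set D := derSubgroup G Ω with hDdef
  have hnorm : D.Normal := derSubgroup_normal G Ω
  obtain ⟨a⟩ : Nonempty Ω := inferInstance
  have hn : 1 < Nat.card Ω := Finite.one_lt_card
  obtain ⟨p, hp, hpn⟩ := Nat.exists_prime_and_dvd (n := Nat.card Ω) (by omega)
  haveI : Fact p.Prime := ⟨hp⟩
  obtain ⟨Q, hQp, -, hQle, hQmax, r, hr, hrQ⟩ :=
    exists_max_pgroup (p := p) (D ⊓ stabilizer G a) ⊥ IsPGroup.of_bot bot_le
  have hK1 := (covers_stabilizer (G := G) a).normalizer_sylow hQp hQle hQmax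
  have hK2 : Covers Ω (normalizer (Q : Set G)) := hK1.mono inf_le_right
  -- a larger `p`-subgroup of `D` normalising `Q`
  obtain ⟨P0, hP0p, hQP0, hP0D, -, r0, hr0, hrP0⟩ :=
    exists_max_pgroup D Q hQp (hQle.trans inf_le_left)
  have hDcard := card_der (G := G) a
  rw [← hDdef, hrQ] at hDcard
  have hneQ : Q ≠ P0 := by
    intro e
    rw [hrP0, ← e] at hDcard
    have h1 : p ∣ Nat.card Q * r0 / Nat.card Q := by
      rw [hDcard, show Nat.card Ω * (Nat.card Q * r) = Nat.card Q * (Nat.card Ω * r) by ring,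
        Nat.mul_div_cancel_left _ Nat.card_pos]
      exact dvd_mul_of_dvd_left hpn r
    rw [Nat.mul_div_cancel_left _ Nat.card_pos] at h1
    exact hr0 h1
  obtain ⟨x, hxP0, hxQ, hxN⟩ : ∃ x ∈ P0, x ∉ Q ∧ x ∈ normalizer (Q : Set G) := by
    have hnil : Group.IsNilpotent P0 := hP0p.isNilpotent
    have hlt : Q.subgroupOf P0 < ⊤ := lt_top_iff_ne_top.mpr fun h =>
      hneQ (le_antisymm hQP0 (subgroupOf_eq_top.mp h))
    obtain ⟨x, hxN, hxQ⟩ := SetLike.exists_of_lt (Group.normalizerCondition_of_isNilpotent _ hlt)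
    refine ⟨x, x.2, fun h => hxQ (mem_subgroupOf.mpr h), ?_⟩
    rw [Subgroup.mem_normalizer_iff]
    intro y
    by_cases hy : y ∈ P0
    · exact Subgroup.mem_normalizer_iff.mp hxN ⟨y, hy⟩
    · refine ⟨fun h => absurd (hQP0 h) hy, fun h => absurd ?_ hy⟩
      have h1 := P0.mul_mem (P0.mul_mem (P0.inv_mem x.2) (hQP0 h)) x.2
      simpa [mul_assoc] using h1
  let R : Subgroup G := P0 ⊓ normalizer (Q : Set G)
  obtain ⟨Q1, hQ1p, hRQ1, hQ1le, hQ1max, -⟩ := exists_max_pgroup (D ⊓ normalizer (Q : Set G)) R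
    (hP0p.to_le inf_le_left) (le_inf (inf_le_left.trans hP0D) inf_le_right)
  have hQQ1 : Q ≤ Q1 := (le_inf hQP0 Subgroup.le_normalizer).trans hRQ1
  have hxQ1 : x ∈ Q1 := hRQ1 ⟨hxP0, hxN⟩
  have hK3 := hK2.normalizer_sylow hQ1p hQ1le hQ1max
  obtain ⟨c, hc⟩ := hK3.exists_covers_stabilizer hm
  obtain ⟨g, hg, hgD⟩ := exists_out hc hm
  obtain ⟨⟨k, hkN⟩, hk⟩ : c ∈ orbit (normalizer (Q : Set G)) a :=
    mem_orbit_of_fix (by rw [inf_comm]; exact hK1) hg.1.1 hgD hg.2
  replace hk : k • a = c := hk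
  have hQfix : ∀ q ∈ Q, q • c = c := by
    intro q hq
    have h1 : k⁻¹ * q * k ∈ Q := (Subgroup.mem_normalizer_iff'.mp hkN (k⁻¹ * q)).mpr (by simpa [mul_assoc] using hq)
    rw [← hk, ← mul_smul, show q * k = k * (k⁻¹ * q * k) by group, mul_smul,
      mem_stabilizer_iff.mp (hQle h1).2]
  have hint : Q1 ⊓ stabilizer G c = Q := by
    refine le_antisymm (fun y hy => ?_) fun q hq => ⟨hQQ1 hq, hQfix q hq⟩
    have h1 : (Q1 ⊓ stabilizer G c).map (MulAut.conj k⁻¹).toMonoidHom = Q := by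
      refine hQmax _ ((hQ1p.to_le inf_le_left).map _) ?_ ?_
      · intro q hq
        refine ⟨k * q * k⁻¹, ?_, by simp [mul_assoc]⟩
        have h2 : k * q * k⁻¹ ∈ Q := (Subgroup.mem_normalizer_iff.mp hkN q).mp hq
        exact ⟨hQQ1 h2, hQfix _ h2⟩
      · rintro _ ⟨z, hz, rfl⟩
        refine ⟨hnorm.conj_mem z (hQ1le hz.1).1 k⁻¹, ?_⟩
        show (MulAut.conj k⁻¹ z) ∈ stabilizer G a
        rw [MulAut.conj_apply, inv_inv, mem_stabilizer_iff, mul_smul, mul_smul, hk,
          mem_stabilizer_iff.mp hz.2, inv_smul_eq_iff, hk]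
    have h2 : MulAut.conj k⁻¹ y ∈ Q := h1 ▸ ⟨y, hy, rfl⟩
    rw [MulAut.conj_apply, inv_inv] at h2
    have h3 := (Subgroup.mem_normalizer_iff.mp hkN _).mp h2
    simpa [mul_assoc] using h3
  have hcard : (orbit Q1 c).ncard * Nat.card Q = Nat.card Q1 := by
    have h1 := (stabilizer Q1 c).index_mul_card
    rw [index_stabilizer] at h1
    have e : Nat.card (stabilizer Q1 c) = Nat.card ↥(Q1 ⊓ stabilizer G c) :=
      Nat.card_congr
        { toFun := fun s => ⟨s.1.1, s.1.2, s.2⟩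
          invFun := fun s => ⟨⟨s.1, s.2.1⟩, s.2.2⟩
          left_inv := fun s => rfl
          right_inv := fun s => rfl }
    rw [e, hint] at h1
    exact h1
  set f := (orbit Q1 c).ncard
  have hfdvd : f ∣ Nat.card Ω := by
    have h1 : Nat.card Q1 ∣ Nat.card D :=
      Subgroup.card_dvd_of_le (hQ1le.trans inf_le_left)
    rw [hDcard, ← hcard, show Nat.card Ω * (Nat.card Q * r) = Nat.card Ω * r * Nat.card Q by ring] at h1
    have h2 := Nat.dvd_of_mul_dvd_mul_right Nat.card_pos h1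
    refine Nat.Coprime.dvd_of_dvd_mul_right ?_ h2
    obtain ⟨i, hi⟩ := hQ1p.exists_card_eq
    obtain ⟨j, -, hj⟩ := (Nat.dvd_prime_pow hp).mp (hi ▸ (Dvd.intro _ hcard : f ∣ Nat.card Q1))
    rw [hj]
    exact Nat.Coprime.pow_left _ (hp.coprime_iff_not_dvd.mpr hr)
  have hf1 : 1 < f := by
    by_contra h
    have h1 : Nat.card Q1 ≤ Nat.card Q := by
      rw [← hcard]; exact (Nat.mul_le_mul_right _ (not_lt.mp h)).trans (one_mul _).le
    exact hxQ ((eq_of_le_of_card_ge hQQ1 h1).symm ▸ hxQ1)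
  have hfn : f = Nat.card Ω := by
    refine le_antisymm (Nat.le_of_dvd (by omega) hfdvd) (not_lt.mp fun h => hnb ?_)
    exact hc.bound_of_invariant inf_le_right (orbit Q1 c) (mem_orbit_self c)
      (fun s hs y hy => smul_mem_orbit_of_normalizer hs.1.2 hs.2 hy) hfdvd hf1 h
  have huniv : orbit Q1 c = Set.univ :=
    Set.eq_of_subset_of_ncard_le (Set.subset_univ _) (by rw [Set.ncard_univ]; exact hfn.ge)
  have hQbot : Q = ⊥ := by
    refine (Subgroup.eq_bot_iff_forall Q).mpr fun q hq => eq_of_smul_eq_smul (α := Ω) fun b => ?_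
    obtain ⟨⟨y, hy⟩, rfl⟩ : b ∈ orbit Q1 c := huniv ▸ Set.mem_univ b
    show q • y • c = (1 : G) • y • c
    have h1 : y⁻¹ * q * y ∈ Q := (Subgroup.mem_normalizer_iff'.mp (hQ1le hy).2 (y⁻¹ * q)).mpr
      (by simpa [mul_assoc] using hq)
    rw [one_smul, ← mul_smul, show q * y = y * (y⁻¹ * q * y) by group, mul_smul, hQfix _ h1]
  subst hQbot
  rw [Subgroup.card_bot, one_mul] at hrQ
  rw [Subgroup.card_bot, mul_one, hfn] at hcard
  have hcardc : Nat.card ↥(D ⊓ stabilizer G c) = r := by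
    have h1 := card_der (G := G) c
    have h2 := card_der (G := G) a
    rw [h1, ← hDdef, hrQ] at h2
    exact Nat.eq_of_mul_eq_mul_left (by omega) h2
  have hfree : ∀ y ∈ Q1, ∀ b : Ω, y • b = b → y = 1 := by
    intro y hy b hb
    rw [← orderOf_eq_one_iff]
    have h1 : orderOf y ∣ Nat.card ↥(D ⊓ stabilizer G b) :=
      Subgroup.orderOf_dvd_natCard _ ⟨(hQ1le hy).1, hb⟩
    have h2 : Nat.card ↥(D ⊓ stabilizer G b) = r := by
      have h3 := card_der (G := G) b
      have h4 := card_der (G := G) a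
      rw [h3, ← hDdef, hrQ] at h4
      exact Nat.eq_of_mul_eq_mul_left (by omega) h4
    rw [h2] at h1
    obtain ⟨i, hi⟩ := hQ1p.exists_card_eq
    have h5 : orderOf y ∣ p ^ i := hi ▸ Subgroup.orderOf_dvd_natCard _ hy
    exact Nat.eq_one_of_dvd_coprimes
      (Nat.Coprime.pow_left i (hp.coprime_iff_not_dvd.mpr hr)) h5 h1
  have hKN : Covers Ω (normalizer (Q1 : Set G)) := hK3.mono inf_le_right
  -- subgroups of `Q1` normalised by its normaliser
  have hmin : ∀ Y ≤ Q1, Y ≠ ⊥ → normalizer (Q1 : Set G) ≤ normalizer (Y : Set G) → Y = Q1 := by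
    intro Y hY hYne hN
    by_contra hne
    refine hnb (hKN.bound_of_free hm hN (fun y hy => hfree y (hY hy))
      ((Subgroup.one_lt_card_iff_ne_bot Y).mpr hYne) ?_)
    rw [hcard]
    exact lt_of_le_of_ne (Subgroup.card_le_of_le hY) fun e => hne (eq_of_le_of_card_ge hY e.ge)
  have hQ1ne : Q1 ≠ ⊥ := (Subgroup.one_lt_card_iff_ne_bot Q1).mp (hcard ▸ hn)
  haveI : Nontrivial Q1 := (Subgroup.nontrivial_iff_ne_bot Q1).mpr hQ1ne
  have hcomm : ∀ y ∈ Q1, ∀ z ∈ Q1, y * z = z * y := by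
    have hY := hmin (Q1 ⊓ centralizer (Q1 : Set G)) inf_le_left ?_ ?_
    · intro y hy z hz
      exact (mem_centralizer_iff.mp ((hY.symm ▸ hy : y ∈ Q1 ⊓ centralizer (Q1 : Set G))).2 z hz).symm
    · intro hbot
      haveI := hQ1p.center_nontrivial
      obtain ⟨z, hz⟩ := exists_ne (1 : center Q1)
      refine hz (Subtype.ext (Subtype.ext ?_))
      have : ((z : Q1) : G) ∈ Q1 ⊓ centralizer (Q1 : Set G) := ⟨z.1.2,
        mem_centralizer_iff.mpr fun y hy => congrArg Subtype.val (mem_center_iff.mp z.2 ⟨y, hy⟩)⟩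
      rw [hbot, mem_bot] at this
      exact this
    · exact fun g hg => by
        have hC : ∀ h : G, h ∈ normalizer (Q1 : Set G) → ∀ y ∈ Q1 ⊓ centralizer (Q1 : Set G),
            h * y * h⁻¹ ∈ Q1 ⊓ centralizer (Q1 : Set G) := by
          intro h hh y hy
          refine ⟨(Subgroup.mem_normalizer_iff.mp hh y).mp hy.1, mem_centralizer_iff.mpr fun z hz => ?_⟩
          have h1 : h⁻¹ * z * h ∈ Q1 := (Subgroup.mem_normalizer_iff'.mp hh (h⁻¹ * z)).mpr (by simpa [mul_assoc] using hz)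
          have h2 := mem_centralizer_iff.mp hy.2 _ h1
          calc z * (h * y * h⁻¹) = h * ((h⁻¹ * z * h) * y) * h⁻¹ := by group
            _ = h * (y * (h⁻¹ * z * h)) * h⁻¹ := by rw [h2]
            _ = h * y * h⁻¹ * z := by group
        rw [Subgroup.mem_normalizer_iff]
        intro y
        refine ⟨hC g hg y, fun h => ?_⟩
        have := hC g⁻¹ ((normalizer (Q1 : Set G)).inv_mem hg) _ h
        simpa [mul_assoc] using this
  have hpow : ∀ y ∈ Q1, y ^ p = 1 := by
    let Y : Subgroup G :=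
      { carrier := {y | y ∈ Q1 ∧ y ^ p = 1}
        one_mem' := ⟨Q1.one_mem, one_pow p⟩
        mul_mem' := fun {y z} hy hz => ⟨Q1.mul_mem hy.1 hz.1, by
          rw [(show Commute y z from hcomm y hy.1 z hz.1).mul_pow, hy.2, hz.2, one_mul]⟩
        inv_mem' := fun {y} hy => ⟨Q1.inv_mem hy.1, by rw [inv_pow, hy.2, inv_one]⟩ }
    have hY := hmin Y (fun y hy => hy.1) ?_ ?_
    · exact fun y hy => (hY.symm ▸ hy : y ∈ Y).2
    · intro hbot
      obtain ⟨i, hi⟩ := hQ1p.exists_card_eq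
      have hi0 : i ≠ 0 := fun h => by
        rw [h, pow_zero] at hi; omega
      obtain ⟨y, hy⟩ := exists_prime_orderOf_dvd_card' (G := Q1) p (hi ▸ dvd_pow_self p hi0)
      have : (y : G) ∈ Y := ⟨y.2, by
        rw [← Subgroup.coe_pow, ← hy, pow_orderOf_eq_one]; rfl⟩
      rw [hbot, mem_bot] at this
      rw [Subgroup.orderOf_coe y |>.symm, this, orderOf_one] at hy
      exact hp.one_lt.ne hy
    · intro g hg
      rw [Subgroup.mem_normalizer_iff]
      intro y
      show (y ∈ Q1 ∧ y ^ p = 1) ↔ (g * y * g⁻¹ ∈ Q1 ∧ (g * y * g⁻¹) ^ p = 1)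
      rw [← Subgroup.mem_normalizer_iff.mp hg y, conj_pow, conj_eq_one_iff]
  exact ⟨p, Q1, c, hp, hQ1p, hQ1le.trans inf_le_left, hcard.symm, hcardc ▸ hr, hfree,
    hc.mono fun s hs => ⟨hs.2, hs.1.2⟩, hcomm, hpow⟩

end CfsgLib.Derangements
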