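import Mathlib
import Cfsg.Agent.Lib.Derangements.Reduce

/-!
# Fixed points in the regular subgroup: orbit divisibility, conjugate counting, independence
-/

set_option autoImplicit false
set_option linter.unusedSectionVars false
set_option linter.style.haveILetI false

namespace CfsgLib.Derangements

open MulAction Subgroup

variable {G : Type*} [Group G] {Ω : Type*} [MulAction G Ω]

/-- If all orbits inside an invariant set have the same size, it divides the size of the set. -/
theorem dvd_ncard_of_uniform [Finite Ω] {R : Subgroup G} (F : Set Ω)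
    (hinv : ∀ r ∈ R, ∀ y ∈ F, r • y ∈ F) (d : ℕ)
    (hd : ∀ y ∈ F, Nat.card (orbit R y) = d) : d ∣ F.ncard := by
  classical
  let F' : SubMulAction R Ω := ⟨F, fun s y hy => hinv s.1 s.2 y hy⟩
  rw [← Nat.card_coe_set_eq]
  haveI : Finite (Quotient (orbitRel R F')) := Quotient.finite _
  haveI := Fintype.ofFinite (Quotient (orbitRel R F'))
  show _ ∣ Nat.card F'
  rw [Nat.card_congr (selfEquivSigmaOrbits R F'), Nat.card_sigma]
  refine Finset.dvd_sum fun q _ => ?_
  rw [← Nat.card_image_of_injective Subtype.val_injective, SubMulAction.val_image_orbit]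
  exact (hd _ q.out.2).symm.dvd

theorem card_orbit_mul [Finite G] (S : Subgroup G) (b : Ω) :
    Nat.card (orbit S b) * Nat.card ↥(S ⊓ stabilizer G b) = Nat.card S := by
  have h1 := (stabilizer S b).index_mul_card
  rw [index_stabilizer, ← Nat.card_coe_set_eq] at h1
  have e : Nat.card (stabilizer S b) = Nat.card ↥(S ⊓ stabilizer G b) :=
    Nat.card_congr
      { toFun := fun s => ⟨s.1.1, s.1.2, s.2⟩
        invFun := fun s => ⟨⟨s.1, s.2.1⟩, s.2.2⟩
        left_inv := fun s => rfl
        right_inv := fun s => rfl }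
  rw [← e]; exact h1

variable [Finite G] [IsPretransitive G Ω] [Finite Ω]

/-- Orbit lengths on an invariant set moved freely outside the derangement subgroup. -/
theorem dvd_ncard_of_stabilizer {S R X : Subgroup G} {a : Ω} (hS : S ≤ stabilizer G a)
    (hR : R ≤ derSubgroup G Ω ⊓ S) (F : Set Ω) (hinv : ∀ s ∈ S, ∀ y ∈ F, s • y ∈ F) (haF : a ∉ F)
    (hX : ∀ y ∈ F, R ⊓ stabilizer G y = X) :
    (derSubgroup G Ω).relIndex S * (Nat.card R / Nat.card X) ∣ F.ncard := by
  classical
  set D := derSubgroup G Ω with hD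
  let F' : SubMulAction S Ω := ⟨F, fun s y hy => hinv s.1 s.2 y hy⟩
  rw [← Nat.card_coe_set_eq]
  haveI : Finite (Quotient (orbitRel S F')) := Quotient.finite _
  haveI := Fintype.ofFinite (Quotient (orbitRel S F'))
  show _ ∣ Nat.card F'
  rw [Nat.card_congr (selfEquivSigmaOrbits S F'), Nat.card_sigma]
  refine Finset.dvd_sum fun q _ => ?_
  rw [← Nat.card_image_of_injective Subtype.val_injective, SubMulAction.val_image_orbit]
  set b : Ω := ((q.out : F') : Ω) with hb
  have hbF : b ∈ F := q.out.2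
  have hstab : S ⊓ stabilizer G b = (D ⊓ S) ⊓ stabilizer G b := by
    refine le_antisymm (fun s hs => ⟨⟨?_, hs.1⟩, hs.2⟩) fun s hs => ⟨hs.1.2, hs.2⟩
    by_contra h
    exact haF (eq_of_fix h (mem_stabilizer_iff.mp (hS hs.1)) (mem_stabilizer_iff.mp hs.2) ▸ hbF)
  have h1 := card_orbit_mul S b
  have h2 := card_orbit_mul (D ⊓ S) b
  rw [hstab, ← card_inf_mul (Ω := Ω) S, ← hD, ← h2] at h1
  have hpos : 0 < Nat.card ↥((D ⊓ S) ⊓ stabilizer G b) := Nat.card_pos
  have h3 : Nat.card (orbit S b) = Nat.card (orbit ↥(D ⊓ S) b) * D.relIndex S :=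
    Nat.eq_of_mul_eq_mul_right hpos (h1.trans (by ring))
  rw [h3, mul_comm (Nat.card (orbit ↥(D ⊓ S) b))]
  refine mul_dvd_mul_left _ ?_
  rw [Nat.card_coe_set_eq]
  refine dvd_ncard_of_uniform (R := R) _ (fun r hr y hy => ?_) _ fun y hy => ?_
  · obtain ⟨s, rfl⟩ := hy
    exact ⟨⟨r, hR hr⟩ * s, mul_smul r (s : G) b⟩
  · have hyF : y ∈ F := by
      obtain ⟨s, rfl⟩ := hy
      exact hinv s.1 s.2.2 b hbF
    have h4 := card_orbit_mul R y
    rw [hX y hyF] at h4
    exact (Nat.div_eq_of_eq_mul_left Nat.card_pos h4.symm).symm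

/-- The conjugates of `X` under `K`. -/
def conjSet (K X : Subgroup G) : Set (Subgroup G) :=
  {Y | ∃ k ∈ K, X.map (MulAut.conj k).toMonoidHom = Y}

omit [IsPretransitive G Ω] [Finite Ω] in
theorem map_conj_conj (X : Subgroup G) (g h : G) :
    (X.map (MulAut.conj g).toMonoidHom).map (MulAut.conj h).toMonoidHom =
      X.map (MulAut.conj (h * g)).toMonoidHom := by
  rw [Subgroup.map_map]
  congr 1
  ext x
  simp [mul_assoc]

omit [IsPretransitive G Ω] [Finite Ω] in
theorem map_conj_eq_iff (X : Subgroup G) (g : G) :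
    X.map (MulAut.conj g).toMonoidHom = X ↔ g ∈ normalizer (X : Set G) := by
  rw [Subgroup.mem_normalizer_iff]
  constructor
  · intro h y
    refine ⟨fun hy => h ▸ ⟨y, hy, rfl⟩, fun hy => ?_⟩
    obtain ⟨z, hz, hze⟩ := (h.symm ▸ hy : g * y * g⁻¹ ∈ X.map (MulAut.conj g).toMonoidHom)
    obtain rfl : z = y := (MulAut.conj g).injective hze
    exact hz
  · intro h
    ext y
    refine ⟨?_, fun hy => ⟨g⁻¹ * y * g, ?_, by simp [mul_assoc]⟩⟩
    · rintro ⟨z, hz, rfl⟩
      exact (h z).mp hz
    · refine (h _).mpr ?_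
      simpa [mul_assoc] using hy

omit [IsPretransitive G Ω] [Finite Ω] in
theorem card_conjSet (K X : Subgroup G) :
    (conjSet K X).ncard * Nat.card ↥(K ⊓ normalizer (X : Set G)) = Nat.card K := by
  classical
  rw [← Nat.card_coe_set_eq]
  have e : Nat.card (conjSet K X) = ((normalizer (X : Set G)).subgroupOf K).index := by
    refine (Nat.card_congr (Equiv.ofBijective
      (Quotient.lift (fun k : K => (⟨X.map (MulAut.conj (k : G)).toMonoidHom, k, k.2, rfl⟩ : conjSet K X))
        ?_) ⟨?_, ?_⟩)).symm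
    · intro k k' h
      replace h := QuotientGroup.leftRel_apply.mp h
      rw [mem_subgroupOf] at h
      refine Subtype.ext ?_
      show X.map (MulAut.conj (k : G)).toMonoidHom = X.map (MulAut.conj (k' : G)).toMonoidHom
      conv_lhs => rw [← (map_conj_eq_iff X _).mpr h]
      rw [map_conj_conj]
      simp [mul_assoc]
    · rintro ⟨k⟩ ⟨k'⟩ h
      refine Quotient.sound ?_
      show QuotientGroup.leftRel _ k k'
      rw [QuotientGroup.leftRel_apply, mem_subgroupOf, ← map_conj_eq_iff]
      have h' : X.map (MulAut.conj (k : G)).toMonoidHom = X.map (MulAut.conj (k' : G)).toMonoidHom :=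
        congrArg Subtype.val h
      rw [Subgroup.coe_mul, Subgroup.coe_inv, ← map_conj_conj, ← h', map_conj_conj, inv_mul_cancel,
        map_conj_eq_iff]
      exact Subgroup.one_mem _
    · rintro ⟨Y, k, hk, rfl⟩
      exact ⟨Quotient.mk'' ⟨k, hk⟩, rfl⟩
  have h1 := ((normalizer (X : Set G)).subgroupOf K).index_mul_card
  have e2 : Nat.card ((normalizer (X : Set G)).subgroupOf K) =
      Nat.card ↥(K ⊓ normalizer (X : Set G)) :=
    Nat.card_congr
      { toFun := fun s => ⟨s.1.1, s.1.2, s.2⟩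
        invFun := fun s => ⟨⟨s.1, s.2.1⟩, s.2.2⟩
        left_inv := fun s => rfl
        right_inv := fun s => rfl }
  rw [e, ← e2]; exact h1

omit [IsPretransitive G Ω] [Finite Ω] in
theorem conjSet_ncard_pos (K X : Subgroup G) : 0 < (conjSet K X).ncard := by
  have h := card_conjSet K X
  have := Nat.card_pos (α := K)
  rcases Nat.eq_zero_or_pos (conjSet K X).ncard with h0 | h0
  · rw [h0, zero_mul] at h; omega
  · exact h0

/-- Conjugates under a covering subgroup against conjugates inside the derangement subgroup. -/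
theorem index_mul_conjSet_le {L R X : Subgroup G} (hL : Covers Ω L)
    (hR : R ≤ derSubgroup G Ω ⊓ L) :
    (derSubgroup G Ω).index * (conjSet R X).ncard ≤
      (conjSet L X).ncard * (derSubgroup G Ω).relIndex (L ⊓ normalizer (X : Set G)) := by
  set D := derSubgroup G Ω with hD
  have h1 := card_conjSet L X
  have h2 := card_conjSet (D ⊓ L) X
  have h3 := card_inf_mul (Ω := Ω) L
  have h4 := card_inf_mul (Ω := Ω) (L ⊓ normalizer (X : Set G))
  rw [hL.relIndex_eq] at h3
  rw [← hD] at h3 h4
  rw [← inf_assoc] at h4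
  have hle : (conjSet R X).ncard ≤ (conjSet (D ⊓ L) X).ncard :=
    Set.ncard_le_ncard (fun Y ⟨k, hk, hY⟩ => ⟨k, hR hk, hY⟩)
  have key : D.index * (conjSet (D ⊓ L) X).ncard =
      (conjSet L X).ncard * D.relIndex (L ⊓ normalizer (X : Set G)) := by
    refine Nat.eq_of_mul_eq_mul_right (Nat.card_pos (α := ↥(D ⊓ L ⊓ normalizer (X : Set G)))) ?_
    calc D.index * (conjSet (D ⊓ L) X).ncard * Nat.card ↥(D ⊓ L ⊓ normalizer (X : Set G))
        = D.index * Nat.card ↥(D ⊓ L) := by rw [mul_assoc, h2]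
      _ = Nat.card L := by rw [mul_comm, h3]
      _ = _ := by rw [← h1, ← h4]; ring
  exact (Nat.mul_le_mul_left _ hle).trans key.le

end CfsgLib.Derangements
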