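import Mathlib
import Cfsg.Agent.Lib.Derangements.AffineTools

/-!
# Coprime fixed points on the regular subgroup
-/

set_option autoImplicit false
set_option linter.unusedSectionVars false
set_option linter.style.haveILetI false

namespace CfsgLib.Derangements

open MulAction Subgroup

variable {G : Type*} [Group G]

/-- The elements of `P` fixed by `X` under conjugation. -/
def fixIn (P X : Subgroup G) : Subgroup G := P ⊓ centralizer (X : Set G)

theorem fixIn_le (P X : Subgroup G) : fixIn P X ≤ P := inf_le_left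

theorem mem_fixIn {P X : Subgroup G} {y : G} :
    y ∈ fixIn P X ↔ y ∈ P ∧ ∀ x ∈ X, x * y = y * x := by
  rw [fixIn, Subgroup.mem_inf, mem_centralizer_iff]
  rfl

theorem normalizer_le_fixIn {P X : Subgroup G} {g : G} (hgP : g ∈ normalizer (P : Set G))
    (hgX : g ∈ normalizer (X : Set G)) : g ∈ normalizer (fixIn P X : Set G) := by
  have key : ∀ h : G, h ∈ normalizer (P : Set G) → h ∈ normalizer (X : Set G) →
      ∀ y ∈ fixIn P X, h * y * h⁻¹ ∈ fixIn P X := by
    intro h hP hX y hy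
    rw [mem_fixIn] at hy ⊢
    refine ⟨(Subgroup.mem_normalizer_iff.mp hP y).mp hy.1, fun x hx => ?_⟩
    have h1 : h⁻¹ * x * h ∈ X :=
      (Subgroup.mem_normalizer_iff'.mp hX (h⁻¹ * x)).mpr (by simpa [mul_assoc] using hx)
    calc x * (h * y * h⁻¹) = h * ((h⁻¹ * x * h) * y) * h⁻¹ := by group
      _ = h * (y * (h⁻¹ * x * h)) * h⁻¹ := by rw [hy.2 _ h1]
      _ = h * y * h⁻¹ * x := by group
  rw [Subgroup.mem_normalizer_iff]
  intro y
  refine ⟨key g hgP hgX y, fun h => ?_⟩
  have := key g⁻¹ ((normalizer (P : Set G)).inv_mem hgP) ((normalizer (X : Set G)).inv_mem hgX) _ h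
  simpa [mul_assoc] using this

variable {Ω : Type*} [MulAction G Ω]

theorem RegularConfig.smul_smul_eq {p : ℕ} {P : Subgroup G} {a : Ω} (_cfg : RegularConfig Ω p P a)
    {g : G} (hg : g • a = a) (y : G) : g • y • a = (g * y * g⁻¹) • a := by
  rw [mul_smul, mul_smul, inv_smul_eq_iff.mpr hg.symm]

theorem RegularConfig.injective {p : ℕ} {P : Subgroup G} {a : Ω} (cfg : RegularConfig Ω p P a)
    {y z : G} (hy : y ∈ P) (hz : z ∈ P) (h : y • a = z • a) : y = z :=
  (inv_mul_eq_one.mp (cfg.free _ (P.mul_mem (P.inv_mem hz) hy) a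
    (by rw [mul_smul, h, inv_smul_smul]))).symm

theorem RegularConfig.smul_eq_iff {p : ℕ} {P : Subgroup G} {a : Ω} (cfg : RegularConfig Ω p P a)
    {g y : G} (hg : g • a = a) (hgP : g ∈ normalizer (P : Set G)) (hy : y ∈ P) :
    g • y • a = y • a ↔ g * y = y * g := by
  rw [cfg.smul_smul_eq hg, ← mul_inv_eq_iff_eq_mul]
  exact ⟨cfg.injective ((Subgroup.mem_normalizer_iff.mp hgP y).mp hy) hy, fun h => by rw [h]⟩

variable [Finite G] [IsPretransitive G Ω] [Finite Ω]
variable {p : ℕ} {P : Subgroup G} {a : Ω}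

theorem RegularConfig.orbit_eq_univ (cfg : RegularConfig Ω p P a) :
    ∀ b : Ω, ∃ y ∈ P, y • a = b := by
  intro b
  let f : P → Ω := fun y => (y : G) • a
  have hf : Function.Injective f := fun y z h => Subtype.ext (cfg.injective y.2 z.2 h)
  obtain ⟨y, hy⟩ := (hf.bijective_of_nat_card_le cfg.card_eq.ge).2 b
  exact ⟨y, y.2, hy⟩

/-- An element of the stabiliser outside the derangement subgroup centralises no element of `P`. -/
theorem RegularConfig.eq_one_of_comm (cfg : RegularConfig Ω p P a) {g y : G} (hg : g • a = a)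
    (hgP : g ∈ normalizer (P : Set G)) (hgD : g ∉ derSubgroup G Ω) (hy : y ∈ P)
    (h : g * y = y * g) : y = 1 :=
  cfg.free y hy a (eq_of_fix hgD ((cfg.smul_eq_iff hg hgP hy).mpr h) hg)

theorem RegularConfig.fixIn_ne_self [FaithfulSMul G Ω] (cfg : RegularConfig Ω p P a) {X : Subgroup G}
    (hX : X ≤ stabilizer G a ⊓ normalizer (P : Set G)) (hne : X ≠ ⊥) : fixIn P X ≠ P := by
  intro h
  refine hne ((Subgroup.eq_bot_iff_forall X).mpr fun x hx => eq_of_smul_eq_smul (α := Ω) fun b => ?_)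
  obtain ⟨y, hy, rfl⟩ := cfg.orbit_eq_univ b
  rw [one_smul]
  exact (cfg.smul_eq_iff (hX hx).1 (hX hx).2 hy).mpr ((mem_fixIn.mp (h.symm ▸ hy)).2 x hx)

/-- A non-trivial subgroup of the stabiliser normalised by a covering subgroup fixes nothing. -/
theorem RegularConfig.fixIn_eq_bot [FaithfulSMul G Ω] (cfg : RegularConfig Ω p P a)
    (hm : 2 ≤ (derSubgroup G Ω).index)
    (hnb : ¬ ((derSubgroup G Ω).index + 1) ^ 2 ≤ Nat.card Ω) {X K : Subgroup G}
    (hX : X ≤ stabilizer G a ⊓ normalizer (P : Set G)) (hne : X ≠ ⊥) (hK : Covers Ω K)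
    (hKP : K ≤ normalizer (P : Set G)) (hKX : K ≤ normalizer (X : Set G)) : fixIn P X = ⊥ := by
  by_contra h
  refine hnb (hK.bound_of_free hm (Y := fixIn P X) (fun g hg => normalizer_le_fixIn (hKP hg) (hKX hg))
    (fun y hy => cfg.free y hy.1) ((Subgroup.one_lt_card_iff_ne_bot _).mpr h) ?_)
  rw [← cfg.card_eq]
  exact lt_of_le_of_ne (Subgroup.card_le_of_le (fixIn_le P X)) fun e =>
    cfg.fixIn_ne_self hX hne (eq_of_le_of_card_ge (fixIn_le P X) e.ge)

theorem RegularConfig.coprime_card (cfg : RegularConfig Ω p P a) {E : Subgroup G}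
    (hE : E ≤ derSubgroup G Ω ⊓ stabilizer G a) : (Nat.card P).Coprime (Nat.card E) := by
  haveI : Fact p.Prime := ⟨cfg.prime⟩
  obtain ⟨i, hi⟩ := cfg.pgroup.exists_card_eq
  rw [hi]
  refine Nat.Coprime.pow_left i (cfg.prime.coprime_iff_not_dvd.mpr fun h => cfg.coprime ?_)
  exact h.trans (Subgroup.card_dvd_of_le hE)

/-- A power prime to `p` is injective on `P`. -/
theorem RegularConfig.pow_eq_one (cfg : RegularConfig Ω p P a) {y : G} (hy : y ∈ P) {k : ℕ}
    (hk : (Nat.card P).Coprime k) (h : y ^ k = 1) : y = 1 := by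
  rw [← orderOf_eq_one_iff]
  exact Nat.eq_one_of_dvd_coprimes hk (Subgroup.orderOf_dvd_natCard _ hy)
    (orderOf_dvd_of_pow_eq_one h)

/-- Fixed point subgroups of subgroups joining to a fixed-point-free abelian group are
independent. -/
theorem RegularConfig.prod_card_le (cfg : RegularConfig Ω p P a) {E : Subgroup G}
    (hED : E ≤ derSubgroup G Ω ⊓ stabilizer G a) (hEP : E ≤ normalizer (P : Set G))
    (hEc : ∀ x ∈ E, ∀ y ∈ E, x * y = y * x) (hE0 : fixIn P E = ⊥) {ι : Type*} [Fintype ι]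
    (H : ι → Subgroup G) (hHE : ∀ i, H i ≤ E) (hjoin : ∀ i j, i ≠ j → E ≤ H i ⊔ H j) :
    ∏ i, Nat.card (fixIn P (H i)) ≤ Nat.card Ω := by
  classical
  letI : CommGroup P := { mul_comm := fun x y => Subtype.ext (cfg.comm x x.2 y y.2) }
  haveI : ∀ i, Fintype (H i) := fun i => Fintype.ofFinite _
  let φ : E → P → P := fun e y =>
    ⟨(e : G) * y * (e : G)⁻¹, (Subgroup.mem_normalizer_iff.mp (hEP e.2) y).mp y.2⟩
  have hφmul : ∀ e y z, φ e (y * z) = φ e y * φ e z := fun e y z =>
    Subtype.ext (by simp [φ, mul_assoc])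
  let φh : E → (P →* P) := fun e => MonoidHom.mk' (φ e) (hφmul e)
  have hφφ : ∀ e e' y, φ e (φ e' y) = φ (e * e') y := fun e e' y =>
    Subtype.ext (by simp [φ, mul_assoc])
  have hfix : ∀ {X : Subgroup G}, X ≤ E → ∀ y : P,
      ((y : G) ∈ fixIn P X ↔ ∀ e : E, (e : G) ∈ X → φ e y = y) := by
    intro X hX y
    rw [mem_fixIn]
    constructor
    · intro h e he
      refine Subtype.ext ?_
      show (e : G) * y * (e : G)⁻¹ = y
      rw [h.2 _ he, mul_inv_cancel_right]
    · intro h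
      refine ⟨y.2, fun x hx => ?_⟩
      have := congrArg Subtype.val (h ⟨x, hX hx⟩ hx)
      exact mul_inv_eq_iff_eq_mul.mp this
  let π : ι → (P →* P) := fun i => ∏ h : H i, φh ⟨h, hHE i h.2⟩
  have hπ : ∀ i y, π i y = ∏ h : H i, φ ⟨h, hHE i h.2⟩ y := fun i y => by
    simp [π, φh]
  -- the norm map on its own fixed points is a power
  have hself : ∀ i (y : P), (y : G) ∈ fixIn P (H i) → π i y = y ^ Nat.card (H i) := by
    intro i y hy
    rw [hπ, Finset.prod_congr rfl
        (fun (h : H i) _ => (hfix (hHE i) y).mp hy ⟨(h : G), hHE i h.2⟩ h.2),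
      Finset.prod_const, Finset.card_univ, Nat.card_eq_fintype_card]
  -- and vanishes on the others
  have hother : ∀ i j, i ≠ j → ∀ y : P, (y : G) ∈ fixIn P (H j) → π i y = 1 := by
    intro i j hij y hy
    have h1 : ((π i y : P) : G) ∈ fixIn P (H i) := by
      rw [hfix (hHE i)]
      intro e he
      show φh e (π i y) = π i y
      rw [hπ, map_prod]
      simp only [φh, MonoidHom.mk'_apply, hφφ]
      exact Equiv.prod_comp (Equiv.mulLeft (⟨e, he⟩ : H i)) (fun h : H i => φ ⟨h, hHE i h.2⟩ y)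
    have h2 : ((π i y : P) : G) ∈ fixIn P (H j) := by
      rw [hfix (hHE j)]
      intro e he
      show φh e (π i y) = π i y
      rw [hπ, map_prod]
      refine Finset.prod_congr rfl fun h _ => ?_
      simp only [φh, MonoidHom.mk'_apply, hφφ]
      rw [show e * (⟨h, hHE i h.2⟩ : E) = (⟨h, hHE i h.2⟩ : E) * e from
        Subtype.ext (hEc _ e.2 _ (hHE i h.2)), ← hφφ, (hfix (hHE j) y).mp hy e he]
    have h3 : ((π i y : P) : G) ∈ fixIn P E := by
      rw [mem_fixIn]
      refine ⟨(π i y).2, fun x hx => ?_⟩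
      have h4 : H i ⊔ H j ≤ centralizer ({((π i y : P) : G)} : Set G) := sup_le
        (fun z hz => mem_centralizer_singleton_iff.mpr ((mem_fixIn.mp h1).2 z hz))
        (fun z hz => mem_centralizer_singleton_iff.mpr ((mem_fixIn.mp h2).2 z hz))
      exact mem_centralizer_singleton_iff.mp (h4 (hjoin i j hij hx))
    rw [hE0, mem_bot] at h3
    exact Subtype.ext h3
  let Φ : (∀ i, fixIn P (H i)) → P := fun v => ∏ i, (⟨v i, fixIn_le P _ (v i).2⟩ : P)
  have hΦ : Function.Injective Φ := by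
    intro v w hvw
    funext i
    have h1 : ∀ u : (∀ i, fixIn P (H i)),
        π i (Φ u) = (⟨u i, fixIn_le P _ (u i).2⟩ : P) ^ Nat.card (H i) := by
      intro u
      simp only [Φ, map_prod]
      rw [Finset.prod_eq_single i (fun j _ hj => hother i j hj.symm _ (u j).2) (by simp)]
      exact hself i _ (u i).2
    have h2 := h1 v
    rw [hvw, h1 w] at h2
    refine Subtype.ext ?_
    set x : P := ⟨v i, fixIn_le P _ (v i).2⟩
    set x' : P := ⟨w i, fixIn_le P _ (w i).2⟩
    have h3 : (x'⁻¹ * x) ^ Nat.card (H i) = 1 := by rw [mul_pow, inv_pow, h2, inv_mul_cancel]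
    have h4 : ((x'⁻¹ * x : P) : G) = 1 :=
      cfg.pow_eq_one (x'⁻¹ * x).2 (cfg.coprime_card ((hHE i).trans hED))
        (by rw [← Subgroup.coe_pow, h3]; rfl)
    exact (inv_mul_eq_one.mp h4).symm
  have h := Nat.card_le_card_of_injective Φ hΦ
  rwa [Nat.card_pi, cfg.card_eq] at h

/-- Of two commuting elements of order `q` acting on an invariant set of fixed points, if the second
is fixed-point-free then some twisted product has a fixed point. -/
theorem RegularConfig.exists_fix_mul (cfg : RegularConfig Ω p P a) {q : ℕ} [hq : Fact q.Prime]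
    (hqP : (Nat.card P).Coprime q) {t z : G} (htz : t * z = z * t) (ht : t ^ q = 1) (hz : z ^ q = 1)
    {W : Subgroup G} (hW : W ≤ P) (htW : t ∈ normalizer (W : Set G))
    (hzW : z ∈ normalizer (W : Set G)) (hfree : ∀ y ∈ W, z * y = y * z → y = 1) {v : G} (hv : v ∈ W)
    (hv1 : v ≠ 1) : ∃ i, ∃ y ∈ W, y ≠ 1 ∧ (t * z ^ i) * y = y * (t * z ^ i) := by
  classical
  by_contra hcon
  push Not at hcon
  letI : CommGroup W := { mul_comm := fun x y => Subtype.ext (cfg.comm x (hW x.2) y (hW y.2)) }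
  have hN : ∀ g : G, g ∈ normalizer (W : Set G) → ∀ y ∈ W, g * y * g⁻¹ ∈ W := fun g hg y hy =>
    (Subgroup.mem_normalizer_iff.mp hg y).mp hy
  let c : normalizer (W : Set G) → (W →* W) := fun g =>
    MonoidHom.mk' (fun y => ⟨(g : G) * y * (g : G)⁻¹, hN g g.2 y y.2⟩)
      fun y y' => Subtype.ext (by simp [mul_assoc])
  have hcc : ∀ g h y, c g (c h y) = c (g * h) y := fun g h y => Subtype.ext (by simp [c, mul_assoc])
  have hc1 : ∀ y, c 1 y = y := fun y => Subtype.ext (by simp [c])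
  -- norms over cyclic subgroups are fixed
  have hnorm : ∀ g : normalizer (W : Set G), g ^ q = 1 → ∀ y,
      c g (∏ i ∈ Finset.range q, c (g ^ i) y) = ∏ i ∈ Finset.range q, c (g ^ i) y := by
    intro g hg y
    rw [map_prod]
    simp only [hcc, ← pow_succ']
    have h1 := Finset.prod_range_succ (fun i => c (g ^ i) y) q
    rw [Finset.prod_range_succ'] at h1
    simp only [hg, pow_zero] at h1
    exact mul_right_cancel h1
  let t' : normalizer (W : Set G) := ⟨t, htW⟩
  let z' : normalizer (W : Set G) := ⟨z, hzW⟩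
  have hcom : Commute t' z' := Subtype.ext htz
  let v' : W := ⟨v, hv⟩
  have ht' : t' ^ q = 1 := Subtype.ext (by simpa [t'] using ht)
  have hz' : z' ^ q = 1 := Subtype.ext (by simpa [z'] using hz)
  have hrow : ∀ i, ∏ j ∈ Finset.range q, c ((t' * z' ^ i) ^ j) v' = 1 := by
    intro i
    have hg : (t' * z' ^ i) ^ q = 1 := by
      rw [(hcom.pow_right i).mul_pow, ht', one_mul, ← pow_mul, mul_comm, pow_mul, hz', one_pow]
    have h1 := congrArg Subtype.val (hnorm _ hg v')
    set y := ∏ j ∈ Finset.range q, c ((t' * z' ^ i) ^ j) v'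
    by_contra hy
    refine hcon i (y : G) y.2 (fun e => hy (Subtype.ext e)) ?_
    simp only [c, MonoidHom.mk'_apply, Subgroup.coe_mul, SubmonoidClass.coe_pow, t', z'] at h1
    exact mul_inv_eq_iff_eq_mul.mp h1
  have hcol : ∀ j ∈ Finset.range q, j ≠ 0 → ∏ i ∈ Finset.range q, c ((t' * z' ^ i) ^ j) v' = 1 := by
    intro j hj hj0
    have e : ∀ i, c ((t' * z' ^ i) ^ j) v' = c (t' ^ j) (c ((z' ^ j) ^ i) v') := fun i => by
      rw [hcc, (hcom.pow_right i).mul_pow, ← pow_mul, mul_comm i j, pow_mul]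
    rw [Finset.prod_congr rfl (fun i _ => e i), ← map_prod]
    have hg : (z' ^ j) ^ q = 1 := by rw [← pow_mul, mul_comm, pow_mul, hz', one_pow]
    have h1 := congrArg Subtype.val (hnorm _ hg v')
    set y := ∏ i ∈ Finset.range q, c ((z' ^ j) ^ i) v'
    simp only [c, MonoidHom.mk'_apply, SubmonoidClass.coe_pow, z'] at h1
    have h2 : (y : G) = 1 := by
      refine hfree _ y.2 ?_
      have hjq : j.Coprime q := (Nat.coprime_comm.mp (hq.out.coprime_iff_not_dvd.mpr fun h =>
        absurd (Nat.le_of_dvd (Nat.pos_of_ne_zero hj0) h) (not_le.mpr (Finset.mem_range.mp hj))))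
      have h3 : z ^ j ∈ centralizer ({(y : G)} : Set G) :=
        mem_centralizer_singleton_iff.mpr (mul_inv_eq_iff_eq_mul.mp h1)
      obtain ⟨k, hk⟩ := exists_pow_eq_self_of_coprime (x := z)
        (Nat.Coprime.of_dvd_right (orderOf_dvd_of_pow_eq_one hz) hjq)
      exact mem_centralizer_singleton_iff.mp (hk ▸ Subgroup.pow_mem _ h3 k)
    have h4 : y = 1 := Subtype.ext h2
    rw [h4, map_one]
  have htot : (∏ i ∈ Finset.range q, ∏ j ∈ Finset.range q, c ((t' * z' ^ i) ^ j) v') = v' ^ q := by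
    rw [Finset.prod_comm, Finset.prod_eq_single 0 (fun j hj hj0 => hcol j hj hj0)
      (fun h => absurd (Finset.mem_range.mpr hq.out.pos) h)]
    simp [hc1]
  rw [Finset.prod_eq_one fun i _ => hrow i] at htot
  refine hv1 (cfg.pow_eq_one (hW hv) hqP ?_)
  have := congrArg Subtype.val htot.symm
  simpa [v'] using this

end CfsgLib.Derangements
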