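import Mathlib

/-!
# Inequalities for the index bound
-/

set_option autoImplicit false

namespace CfsgLib.Derangements

/-- Few components, each large. -/
theorem succ_sq_le_of_blocks {m q k w n : ℕ} (hq : 2 ≤ q) (hk : 2 ≤ k) (hw : q < w)
    (hm : m * q ≤ k * (w - 1)) (hn : w ^ k ≤ n) : (m + 1) ^ 2 ≤ n := by
  have h2 : 2 * m ≤ k * (w - 1) :=
    le_trans (le_trans (le_of_eq (mul_comm _ _)) (Nat.mul_le_mul_left m hq)) hm
  have h3 : k * (w - 1) + k = k * w := by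
    rw [← Nat.mul_succ, Nat.succ_eq_add_one, Nat.sub_add_cancel (by omega)]
  rcases Nat.eq_or_lt_of_le hk with hk2 | hk3
  · subst hk2
    calc (m + 1) ^ 2 ≤ w ^ 2 := Nat.pow_le_pow_left (by omega) 2
      _ ≤ n := hn
  · have key : ∀ j, k = 3 + j → k ^ 2 ≤ 4 * w ^ (j + 1) := by
      intro j hj
      subst hj
      clear * - hw hq
      induction j with
      | zero => simp; omega
      | succ j ih =>
        have h1 : (3 + (j + 1)) ^ 2 ≤ 3 * (3 + j) ^ 2 := by ring_nf; omega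
        calc (3 + (j + 1)) ^ 2 ≤ 3 * (3 + j) ^ 2 := h1
          _ ≤ w * (4 * w ^ (j + 1)) := Nat.mul_le_mul (by omega) ih
          _ = 4 * w ^ (j + 1 + 1) := by ring
    obtain ⟨j, hj⟩ : ∃ j, k = 3 + j := ⟨k - 3, by omega⟩
    have hkey := key j hj
    have h4 : 2 * (m + 1) ≤ k * w := by omega
    have h5 : (2 * (m + 1)) ^ 2 ≤ 4 * w ^ k :=
      calc (2 * (m + 1)) ^ 2 ≤ (k * w) ^ 2 := Nat.pow_le_pow_left h4 2
        _ = k ^ 2 * w ^ 2 := mul_pow k w 2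
        _ ≤ 4 * w ^ (j + 1) * w ^ 2 := Nat.mul_le_mul_right _ hkey
        _ = 4 * w ^ k := by rw [hj]; ring
    rw [mul_pow] at h5
    omega

theorem le_two_pow_of_large : ∀ l : ℕ, 14 ≤ l → 30 * (l + 1) ^ 2 + 6 ≤ 2 ^ l := by
  intro l hl
  induction l, hl using Nat.le_induction with
  | base => norm_num
  | succ l hl ih =>
    rw [pow_succ 2 l]
    nlinarith

/-- Many components: polylogarithmically many classes do not matter. -/
theorem succ_sq_le_of_many {m a k w s n : ℕ} (hk : 3 ≤ k) (ha : 2 ^ a ≤ k) (hw : 2 ≤ w)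
    (hn : w ^ k ≤ n) (hm : m ≤ s * w) (hs : s ≤ (k ^ 5) ^ a) (hN : 2 ^ 10000 ≤ n) :
    (m + 1) ^ 2 ≤ n := by
  rcases Nat.eq_zero_or_pos s with rfl | hspos
  · rw [zero_mul, Nat.le_zero] at hm
    subst hm
    exact le_trans (by norm_num : (0 + 1) ^ 2 ≤ 2 ^ 1)
      ((Nat.pow_le_pow_right (by norm_num) (by norm_num)).trans hN)
  set l := Nat.log 2 k
  have hkl : k < 2 ^ (l + 1) := Nat.lt_pow_succ_log_self (by norm_num) k
  have hlk : 2 ^ l ≤ k := Nat.pow_log_le_self 2 (by omega)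
  have hal : a ≤ l := Nat.le_log_of_pow_le (by norm_num) ha
  have hs1 : s ≤ 2 ^ (5 * (l + 1) * (l + 1)) :=
    calc s ≤ (k ^ 5) ^ a := hs
      _ ≤ ((2 ^ (l + 1)) ^ 5) ^ a := Nat.pow_le_pow_left (Nat.pow_le_pow_left hkl.le 5) a
      _ ≤ ((2 ^ (l + 1)) ^ 5) ^ (l + 1) := Nat.pow_le_pow_right (by positivity) (by omega)
      _ = 2 ^ (5 * (l + 1) * (l + 1)) := by rw [← pow_mul, ← pow_mul]; ring
  have h6 : 64 * s ^ 6 ≤ n := by
    have h1 : 64 * s ^ 6 ≤ 2 ^ (30 * (l + 1) ^ 2 + 6) :=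
      calc 64 * s ^ 6 ≤ 64 * (2 ^ (5 * (l + 1) * (l + 1))) ^ 6 :=
            Nat.mul_le_mul_left _ (Nat.pow_le_pow_left hs1 6)
        _ = 2 ^ (30 * (l + 1) ^ 2 + 6) := by
            rw [← pow_mul, show (64 : ℕ) = 2 ^ 6 by norm_num, ← pow_add]
            congr 1
            ring
    refine h1.trans ?_
    rcases le_or_gt 14 l with h | h
    · calc 2 ^ (30 * (l + 1) ^ 2 + 6) ≤ 2 ^ k :=
            Nat.pow_le_pow_right (by norm_num) ((le_two_pow_of_large l h).trans hlk)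
        _ ≤ w ^ k := Nat.pow_le_pow_left hw k
        _ ≤ n := hn
    · refine le_trans (Nat.pow_le_pow_right (by norm_num) ?_) hN
      have : (l + 1) ^ 2 ≤ 14 ^ 2 := Nat.pow_le_pow_left (by omega) 2
      omega
  have hw3 : w ^ 3 ≤ n := le_trans (Nat.pow_le_pow_right (by omega) hk) hn
  have h7 : m + 1 ≤ 2 * s * w := by nlinarith
  have h8 : ((m + 1) ^ 2) ^ 3 ≤ n ^ 3 :=
    calc ((m + 1) ^ 2) ^ 3 ≤ ((2 * s * w) ^ 2) ^ 3 :=
          Nat.pow_le_pow_left (Nat.pow_le_pow_left h7 2) 3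
      _ = 64 * s ^ 6 * (w ^ 3) ^ 2 := by ring
      _ ≤ n * n ^ 2 := Nat.mul_le_mul h6 (Nat.pow_le_pow_left hw3 2)
      _ = n ^ 3 := by ring
  exact le_of_pow_le_pow_left₀ (by norm_num) (Nat.zero_le _) h8

end CfsgLib.Derangements
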