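import Mathlib
import Cfsg.Agent.Lib.Derangements.AffineFixed
import Cfsg.Agent.Lib.Derangements.IndexArith

/-!
# Abelian subgroups normalised by a covering subgroup

If the index bound fails then such a subgroup has no two independent elements of prime order.
-/

set_option autoImplicit false
set_option linter.unusedSectionVars false
set_option linter.style.haveILetI false

namespace CfsgLib.Derangements

open MulAction Subgroup

variable {G : Type*} [Group G] {Ω : Type*} [MulAction G Ω]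
variable [Finite G] [IsPretransitive G Ω] [Finite Ω] [Nontrivial Ω] {p : ℕ} {P : Subgroup G} {a : Ω}

omit [MulAction G Ω] [IsPretransitive G Ω] [Finite Ω] in
theorem mem_centralizer_fixIn {X : Subgroup G} {y : G} (hy : y ∈ fixIn P X) :
    X ≤ centralizer ({y} : Set G) := fun x hx =>
  mem_centralizer_singleton_iff.mpr ((mem_fixIn.mp hy).2 x hx)

omit [MulAction G Ω] [IsPretransitive G Ω] [Finite Ω] in
/-- Conjugates by normalising elements have as many fixed points. -/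
theorem card_fixIn_map {X : Subgroup G} {g : G} (hg : g ∈ normalizer (P : Set G)) :
    Nat.card (fixIn P (X.map (MulAut.conj g).toMonoidHom)) = Nat.card (fixIn P X) := by
  have e : fixIn P (X.map (MulAut.conj g).toMonoidHom) =
      (fixIn P X).map (MulAut.conj g).toMonoidHom := by
    ext y
    constructor
    · intro hy
      rw [mem_fixIn] at hy
      refine ⟨g⁻¹ * y * g, mem_fixIn.mpr ⟨?_, fun x hx => ?_⟩, by simp [mul_assoc]⟩
      · exact (Subgroup.mem_normalizer_iff'.mp hg (g⁻¹ * y)).mpr (by simpa [mul_assoc] using hy.1)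
      · have h := hy.2 (g * x * g⁻¹) ⟨x, hx, by simp⟩
        calc x * (g⁻¹ * y * g) = g⁻¹ * ((g * x * g⁻¹) * y) * g := by group
          _ = g⁻¹ * (y * (g * x * g⁻¹)) * g := by rw [h]
          _ = g⁻¹ * y * g * x := by group
    · rintro ⟨z, hz, rfl⟩
      replace hz := mem_fixIn.mp hz
      refine mem_fixIn.mpr ⟨(Subgroup.mem_normalizer_iff.mp hg z).mp hz.1, ?_⟩
      rintro _ ⟨x, hx, rfl⟩
      show MulAut.conj g x * MulAut.conj g z = MulAut.conj g z * MulAut.conj g x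
      rw [← map_mul, ← map_mul, hz.2 x hx]
  rw [e, Nat.card_congr ((fixIn P X).equivMapOfInjective _ (MulAut.conj g).injective).toEquiv.symm]

/-- Orbit lengths on the non-trivial fixed points. -/
theorem RegularConfig.index_mul_dvd (cfg : RegularConfig Ω p P a) {S R X W : Subgroup G}
    (hS : S ≤ stabilizer G a ⊓ normalizer (P : Set G)) (hR : R ≤ derSubgroup G Ω ⊓ S) (hW : W ≤ P)
    (hSW : S ≤ normalizer (W : Set G))
    (hX : ∀ y ∈ W, y ≠ 1 → R ⊓ centralizer ({y} : Set G) = X) :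
    (derSubgroup G Ω).relIndex S * (Nat.card R / Nat.card X) ∣ Nat.card W - 1 := by
  classical
  set F : Set Ω := (fun y : G => y • a) '' ((W : Set G) \ {1}) with hF
  have hcard : F.ncard = Nat.card W - 1 := by
    rw [hF, Set.InjOn.ncard_image, Set.ncard_diff_singleton_of_mem W.one_mem,
      ← Nat.card_coe_set_eq, SetLike.coe_sort_coe]
    exact fun y hy z hz h => cfg.injective (hW hy.1) (hW hz.1) h
  rw [← hcard]
  refine dvd_ncard_of_stabilizer (X := X) (hS.trans inf_le_left) hR F ?_ ?_ ?_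
  · rintro s hs _ ⟨y, hy, rfl⟩
    refine ⟨s * y * s⁻¹, ⟨(Subgroup.mem_normalizer_iff.mp (hSW hs) y).mp hy.1, fun h => hy.2 ?_⟩,
      (cfg.smul_smul_eq (hS hs).1 y).symm⟩
    exact conj_eq_one_iff.mp h
  · rintro ⟨y, hy, hya⟩
    exact hy.2 (cfg.free y (hW hy.1) a hya)
  · rintro _ ⟨y, hy, rfl⟩
    rw [← hX y hy.1 hy.2]
    ext r
    simp only [Subgroup.mem_inf, mem_stabilizer_iff, mem_centralizer_singleton_iff]
    exact and_congr_right fun hr => cfg.smul_eq_iff (hS (hR hr).2).1 (hS (hR hr).2).2 (hW hy.1)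

/-- A point stabiliser of maximal order among those of non-trivial fixed points. -/
theorem exists_max_stabilizer {A : Subgroup G} {y : G} (hy : y ∈ P) (hy1 : y ≠ 1) :
    ∃ y₀ ∈ P, y₀ ≠ 1 ∧ Nat.card ↥(A ⊓ centralizer ({y} : Set G)) ≤
        Nat.card ↥(A ⊓ centralizer ({y₀} : Set G)) ∧
      ∀ w ∈ P, w ≠ 1 → A ⊓ centralizer ({y₀} : Set G) ≤ centralizer ({w} : Set G) →
        A ⊓ centralizer ({w} : Set G) = A ⊓ centralizer ({y₀} : Set G) := by
  classical
  obtain ⟨y₀, hy₀, hmax⟩ := Set.exists_max_image {w | w ∈ P ∧ w ≠ 1}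
    (fun w => Nat.card ↥(A ⊓ centralizer ({w} : Set G))) (Set.toFinite _) ⟨y, hy, hy1⟩
  refine ⟨y₀, hy₀.1, hy₀.2, hmax y ⟨hy, hy1⟩, fun w hw hw1 hle => ?_⟩
  exact (eq_of_le_of_card_ge (le_inf inf_le_left hle) (hmax w ⟨hw, hw1⟩)).symm

theorem RegularConfig.elementary_le [FaithfulSMul G Ω] (cfg : RegularConfig Ω p P a)
    (hm : 2 ≤ (derSubgroup G Ω).index)
    (hnb : ¬ ((derSubgroup G Ω).index + 1) ^ 2 ≤ Nat.card Ω) {q : ℕ} [hq : Fact q.Prime]
    {K A : Subgroup G} (hK : Covers Ω K) (hKL : K ≤ stabilizer G a ⊓ normalizer (P : Set G))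
    (hA : A ≤ derSubgroup G Ω ⊓ K) (hKA : K ≤ normalizer (A : Set G))
    (hAc : ∀ x ∈ A, ∀ y ∈ A, x * y = y * x) (hAp : ∀ x ∈ A, x ^ q = 1) : Nat.card A ≤ q := by
  classical
  by_contra hgt
  push Not at hgt
  have hAL : A ≤ stabilizer G a ⊓ normalizer (P : Set G) := (hA.trans inf_le_right).trans hKL
  have hAD : A ≤ derSubgroup G Ω ⊓ stabilizer G a :=
    le_inf (hA.trans inf_le_left) (hAL.trans inf_le_left)
  have hne : A ≠ ⊥ := fun h => by
    rw [h, Subgroup.card_bot] at hgt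
    have := hq.out.pos
    omega
  have hA0 : fixIn P A = ⊥ :=
    cfg.fixIn_eq_bot hm hnb hAL hne hK (hKL.trans inf_le_right) hKA
  haveI : Nontrivial A := (Subgroup.nontrivial_iff_ne_bot A).mpr hne
  obtain ⟨⟨z₁, hz₁⟩, hz₁ne'⟩ := exists_ne (1 : A)
  have hz₁ne : z₁ ≠ 1 := fun h => hz₁ne' (Subtype.ext h)
  have hz₁o : orderOf z₁ = q := orderOf_eq_prime (hAp _ hz₁) hz₁ne
  have hqP : (Nat.card P).Coprime q :=
    Nat.Coprime.of_dvd_right (hz₁o ▸ Subgroup.orderOf_dvd_natCard _ hz₁) (cfg.coprime_card hAD)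
  have hPne : P ≠ ⊥ := (Subgroup.one_lt_card_iff_ne_bot P).mp (cfg.card_eq ▸ Finite.one_lt_card)
  haveI : Nontrivial P := (Subgroup.nontrivial_iff_ne_bot P).mpr hPne
  obtain ⟨⟨v, hvP⟩, hv1'⟩ := exists_ne (1 : P)
  have hv1 : v ≠ 1 := fun h => hv1' (Subtype.ext h)
  -- some non-trivial element of `P` has a non-trivial stabiliser in `A`
  obtain ⟨y, hyP, hy1, hyA⟩ : ∃ y ∈ P, y ≠ 1 ∧ A ⊓ centralizer ({y} : Set G) ≠ ⊥ := by
    by_cases hz : ∀ y ∈ P, z₁ * y = y * z₁ → y = 1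
    · obtain ⟨t, ht, htz⟩ : ∃ t ∈ A, t ∉ zpowers z₁ := by
        by_contra h
        push Not at h
        have := Subgroup.card_le_of_le (show A ≤ zpowers z₁ from h)
        rw [Nat.card_zpowers, hz₁o] at this
        omega
      obtain ⟨i, y, hy, hy1, hfix⟩ := cfg.exists_fix_mul hqP (hAc t ht z₁ hz₁) (hAp t ht) (hAp z₁ hz₁)
        le_rfl (hAL ht).2 (hAL hz₁).2 hz hvP hv1
      refine ⟨y, hy, hy1, fun hbot => htz ?_⟩
      have h1 : t * z₁ ^ i ∈ A ⊓ centralizer ({y} : Set G) :=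
        ⟨A.mul_mem ht (A.pow_mem hz₁ i), mem_centralizer_singleton_iff.mpr hfix⟩
      rw [hbot, mem_bot, mul_eq_one_iff_eq_inv] at h1
      rw [h1]
      exact (zpowers z₁).inv_mem ((zpowers z₁).pow_mem (mem_zpowers z₁) i)
    · push Not at hz
      obtain ⟨y, hy, hzy, hy1⟩ := hz
      refine ⟨y, hy, hy1, fun hbot => hz₁ne ?_⟩
      have h1 : z₁ ∈ A ⊓ centralizer ({y} : Set G) := ⟨hz₁, mem_centralizer_singleton_iff.mpr hzy⟩
      rwa [hbot, mem_bot] at h1
  obtain ⟨y₀, hy₀P, hy₀1, hyy₀, hmax⟩ := exists_max_stabilizer (A := A) hyP hy1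
  set X := A ⊓ centralizer ({y₀} : Set G) with hXdef
  have hXne : X ≠ ⊥ := fun h => by
    rw [h, Subgroup.card_bot] at hyy₀
    exact hyA (Subgroup.eq_bot_of_card_le _ hyy₀)
  set W := fixIn P X with hWdef
  have hy₀W : y₀ ∈ W := mem_fixIn.mpr ⟨hy₀P, fun x hx => mem_centralizer_singleton_iff.mp hx.2⟩
  have hstab : ∀ w ∈ W, w ≠ 1 → A ⊓ centralizer ({w} : Set G) = X := fun w hw hw1 =>
    hmax w hw.1 hw1 (mem_centralizer_fixIn hw)
  have hAW : A ≤ normalizer (W : Set G) := fun t ht => normalizer_le_fixIn (hAL ht).2 (by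
    rw [Subgroup.mem_normalizer_iff]
    intro x
    by_cases hx : x ∈ A
    · rw [hAc t ht x hx, mul_inv_cancel_right]
    · exact ⟨fun h => absurd h.1 hx, fun h => absurd
        (by simpa [mul_assoc] using A.mul_mem (A.mul_mem (A.inv_mem ht) h.1) ht) hx⟩)
  obtain ⟨z, hzA, hzX⟩ : ∃ z ∈ A, z ∉ X := by
    by_contra h
    push Not at h
    have h1 : y₀ ∈ fixIn P A := mem_fixIn.mpr ⟨hy₀P, fun x hx => mem_centralizer_singleton_iff.mp (h x hx).2⟩
    rw [hA0, mem_bot] at h1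
    exact hy₀1 h1
  have hzfree : ∀ w ∈ W, z * w = w * z → w = 1 := fun w hw h => by
    by_contra hw1
    exact hzX (hstab w hw hw1 ▸ ⟨hzA, mem_centralizer_singleton_iff.mpr h⟩)
  have hcover : ∀ t ∈ A, ∃ i, t * z ^ i ∈ X := fun t ht => by
    obtain ⟨i, w, hw, hw1, hfix⟩ := cfg.exists_fix_mul hqP (hAc t ht z hzA) (hAp t ht) (hAp z hzA)
      (fixIn_le P X) (hAW ht) (hAW hzA) hzfree hy₀W hy₀1
    exact ⟨i, hstab w hw hw1 ▸ ⟨A.mul_mem ht (A.pow_mem hzA i), mem_centralizer_singleton_iff.mpr hfix⟩⟩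
  have hzo : orderOf z = q := orderOf_eq_prime (hAp z hzA) fun h => hzX (h ▸ X.one_mem)
  have hindex : Nat.card A = Nat.card X * q := by
    rw [← hzo, ← Nat.card_zpowers, ← Nat.card_prod]
    refine (Nat.card_congr (Equiv.ofBijective
      (fun u : X × zpowers z => (⟨(u.1 : G) * u.2, A.mul_mem u.1.2.1
        ((zpowers_le.mpr hzA) u.2.2)⟩ : A)) ⟨?_, ?_⟩)).symm
    · rintro ⟨x, w⟩ ⟨x', w'⟩ h
      have h' : (x : G) * w = (x' : G) * w' := congrArg Subtype.val h
      have h1 : (x'⁻¹ * x : G) = (w' : G) * (w : G)⁻¹ := by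
        rw [eq_mul_inv_iff_mul_eq, mul_assoc, h']
        simp
      have h2 : (x'⁻¹ * x : G) ∈ zpowers z := h1 ▸ (zpowers z).mul_mem w'.2 ((zpowers z).inv_mem w.2)
      have h3 : (x'⁻¹ * x : G) = 1 := by
        by_contra hne1
        obtain ⟨j, hj⟩ := mem_zpowers_iff.mp h2
        have hjq : ¬ (q : ℤ) ∣ j := fun hd => hne1 (by
          obtain ⟨c, rfl⟩ := hd
          rw [← hj, zpow_mul, zpow_natCast, ← hzo, pow_orderOf_eq_one, one_zpow])
        refine hzX ?_
        obtain ⟨c, d, hcd⟩ : ∃ c d : ℤ, c * j + d * q = 1 :=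
          (Int.isCoprime_iff_nat_coprime.mpr (Nat.coprime_comm.mp
            (hq.out.coprime_iff_not_dvd.mpr fun hd => hjq (Int.natCast_dvd.mpr hd))))
        have hz1 : z = (z ^ j) ^ c := by
          rw [← zpow_mul, mul_comm]
          conv_lhs => rw [← zpow_one z, ← hcd, zpow_add, zpow_mul' z d, zpow_natCast, ← hzo,
            pow_orderOf_eq_one, one_zpow, mul_one]
        rw [hz1, hj]
        exact X.zpow_mem (X.mul_mem (X.inv_mem x'.2) x.2) c
      have hx : x = x' := Subtype.ext (inv_mul_eq_one.mp h3).symm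
      subst hx
      exact Prod.ext rfl (Subtype.ext (mul_left_cancel h'))
    · rintro ⟨t, ht⟩
      obtain ⟨i, hi⟩ := hcover t ht
      exact ⟨(⟨t * z ^ i, hi⟩, ⟨(z ^ i)⁻¹, (zpowers z).inv_mem ((zpowers z).pow_mem (mem_zpowers z) i)⟩),
        Subtype.ext (mul_inv_cancel_right t (z ^ i))⟩
  -- the components
  set C := conjSet K X with hCdef
  haveI : Fintype C := Fintype.ofFinite _
  have hCmem : ∀ Y ∈ C, Y ≤ A ∧ Nat.card Y = Nat.card X ∧ Nat.card (fixIn P Y) = Nat.card W := by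
    rintro Y ⟨g, hg, rfl⟩
    refine ⟨?_, (Nat.card_congr (X.equivMapOfInjective _ (MulAut.conj g).injective).toEquiv).symm,
      card_fixIn_map (hKL hg).2⟩
    rintro _ ⟨x, hx, rfl⟩
    exact (Subgroup.mem_normalizer_iff.mp (hKA hg) x).mp hx.1
  have hprod : Nat.card W ^ C.ncard ≤ Nat.card Ω := by
    have h := cfg.prod_card_le hAD (hAL.trans inf_le_right) hAc hA0 (fun Y : C => (Y : Subgroup G))
      (fun Y => (hCmem _ Y.2).1) fun Y Y' hne' => ?_
    · rw [Finset.prod_congr rfl (fun (Y : C) _ => (hCmem _ Y.2).2.2), Finset.prod_const,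
        Finset.card_univ] at h
      rwa [← Nat.card_eq_fintype_card, Nat.card_coe_set_eq] at h
    · obtain ⟨hY, hYc, -⟩ := hCmem _ Y.2
      obtain ⟨hY', hYc', -⟩ := hCmem _ Y'.2
      have hle : (Y : Subgroup G) ⊔ Y' ≤ A := sup_le hY hY'
      obtain ⟨d, hd⟩ := Subgroup.card_dvd_of_le (le_sup_left : (Y : Subgroup G) ≤ (Y : Subgroup G) ⊔ Y')
      have h1 := Subgroup.card_dvd_of_le hle
      rw [hd, hindex, hYc] at h1
      rcases (Nat.dvd_prime hq.out).mp (Nat.dvd_of_mul_dvd_mul_left Nat.card_pos h1) with rfl | rfl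
      · rw [mul_one] at hd
        have e := eq_of_le_of_card_ge (le_sup_left : (Y : Subgroup G) ≤ (Y : Subgroup G) ⊔ Y') hd.le
        have hY'Y : (Y' : Subgroup G) ≤ Y := by rw [e]; exact le_sup_right
        exact absurd (Subtype.ext (eq_of_le_of_card_ge hY'Y (by rw [hYc, hYc'])).symm) hne'
      · exact (eq_of_le_of_card_ge hle (by rw [hd, hindex, hYc])).ge
  have hk2 : 2 ≤ C.ncard := by
    by_contra hlt
    have h1 : 0 < C.ncard := conjSet_ncard_pos K X
    have hC1 : C.ncard = 1 := by omega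
    obtain ⟨Y, hY⟩ := Set.ncard_eq_one.mp hC1
    have hXY : X ∈ C := ⟨1, K.one_mem, (map_conj_eq_iff X 1).mpr (Subgroup.one_mem _)⟩
    have hKX : K ≤ normalizer (X : Set G) := fun g hg => by
      rw [← map_conj_eq_iff]
      have hgY : X.map (MulAut.conj g).toMonoidHom ∈ C := ⟨g, hg, rfl⟩
      rw [hY, Set.mem_singleton_iff] at hgY hXY
      rw [hgY, hXY]
    have h2 : W = ⊥ := cfg.fixIn_eq_bot hm hnb (inf_le_left.trans hAL) hXne hK
      (hKL.trans inf_le_right) hKX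
    rw [h2, mem_bot] at hy₀W
    exact hy₀1 hy₀W
  set S := K ⊓ normalizer (X : Set G) with hSdef
  have hAS : A ≤ derSubgroup G Ω ⊓ S := le_inf (hA.trans inf_le_left) (le_inf (hA.trans inf_le_right)
    fun t ht => by
      rw [← map_conj_eq_iff]
      have h1 : X.map (MulAut.conj t).toMonoidHom ≤ X := by
        rintro _ ⟨x, hx, rfl⟩
        show t * x * t⁻¹ ∈ X
        rwa [hAc t ht x hx.1, mul_inv_cancel_right]
      exact eq_of_le_of_card_ge h1
        (Nat.card_congr (X.equivMapOfInjective _ (MulAut.conj t).injective).toEquiv).le)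
  have hdvd := cfg.index_mul_dvd (S := S) (R := A) (X := X) (W := W) (inf_le_left.trans hKL) hAS
    (fixIn_le P X) (fun g hg => normalizer_le_fixIn (hKL hg.1).2 hg.2) hstab
  rw [hindex, Nat.mul_div_cancel_left _ Nat.card_pos] at hdvd
  have hW1 : 1 < Nat.card W := (Subgroup.one_lt_card_iff_ne_bot W).mpr fun h => by
    rw [h, mem_bot] at hy₀W; exact hy₀1 hy₀W
  have hle := Nat.le_of_dvd (by omega) hdvd
  have hmain := index_mul_conjSet_le (Ω := Ω) (X := X) hK hA
  rw [← hCdef, ← hSdef] at hmain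
  have hpos := conjSet_ncard_pos A X
  have hspos : 0 < (derSubgroup G Ω).relIndex S := Nat.pos_of_ne_zero FiniteIndex.index_ne_zero
  refine hnb (succ_sq_le_of_blocks (q := q) hq.out.two_le hk2 ?_ ?_ hprod)
  · have : q ≤ (derSubgroup G Ω).relIndex S * q := Nat.le_mul_of_pos_left q hspos
    omega
  · calc (derSubgroup G Ω).index * q ≤ (derSubgroup G Ω).index * (conjSet A X).ncard * q :=
          Nat.mul_le_mul_right _ (Nat.le_mul_of_pos_right _ hpos)
      _ ≤ C.ncard * (derSubgroup G Ω).relIndex S * q := Nat.mul_le_mul_right _ hmain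
      _ ≤ C.ncard * (Nat.card W - 1) := by rw [mul_assoc]; exact Nat.mul_le_mul_left _ hle

end CfsgLib.Derangements
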