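import Mathlib
import Cfsg.Agent.Lib.Derangements.AffineAbelian

/-!
# A Sylow subgroup of the fixed-point stabiliser and its maximal invariant abelian subgroup
-/

set_option autoImplicit false
set_option linter.unusedSectionVars false
set_option linter.style.haveILetI false

namespace CfsgLib.Derangements

open MulAction Subgroup

variable {G : Type*} [Group G] {Ω : Type*} [MulAction G Ω]

/-- A `q`-subgroup with covering normaliser, a maximal invariant abelian subgroup of it with a single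
subgroup of order `q`, and an element of order `q` with a fixed point. -/
structure SylowConfig (Ω : Type*) [MulAction G Ω] (P : Subgroup G) (a : Ω) (q : ℕ)
    (L Q C : Subgroup G) (z : G) : Prop where
  covers : Covers Ω L
  L_le : L ≤ stabilizer G a ⊓ normalizer (P : Set G)
  pgroup : IsPGroup q Q
  Q_le : Q ≤ derSubgroup G Ω ⊓ L
  normQ : L ≤ normalizer (Q : Set G)
  C_le : C ≤ Q
  normC : L ≤ normalizer (C : Set G)
  comm : ∀ x ∈ C, ∀ y ∈ C, x * y = y * x
  z_mem : z ∈ C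
  z_ord : orderOf z = q
  omega : ∀ x ∈ C, x ^ q = 1 → x ∈ zpowers z
  z_free : ∀ y ∈ P, z * y = y * z → y = 1
  z_cent : ∀ g ∈ Q, g * z = z * g
  coprime : (Nat.card P).Coprime q
  maximal : ∀ A : Subgroup G, C ≤ A → A ≤ Q → (∀ x ∈ A, ∀ y ∈ A, x * y = y * x) →
    L ≤ normalizer (A : Set G) → A = C
  exists_fix : ∃ u ∈ Q, ∃ y ∈ P, u ^ q = 1 ∧ u ≠ 1 ∧ y ≠ 1 ∧ u * y = y * u

variable {P : Subgroup G} {a : Ω} {q : ℕ} [hq : Fact q.Prime] {L Q C : Subgroup G} {z : G}

/-- Every non-trivial subgroup of `C` contains `z`. -/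
theorem SylowConfig.z_mem_zpowers (S : SylowConfig Ω P a q L Q C z) {x : G} (hx : x ∈ C)
    (hx1 : x ≠ 1) : z ∈ zpowers x := by
  obtain ⟨k, hk⟩ := IsPGroup.iff_orderOf.mp S.pgroup ⟨x, S.C_le hx⟩
  rw [← Subgroup.orderOf_coe] at hk
  rcases k with _ | k
  · rw [pow_zero, orderOf_eq_one_iff] at hk
    exact absurd hk hx1
  have hw : (x ^ q ^ k) ^ q = 1 := by rw [← pow_mul, ← pow_succ, ← hk, pow_orderOf_eq_one]
  have hne : x ^ q ^ k ≠ 1 := fun h => by
    have h1 := orderOf_dvd_of_pow_eq_one h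
    rw [hk] at h1
    have h2 : k + 1 ≤ k := (Nat.pow_dvd_pow_iff_le_right hq.out.one_lt).mp h1
    omega
  have hmem := S.omega _ (C.pow_mem hx _) hw
  obtain ⟨i, hi⟩ := mem_zpowers_iff.mp hmem
  have hiq : ¬ (q : ℤ) ∣ i := fun hd => hne (by
    obtain ⟨c, rfl⟩ := hd
    rw [← hi, zpow_mul, zpow_natCast, ← S.z_ord, pow_orderOf_eq_one, one_zpow])
  obtain ⟨c, d, hcd⟩ : ∃ c d : ℤ, c * i + d * q = 1 :=
    (Int.isCoprime_iff_nat_coprime.mpr (Nat.coprime_comm.mp
      (hq.out.coprime_iff_not_dvd.mpr fun hd => hiq (Int.natCast_dvd.mpr hd))))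
  have hz1 : z = (z ^ i) ^ c := by
    rw [← zpow_mul, mul_comm]
    conv_lhs => rw [← zpow_one z, ← hcd, zpow_add, zpow_mul' z d, zpow_natCast, ← S.z_ord,
      pow_orderOf_eq_one, one_zpow, mul_one]
  rw [hz1, hi]
  exact zpow_mem (pow_mem (mem_zpowers x) _) c

/-- No non-trivial element of `C` has a fixed point. -/
theorem SylowConfig.eq_one_of_fix (S : SylowConfig Ω P a q L Q C z) {x y : G} (hx : x ∈ C)
    (hy : y ∈ P) (hy1 : y ≠ 1) (h : x * y = y * x) : x = 1 := by
  by_contra hx1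
  have h1 : zpowers x ≤ centralizer ({y} : Set G) :=
    zpowers_le.mpr (mem_centralizer_singleton_iff.mpr h)
  exact hy1 (S.z_free y hy (mem_centralizer_singleton_iff.mp (h1 (S.z_mem_zpowers hx hx1))))

theorem SylowConfig.Q_le_L (S : SylowConfig Ω P a q L Q C z) : Q ≤ L :=
  S.Q_le.trans inf_le_right

theorem SylowConfig.z_ne_one (S : SylowConfig Ω P a q L Q C z) : z ≠ 1 := fun h => by
  have h1 := S.z_ord
  rw [h, orderOf_one] at h1
  exact hq.out.one_lt.ne h1

theorem SylowConfig.z_pow (S : SylowConfig Ω P a q L Q C z) : z ^ q = 1 :=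
  S.z_ord ▸ pow_orderOf_eq_one z

/-- At most `q` elements of `C` have order dividing `q`. -/
theorem SylowConfig.card_omega_le [Finite G] (S : SylowConfig Ω P a q L Q C z) :
    {x | x ∈ C ∧ x ^ q = 1}.ncard ≤ q :=
  (Set.ncard_le_ncard (fun x hx => S.omega x hx.1 hx.2 : {x | x ∈ C ∧ x ^ q = 1} ⊆ (zpowers z : Set G))).trans
    (by rw [← Nat.card_coe_set_eq, SetLike.coe_sort_coe, Nat.card_zpowers, S.z_ord])

end CfsgLib.Derangements
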