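import Mathlib
import Cfsg.Agent.Lib.Derangements.AffineSetup
import Cfsg.Agent.Lib.PGroups.Basic

/-!
# The invariant subgroup of class two above a non-self-centralising invariant abelian subgroup
-/

set_option autoImplicit false
set_option linter.unusedSectionVars false
set_option linter.style.haveILetI false

namespace CfsgLib.Derangements

open MulAction Subgroup
open scoped Pointwise

variable {G : Type*} [Group G]

theorem pow_mul_comm_central {s t k : G} (h : s * t = k * t * s) (hs : Commute k s) (n : ℕ) :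
    s ^ n * t = k ^ n * t * s ^ n := by
  induction n with
  | zero => simp
  | succ n ih =>
    rw [pow_succ' s n, mul_assoc, ih]
    calc s * (k ^ n * t * s ^ n) = (s * k ^ n) * t * s ^ n := by group
      _ = k ^ n * (s * t) * s ^ n := by rw [← (hs.pow_left n).eq]; group
      _ = k ^ (n + 1) * t * (s * s ^ n) := by rw [h, pow_succ]; group

theorem mul_pow_central {s t k : G} (h : s * t = k * t * s) (hs : Commute k s) (ht : Commute k t)
    (n : ℕ) : (t * s) ^ n = k ^ (∑ i ∈ Finset.range n, i) * t ^ n * s ^ n := by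
  induction n with
  | zero => simp
  | succ n ih =>
    rw [pow_succ (t * s) n, ih, Finset.sum_range_succ, pow_add]
    calc k ^ (∑ i ∈ Finset.range n, i) * t ^ n * s ^ n * (t * s)
        = k ^ (∑ i ∈ Finset.range n, i) * t ^ n * (s ^ n * t) * s := by group
      _ = k ^ (∑ i ∈ Finset.range n, i) * (t ^ n * k ^ n) * t * (s ^ n * s) := by
          rw [pow_mul_comm_central h hs n]; group
      _ = _ := by rw [← ((ht.pow_pow n n)).eq]; group

variable {Ω : Type*} [MulAction G Ω] {P : Subgroup G} {a : Ω} {q : ℕ} [hq : Fact q.Prime]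
  {L Q C : Subgroup G} {z : G}

theorem commutator_split {t s g : G} (hc : Commute t (s * g * s⁻¹ * g⁻¹)) :
    t * s * g * (t * s)⁻¹ * g⁻¹ = (s * g * s⁻¹ * g⁻¹) * (t * g * t⁻¹ * g⁻¹) := by
  calc t * s * g * (t * s)⁻¹ * g⁻¹ = t * (s * g * s⁻¹ * g⁻¹) * (g * t⁻¹ * g⁻¹) := by group
    _ = (s * g * s⁻¹ * g⁻¹) * t * (g * t⁻¹ * g⁻¹) := by rw [hc.eq]
    _ = _ := by group

/-- Elements of the centraliser of `C` in `Q` of order `q` and central modulo `C`. -/
def SylowConfig.classTwo (S : SylowConfig Ω P a q L Q C z) : Subgroup G where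
  carrier := {t | t ∈ Q ∧ (∀ c ∈ C, t * c = c * t) ∧ t ^ q ∈ C ∧ ∀ g ∈ Q, t * g * t⁻¹ * g⁻¹ ∈ C}
  one_mem' := ⟨Q.one_mem, by simp, by simp [C.one_mem], fun g _ => by simp [C.one_mem]⟩
  mul_mem' := fun {t s} ht hs => by
    refine ⟨Q.mul_mem ht.1 hs.1, fun c hc => by rw [mul_assoc, hs.2.1 c hc, ← mul_assoc, ht.2.1 c hc, mul_assoc],
      ?_, fun g hg => ?_⟩
    · have hk := hs.2.2.2 t ht.1
      rw [mul_pow_central (k := s * t * s⁻¹ * t⁻¹) (by group) (hs.2.1 _ hk).symm (ht.2.1 _ hk).symm q]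
      exact C.mul_mem (C.mul_mem (C.pow_mem hk _) ht.2.2.1) hs.2.2.1
    · rw [commutator_split (ht.2.1 _ (hs.2.2.2 g hg))]
      exact C.mul_mem (hs.2.2.2 g hg) (ht.2.2.2 g hg)
  inv_mem' := fun {t} ht => by
    refine ⟨Q.inv_mem ht.1, fun c hc => ?_, by rw [inv_pow]; exact C.inv_mem ht.2.2.1, fun g hg => ?_⟩
    · rw [inv_mul_eq_iff_eq_mul, ← mul_assoc, ht.2.1 c hc, mul_inv_cancel_right]
    · have hk := ht.2.2.2 g hg
      have h1 : t⁻¹ * g * t⁻¹⁻¹ * g⁻¹ = (t * g * t⁻¹ * g⁻¹)⁻¹ := by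
        calc t⁻¹ * g * t⁻¹⁻¹ * g⁻¹ = t⁻¹ * (t * g * t⁻¹ * g⁻¹)⁻¹ * t := by group
          _ = _ := by rw [mul_assoc, ← ht.2.1 _ (C.inv_mem hk), inv_mul_cancel_left]
      rw [h1]
      exact C.inv_mem hk

theorem SylowConfig.classTwo_le (S : SylowConfig Ω P a q L Q C z) : S.classTwo ≤ Q := fun _ h => h.1

theorem SylowConfig.C_le_classTwo (S : SylowConfig Ω P a q L Q C z) : C ≤ S.classTwo := fun c hc =>
  ⟨S.C_le hc, fun d hd => S.comm c hc d hd, C.pow_mem hc q, fun g hg => by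
    rw [show c * g * c⁻¹ * g⁻¹ = c * (g * c⁻¹ * g⁻¹) by group]
    exact C.mul_mem hc ((Subgroup.mem_normalizer_iff.mp (S.normC (S.Q_le_L hg)) c⁻¹).mp (C.inv_mem hc))⟩

theorem SylowConfig.commute_classTwo (S : SylowConfig Ω P a q L Q C z) {t c : G}
    (ht : t ∈ S.classTwo) (hc : c ∈ C) : t * c = c * t := ht.2.1 c hc

theorem SylowConfig.classTwo_conj (S : SylowConfig Ω P a q L Q C z) {g t : G} (hg : g ∈ L)
    (ht : t ∈ S.classTwo) : g * t * g⁻¹ ∈ S.classTwo := by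
  have hC : ∀ c, c ∈ C → g⁻¹ * c * g ∈ C := fun c hc =>
    (Subgroup.mem_normalizer_iff'.mp (S.normC hg) (g⁻¹ * c)).mpr (by simpa [mul_assoc] using hc)
  have hQ : ∀ c, c ∈ Q → g⁻¹ * c * g ∈ Q := fun c hc =>
    (Subgroup.mem_normalizer_iff'.mp (S.normQ hg) (g⁻¹ * c)).mpr (by simpa [mul_assoc] using hc)
  refine ⟨(Subgroup.mem_normalizer_iff.mp (S.normQ hg) t).mp ht.1, fun c hc => ?_, ?_, fun x hx => ?_⟩
  · calc g * t * g⁻¹ * c = g * (t * (g⁻¹ * c * g)) * g⁻¹ := by group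
      _ = g * ((g⁻¹ * c * g) * t) * g⁻¹ := by rw [ht.2.1 _ (hC c hc)]
      _ = c * (g * t * g⁻¹) := by group
  · rw [conj_pow]
    exact (Subgroup.mem_normalizer_iff.mp (S.normC hg) _).mp ht.2.2.1
  · have h1 := (Subgroup.mem_normalizer_iff.mp (S.normC hg) _).mp (ht.2.2.2 _ (hQ x hx))
    convert h1 using 1
    group

theorem SylowConfig.normalizer_classTwo (S : SylowConfig Ω P a q L Q C z) :
    L ≤ normalizer (S.classTwo : Set G) := fun g hg => by
  rw [Subgroup.mem_normalizer_iff]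
  refine fun t => ⟨S.classTwo_conj hg, fun h => ?_⟩
  simpa [mul_assoc] using S.classTwo_conj (L.inv_mem hg) h

theorem SylowConfig.commutator_mem (S : SylowConfig Ω P a q L Q C z) {s t : G}
    (hs : s ∈ S.classTwo) (ht : t ∈ S.classTwo) : s * t * s⁻¹ * t⁻¹ ∈ zpowers z := by
  have hk := hs.2.2.2 t ht.1
  refine S.omega _ hk ?_
  have h2 : (s * t * s⁻¹ * t⁻¹ * t) ^ q = t ^ q := by
    rw [inv_mul_cancel_right, conj_pow, hs.2.1 _ ht.2.2.1, mul_inv_cancel_right]
  rw [(show Commute (s * t * s⁻¹ * t⁻¹) t from (ht.2.1 _ hk).symm).mul_pow] at h2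
  exact mul_eq_right.mp h2

theorem SylowConfig.commutator_pow (S : SylowConfig Ω P a q L Q C z) {s t : G}
    (hs : s ∈ S.classTwo) (ht : t ∈ S.classTwo) : (s * t * s⁻¹ * t⁻¹) ^ q = 1 := by
  obtain ⟨i, hi⟩ := mem_zpowers_iff.mp (S.commutator_mem hs ht)
  rw [← hi, ← zpow_natCast, ← zpow_mul, mul_comm i, zpow_mul, zpow_natCast, S.z_pow, one_zpow]

/-- The centre of the class two subgroup is `C`. -/
theorem SylowConfig.mem_C_of_central (S : SylowConfig Ω P a q L Q C z) {t : G} (ht : t ∈ S.classTwo)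
    (h : ∀ s ∈ S.classTwo, t * s = s * t) : t ∈ C := by
  let A : Subgroup G :=
    { carrier := {t | t ∈ S.classTwo ∧ ∀ s ∈ S.classTwo, t * s = s * t}
      one_mem' := ⟨S.classTwo.one_mem, by simp⟩
      mul_mem' := fun {x y} hx hy => ⟨S.classTwo.mul_mem hx.1 hy.1, fun s hs => by
        rw [mul_assoc, hy.2 s hs, ← mul_assoc, hx.2 s hs, mul_assoc]⟩
      inv_mem' := fun {x} hx => ⟨S.classTwo.inv_mem hx.1, fun s hs => by
        rw [inv_mul_eq_iff_eq_mul, ← mul_assoc, hx.2 s hs, mul_inv_cancel_right]⟩ }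
  have hA : A = C := by
    refine S.maximal A (fun c hc => ⟨S.C_le_classTwo hc, fun s hs => (hs.2.1 c hc).symm⟩)
      (fun x hx => hx.1.1) (fun x hx y hy => hx.2 y hy.1) fun g hg => ?_
    have hconj : ∀ g ∈ L, ∀ x ∈ A, g * x * g⁻¹ ∈ A := fun g hg x hx =>
      ⟨S.classTwo_conj hg hx.1, fun s hs => by
        have h1 := S.classTwo_conj (L.inv_mem hg) hs
        calc g * x * g⁻¹ * s = g * (x * (g⁻¹ * s * g⁻¹⁻¹)) * g⁻¹ := by group
          _ = g * ((g⁻¹ * s * g⁻¹⁻¹) * x) * g⁻¹ := by rw [hx.2 _ h1]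
          _ = s * (g * x * g⁻¹) := by group⟩
    rw [Subgroup.mem_normalizer_iff]
    refine fun x => ⟨hconj g hg x, fun hx => ?_⟩
    simpa [mul_assoc] using hconj g⁻¹ (L.inv_mem hg) _ hx
  exact hA ▸ ⟨ht, h⟩

/-- An element of `Q` that centralises `C` and lies outside gives one in the class two subgroup;
more generally any invariant subgroup properly above `C` inside the centraliser does. -/
theorem SylowConfig.exists_classTwo [Finite G] (S : SylowConfig Ω P a q L Q C z) {T : Subgroup G}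
    (hTQ : T ≤ Q) (hCT : C ≤ T) (hne : T ≠ C) (hTN : Q ≤ normalizer (T : Set G))
    (hTC : ∀ t ∈ T, ∀ c ∈ C, t * c = c * t) : ∃ t ∈ T, t ∈ S.classTwo ∧ t ∉ C := by
  classical
  haveI hCn : (C.subgroupOf Q).Normal :=
    normal_subgroupOf_of_le_normalizer (S.Q_le_L.trans S.normC)
  haveI hTn : (T.subgroupOf Q).Normal := normal_subgroupOf_of_le_normalizer hTN
  set π := QuotientGroup.mk' (C.subgroupOf Q)
  haveI hN : ((T.subgroupOf Q).map π).Normal := hTn.map π (QuotientGroup.mk'_surjective _)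
  have hNne : (T.subgroupOf Q).map π ≠ ⊥ := by
    intro h
    rw [Subgroup.map_eq_bot_iff, QuotientGroup.ker_mk'] at h
    refine hne (le_antisymm (fun t ht => ?_) hCT)
    exact h (show (⟨t, hTQ ht⟩ : Q) ∈ T.subgroupOf Q from ht)
  have hQp : IsPGroup q (Q ⧸ C.subgroupOf Q) := S.pgroup.to_quotient _
  have hK := CfsgLib.PGroups.inf_center_ne_bot hQp hNne
  set K := (T.subgroupOf Q).map π ⊓ center (Q ⧸ C.subgroupOf Q)
  obtain ⟨i, hi⟩ := (hQp.to_subgroup K).exists_card_eq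
  have hi0 : i ≠ 0 := fun h => by
    rw [h, pow_zero] at hi
    exact hK (K.eq_bot_of_card_eq hi)
  obtain ⟨⟨w, hw⟩, hwo⟩ := exists_prime_orderOf_dvd_card' (G := K) q (hi ▸ dvd_pow_self q hi0)
  rw [← Subgroup.orderOf_coe] at hwo
  obtain ⟨t, ht, rfl⟩ := hw.1
  refine ⟨t, ht, ⟨t.2, hTC t ht, ?_, fun g hg => ?_⟩, fun h => ?_⟩
  · have h1 : π (t ^ q) = 1 := by rw [map_pow, ← hwo]; exact pow_orderOf_eq_one _
    have h2 := (QuotientGroup.eq_one_iff (N := C.subgroupOf Q) _).mp h1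
    exact h2
  · have h1 : π (t * ⟨g, hg⟩ * t⁻¹ * (⟨g, hg⟩ : Q)⁻¹) = 1 := by
      rw [map_mul, map_mul, map_mul, map_inv, map_inv, ← mem_center_iff.mp hw.2 (π ⟨g, hg⟩)]
      group
    exact (QuotientGroup.eq_one_iff (N := C.subgroupOf Q) _).mp h1
  · have h1 : π t = 1 := (QuotientGroup.eq_one_iff (N := C.subgroupOf Q) _).mpr h
    rw [show ((⟨π t, hw⟩ : K) : Q ⧸ C.subgroupOf Q) = π t from rfl, h1, orderOf_one] at hwo
    exact hq.out.one_lt.ne hwo

theorem card_sup_zpowers_le [Finite G] {B : Subgroup G} {t : G}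
    (hn : t ∈ normalizer (B : Set G)) (hq' : t ^ q ∈ B) :
    Nat.card ↥(zpowers t ⊔ B) ≤ q * Nat.card B := by
  classical
  have hset : ((zpowers t ⊔ B : Subgroup G) : Set G) = (zpowers t : Set G) * (B : Set G) :=
    Subgroup.coe_mul_of_left_le_normalizer_right _ _ (zpowers_le.mpr hn)
  have hsurj : ∀ g : ↥(zpowers t ⊔ B), ∃ x : Fin q × B, t ^ (x.1 : ℕ) * (x.2 : G) = g := by
    rintro ⟨g, hg⟩
    have hg' : g ∈ (zpowers t : Set G) * (B : Set G) := hset ▸ hg
    obtain ⟨_, ⟨j, rfl⟩, b, hb, rfl⟩ := hg'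
    have hpos : (0 : ℤ) < q := by exact_mod_cast hq.out.pos
    have h1 := Int.emod_nonneg j hpos.ne'
    have h2 := Int.emod_lt_of_pos j hpos
    refine ⟨(⟨(j % q).toNat, by omega⟩, ⟨(t ^ q) ^ (j / q) * b, B.mul_mem (B.zpow_mem hq' _) hb⟩), ?_⟩
    show t ^ (j % q).toNat * ((t ^ q) ^ (j / q) * b) = t ^ j * b
    rw [← zpow_natCast t (j % q).toNat, ← zpow_natCast t q, ← zpow_mul, Int.toNat_of_nonneg h1,
      ← mul_assoc, ← zpow_add, Int.emod_add_mul_ediv]
  choose f hf using hsurj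
  have hinj : Function.Injective f := fun g h e => Subtype.ext (by rw [← hf g, e, hf h])
  have := Nat.card_le_card_of_injective f hinj
  rwa [Nat.card_prod, Nat.card_fin] at this

/-- Away from the smallest case, two elements give one of order `q`. -/
theorem SylowConfig.exists_order_q [Finite G] (S : SylowConfig Ω P a q L Q C z)
    (hbig : q ≠ 2 ∨ 2 < Nat.card C) {s t : G} (hs : s ∈ S.classTwo) (ht : t ∈ S.classTwo) :
    ∃ c ∈ C, (t * c) ^ q = 1 ∨ ∃ j : ℤ, (t ^ j * s * c) ^ q = 1 := by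
  classical
  letI : CommGroup C := { mul_comm := fun x y => Subtype.ext (S.comm x x.2 y y.2) }
  set R := ((powMonoidHom q : C →* C).range).map C.subtype with hR
  have hRmem : ∀ {x}, x ∈ R ↔ ∃ c ∈ C, c ^ q = x := by
    intro x
    constructor
    · rintro ⟨_, ⟨c, rfl⟩, rfl⟩
      exact ⟨c, c.2, (Subgroup.coe_pow C c q).symm⟩
    · rintro ⟨c, hc, rfl⟩
      exact ⟨_, ⟨⟨c, hc⟩, rfl⟩, Subgroup.coe_pow C ⟨c, hc⟩ q⟩
  have hfix : ∀ x ∈ S.classTwo, x ^ q ∈ R → ∃ c ∈ C, (x * c) ^ q = 1 := by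
    intro x hx hxq
    obtain ⟨c, hc, hcq⟩ := hRmem.mp hxq
    refine ⟨c⁻¹, C.inv_mem hc, ?_⟩
    rw [(show Commute x c⁻¹ from hx.2.1 _ (C.inv_mem hc)).mul_pow, inv_pow, hcq, mul_inv_cancel]
  by_cases htR : t ^ q ∈ R
  · obtain ⟨c, hc, h⟩ := hfix t ht htR
    exact ⟨c, hc, Or.inl h⟩
  have hker : Nat.card (powMonoidHom q : C →* C).ker ≤ q := by
    refine le_trans ?_ S.card_omega_le
    rw [← Nat.card_coe_set_eq]
    exact Nat.card_le_card_of_injective (fun d : (powMonoidHom q : C →* C).ker =>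
      (⟨((d : C) : G), (d : C).2, by rw [← Subgroup.coe_pow, show (d : C) ^ q = 1 from d.2]; rfl⟩ :
        ({x | x ∈ C ∧ x ^ q = 1} : Set G)))
      fun d e h => Subtype.ext (Subtype.ext (congrArg (fun x : ({x | x ∈ C ∧ x ^ q = 1} : Set G) => (x : G)) h))
  have hCR : Nat.card C ≤ q * Nat.card R := by
    rw [hR, Nat.card_congr ((powMonoidHom q : C →* C).range.equivMapOfInjective _
      C.subtype_injective).toEquiv.symm, ← (powMonoidHom q : C →* C).ker.card_mul_index,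
      Subgroup.index_ker]
    exact Nat.mul_le_mul_right _ hker
  have hRC : R ≤ C := map_subtype_le _
  set H := zpowers (t ^ q) ⊔ R
  have hHC : H ≤ C := sup_le (zpowers_le.mpr ht.2.2.1) hRC
  have hH : H = C := by
    obtain ⟨d, hd⟩ := Subgroup.card_dvd_of_le (le_sup_right : R ≤ H)
    obtain ⟨e, he⟩ := Subgroup.card_dvd_of_le hHC
    have hd1 : d ≠ 1 := fun h => htR (by
      rw [h, mul_one] at hd
      rw [eq_of_le_of_card_ge (le_sup_right : R ≤ H) hd.le]
      exact mem_sup_left (mem_zpowers _))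
    obtain ⟨i, hi⟩ := (S.pgroup.to_le (hHC.trans S.C_le)).exists_card_eq
    have hdq : d ∣ q ^ i := ⟨Nat.card R, by rw [← hi, hd]; ring⟩
    obtain ⟨l, -, hl⟩ := (Nat.dvd_prime_pow hq.out).mp hdq
    have hl0 : l ≠ 0 := fun h => hd1 (by rw [hl, h, pow_zero])
    have hqd : q ≤ d := hl ▸ Nat.le_self_pow hl0 q
    refine eq_of_le_of_card_ge hHC (hCR.trans ?_)
    rw [hd, mul_comm]
    exact Nat.mul_le_mul_left _ hqd
  have hsq : s ^ q ∈ H := hH ▸ hs.2.2.1
  obtain ⟨x, hx, y, hy, hxy⟩ : s ^ q ∈ (zpowers (t ^ q) : Set G) * (R : Set G) := by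
    rw [← Subgroup.coe_mul_of_left_le_normalizer_right _ _ (zpowers_le.mpr ?_)]
    · exact hsq
    · rw [Subgroup.mem_normalizer_iff]
      intro w
      by_cases hw : w ∈ C
      · rw [S.comm _ ht.2.2.1 w hw, mul_inv_cancel_right]
      · refine ⟨fun h => absurd (hRC h) hw, fun h => absurd ?_ hw⟩
        simpa [mul_assoc] using C.mul_mem (C.mul_mem (C.inv_mem ht.2.2.1) (hRC h)) ht.2.2.1
  obtain ⟨j, rfl⟩ := mem_zpowers_iff.mp hx
  have htj : t ^ (-j) ∈ S.classTwo := zpow_mem ht _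
  have hk := S.commutator_mem hs htj
  set k := s * t ^ (-j) * s⁻¹ * (t ^ (-j))⁻¹ with hkdef
  have hkC : k ∈ C := zpowers_le.mpr S.z_mem hk
  have hkR : k ^ (∑ i ∈ Finset.range q, i) ∈ R := by
    by_cases h2 : q = 2
    · refine R.pow_mem ?_ _
      have hRne : R ≠ ⊥ := fun h => by
        rw [h, Subgroup.card_bot, mul_one] at hCR
        rcases hbig with hb | hb <;> omega
      haveI : Nontrivial R := (Subgroup.nontrivial_iff_ne_bot R).mpr hRne
      obtain ⟨⟨w, hw⟩, hw1⟩ := exists_ne (1 : R)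
      have hzR : zpowers z ≤ R := zpowers_le.mpr
        ((zpowers_le.mpr hw) (S.z_mem_zpowers (hRC hw) fun h => hw1 (Subtype.ext h)))
      exact hzR hk
    · have hodd : q ∣ ∑ i ∈ Finset.range q, i := by
        have h1 : (∑ i ∈ Finset.range q, i) * 2 = q * (q - 1) := Finset.sum_range_id_mul_two q
        exact (((hq.out.coprime_iff_not_dvd).mpr fun h =>
          h2 ((Nat.prime_dvd_prime_iff_eq hq.out Nat.prime_two).mp h)).dvd_of_dvd_mul_right ⟨_, h1⟩)
      obtain ⟨e, he⟩ := hodd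
      rw [he, pow_mul, show k ^ q = 1 from S.commutator_pow hs htj, one_pow]
      exact R.one_mem
  obtain ⟨c, hc, h⟩ := hfix (t ^ (-j) * s) (S.classTwo.mul_mem htj hs) (by
    rw [mul_pow_central (k := k) (by rw [hkdef]; group) (hs.2.1 k hkC).symm (htj.2.1 k hkC).symm q]
    have h1 : (t ^ (-j)) ^ q * s ^ q ∈ R := by
      rw [← hxy]
      show (t ^ (-j)) ^ q * ((t ^ q) ^ j * y) ∈ R
      rw [← zpow_natCast (t ^ (-j)), ← zpow_natCast t q, ← zpow_mul, ← zpow_mul, ← mul_assoc, ← zpow_add,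
        show -j * (q : ℤ) + (q : ℤ) * j = 0 by ring, zpow_zero, one_mul]
      exact hy
    rw [mul_assoc]
    exact R.mul_mem hkR h1)
  exact ⟨c, hc, Or.inr ⟨-j, h⟩⟩

/-- A subgroup of the class two subgroup without elements of order `q` outside a base is small
over the base. -/
theorem SylowConfig.card_le_of_no_order_q [Finite G] (S : SylowConfig Ω P a q L Q C z)
    {B H : Subgroup G} (hCB : C ≤ B) (hBH : B ≤ H) (hH : H ≤ S.classTwo)
    (hno : ∀ r ∈ H, r ^ q = 1 → r ∈ B) :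
    Nat.card H ≤ q ^ 2 * Nat.card B ∧ ((q ≠ 2 ∨ 2 < Nat.card C) → Nat.card H ≤ q * Nat.card B) := by
  classical
  have hnB : ∀ x ∈ H, x ∈ normalizer (B : Set G) := by
    intro x hx
    have hconj : ∀ x ∈ H, ∀ b ∈ B, x * b * x⁻¹ ∈ B := fun x hx b hb => by
      rw [show x * b * x⁻¹ = (x * b * x⁻¹ * b⁻¹) * b by group]
      exact B.mul_mem (hCB ((hH hx).2.2.2 b (hH (hBH hb)).1)) hb
    rw [Subgroup.mem_normalizer_iff]
    refine fun b => ⟨hconj x hx b, fun h => ?_⟩
    simpa [mul_assoc] using hconj x⁻¹ (H.inv_mem hx) _ h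
  have hsq : ∀ x ∈ H, x ^ q ∈ B := fun x hx => hCB (hH hx).2.2.1
  by_cases hall : H ≤ B
  · have h1 := Subgroup.card_le_of_le hall
    have := hq.out.two_le
    constructor
    · exact h1.trans (Nat.le_mul_of_pos_left _ (by positivity))
    · exact fun _ => h1.trans (Nat.le_mul_of_pos_left _ hq.out.pos)
  obtain ⟨t, ht, htB⟩ := SetLike.not_le_iff_exists.mp hall
  set B1 := zpowers t ⊔ B
  have hB1 : Nat.card B1 ≤ q * Nat.card B := card_sup_zpowers_le (hnB t ht) (hsq t ht)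
  have hB1H : B1 ≤ H := sup_le (zpowers_le.mpr ht) hBH
  have hbig : (q ≠ 2 ∨ 2 < Nat.card C) → H ≤ B1 := by
    intro hb s hs
    obtain ⟨c, hc, h | ⟨j, h⟩⟩ := S.exists_order_q hb (hH hs) (hH ht)
    · exact absurd (by simpa using B.mul_mem (hno _ (H.mul_mem ht (hBH (hCB hc))) h) (B.inv_mem (hCB hc))) htB
    · have h1 : t ^ j * s * c ∈ B :=
        hno _ (H.mul_mem (H.mul_mem (H.zpow_mem ht j) hs) (hBH (hCB hc))) h
      have h2 : s = (t ^ j)⁻¹ * ((t ^ j * s * c) * c⁻¹) := by group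
      rw [h2]
      exact B1.mul_mem (mem_sup_left ((zpowers t).inv_mem (zpow_mem (mem_zpowers t) j)))
        (mem_sup_right (B.mul_mem h1 (B.inv_mem (hCB hc))))
  refine ⟨?_, fun hb => (Subgroup.card_le_of_le (hbig hb)).trans hB1⟩
  by_cases hb : q ≠ 2 ∨ 2 < Nat.card C
  · refine ((Subgroup.card_le_of_le (hbig hb)).trans hB1).trans (Nat.mul_le_mul_right _ ?_)
    exact Nat.le_self_pow two_ne_zero q
  push Not at hb
  obtain ⟨rfl, hC2⟩ := hb
  have hsquare : ∀ x ∈ H, x ∉ B → x * x = z := by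
    intro x hx hxB
    have h1 : x ^ 2 ∈ C := (hH hx).2.2.1
    have h2 : x ^ 2 ≠ 1 := fun h => hxB (hno x hx h)
    have hCz : C ≤ zpowers z := by
      have hzC : zpowers z ≤ C := zpowers_le.mpr S.z_mem
      exact (eq_of_le_of_card_ge hzC (by rw [Nat.card_zpowers, S.z_ord]; exact hC2)).ge
    obtain ⟨i, hi2, hi⟩ := ((isOfFinOrder_of_finite z).mem_powers_iff_mem_zpowers.mpr (hCz h1) |>
      fun h => by
        obtain ⟨i, hi⟩ := h
        exact ⟨i % 2, Nat.mod_lt i (by norm_num), (show z ^ (i % 2) = x ^ 2 by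
          rw [← hi, ← S.z_ord, pow_mod_orderOf])⟩ : ∃ i, i < 2 ∧ z ^ i = x ^ 2)
    interval_cases i
    · exact absurd (by rw [← hi, pow_zero]) h2
    · rw [← pow_two, ← hi, pow_one]
  by_contra hgt
  push Not at hgt
  obtain ⟨s, hs, hsB⟩ : ∃ s ∈ H, s ∉ B1 := by
    by_contra h
    push Not at h
    have := (Subgroup.card_le_of_le (show H ≤ B1 from h)).trans hB1
    have := Nat.card_pos (α := B)
    omega
  have hnB1 : s ∈ normalizer (B1 : Set G) := by
    have hconj : ∀ x ∈ H, ∀ b ∈ B1, x * b * x⁻¹ ∈ B1 := fun x hx b hb => by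
      rw [show x * b * x⁻¹ = (x * b * x⁻¹ * b⁻¹) * b by group]
      exact B1.mul_mem (mem_sup_right (hCB ((hH hx).2.2.2 b (hH (hB1H hb)).1))) hb
    rw [Subgroup.mem_normalizer_iff]
    refine fun b => ⟨hconj s hs b, fun h => ?_⟩
    simpa [mul_assoc] using hconj s⁻¹ (H.inv_mem hs) _ h
  set B2 := zpowers s ⊔ B1
  have hB2 : Nat.card B2 ≤ 2 * Nat.card B1 :=
    card_sup_zpowers_le hnB1 (mem_sup_right (hsq s hs))
  obtain ⟨u, hu, huB⟩ : ∃ u ∈ H, u ∉ B2 := by
    by_contra h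
    push Not at h
    have := (Subgroup.card_le_of_le (show H ≤ B2 from h)).trans hB2
    omega
  have htB1 : t ∈ B1 := mem_sup_left (mem_zpowers t)
  have hsB2 : s ∈ B2 := mem_sup_left (mem_zpowers s)
  have hB12 : B1 ≤ B2 := le_sup_right
  have hBB1 : B ≤ B1 := le_sup_right
  have hbad : ∀ x y, x ∈ H → y ∈ H → x ∉ B → y ∉ B → x * y ∉ B → x * y * x⁻¹ * y⁻¹ = z := by
    intro x y hx hy hxB hyB hxyB
    have e1 := hsquare x hx hxB
    have e2 := hsquare y hy hyB
    have e3 := hsquare (x * y) (H.mul_mem hx hy) hxyB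
    have hz2 : z * z = 1 := by rw [← pow_two]; exact S.z_pow
    calc x * y * x⁻¹ * y⁻¹ = (x * y * (x * y)) * ((y * y) * (y⁻¹ * (x * x) * y))⁻¹ := by group
      _ = z * (z * (y⁻¹ * z * y))⁻¹ := by rw [e1, e2, e3]
      _ = z * (z * z)⁻¹ := by
          rw [mul_assoc y⁻¹ z y, ← (hH hy).2.1 z S.z_mem, inv_mul_cancel_left]
      _ = z := by rw [hz2, inv_one, mul_one]
  have hst : s * t * s⁻¹ * t⁻¹ = z := hbad s t hs ht (fun h => hsB (hBB1 h)) htB fun h => hsB (by
    have := B1.mul_mem (hBB1 h) (B1.inv_mem htB1); simpa using this)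
  have hut : u * t * u⁻¹ * t⁻¹ = z := hbad u t hu ht (fun h => huB (hB12 (hBB1 h))) htB
    fun h => huB (hB12 (by have := B1.mul_mem (hBB1 h) (B1.inv_mem htB1); simpa using this))
  have hust : (u * s) * t * (u * s)⁻¹ * t⁻¹ = z := by
    have hus : u * s ∉ B1 := fun h => huB (by
      have := B2.mul_mem (hB12 h) (B2.inv_mem hsB2); simpa using this)
    exact hbad (u * s) t (H.mul_mem hu hs) ht (fun h => hus (hBB1 h)) htB
      fun h => hus (by have := B1.mul_mem (hBB1 h) (B1.inv_mem htB1); simpa using this)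
  rw [commutator_split (t := u) (s := s) (g := t) (by rw [hst]; exact (hH hu).2.1 z S.z_mem), hst,
    hut] at hust
  exact S.z_ne_one (mul_eq_right.mp hust)

/-- The class two subgroup has an element of order `q` outside `C`. -/
theorem SylowConfig.exists_order_q_outside [Finite G] (S : SylowConfig Ω P a q L Q C z)
    {t : G} (ht : t ∈ S.classTwo) (htC : t ∉ C) : ∃ r ∈ S.classTwo, r ^ q = 1 ∧ r ∉ C := by
  classical
  by_contra hno
  push Not at hno
  obtain ⟨h2, hbigcase⟩ := S.card_le_of_no_order_q le_rfl S.C_le_classTwo le_rfl hno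
  -- two elements that do not commute
  obtain ⟨s, hs, hst⟩ : ∃ s ∈ S.classTwo, t * s ≠ s * t := by
    by_contra h
    push Not at h
    exact htC (S.mem_C_of_central ht h)
  have hnC : ∀ x ∈ S.classTwo, x ∈ normalizer (C : Set G) := fun x hx => S.normC (S.Q_le_L hx.1)
  set B1 := zpowers t ⊔ C
  have hsB1 : s ∉ B1 := fun h => hst (by
    have hset := Subgroup.coe_mul_of_left_le_normalizer_right (zpowers t) C (zpowers_le.mpr (hnC t ht))
    obtain ⟨_, ⟨j, rfl⟩, c, hc, rfl⟩ : s ∈ (zpowers t : Set G) * (C : Set G) := by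
      rw [← hset]; exact h
    show Commute t (t ^ j * c)
    exact ((Commute.refl t).zpow_right j).mul_right (ht.2.1 c hc))
  by_cases hb : q ≠ 2 ∨ 2 < Nat.card C
  · have h1 := hbigcase hb
    have hlt : Nat.card B1 < Nat.card S.classTwo := by
      refine lt_of_le_of_ne (Subgroup.card_le_of_le (sup_le (zpowers_le.mpr ht) S.C_le_classTwo)) fun e => ?_
      have e' := eq_of_le_of_card_ge (sup_le (zpowers_le.mpr ht) S.C_le_classTwo) e.ge
      refine hsB1 ?_
      show s ∈ zpowers t ⊔ C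
      rw [e']; exact hs
    obtain ⟨d, hd⟩ := Subgroup.card_dvd_of_le (le_sup_right : C ≤ B1)
    obtain ⟨i, hi⟩ := (S.pgroup.to_le (sup_le (zpowers_le.mpr ht.1) S.C_le : B1 ≤ Q)).exists_card_eq
    obtain ⟨l, -, hl⟩ := (Nat.dvd_prime_pow hq.out).mp (⟨Nat.card C, by rw [← hi, hd]; ring⟩ : d ∣ q ^ i)
    have hl0 : l ≠ 0 := fun h => htC (by
      rw [hl, h, pow_zero, mul_one] at hd
      rw [eq_of_le_of_card_ge (le_sup_right : C ≤ B1) hd.le]
      exact mem_sup_left (mem_zpowers t))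
    have hqd : q ≤ d := hl ▸ Nat.le_self_pow hl0 q
    rw [hd] at hlt
    nlinarith
  push Not at hb
  obtain ⟨rfl, hC2⟩ := hb
  -- the class two subgroup is quaternion of order eight and equals `Q`
  have hCz : C = zpowers z := (eq_of_le_of_card_ge (zpowers_le.mpr S.z_mem)
    (by rw [Nat.card_zpowers, S.z_ord]; exact hC2)).symm
  have hkz : ∀ {x y : G}, x ∈ S.classTwo → y ∈ S.classTwo → x * y ≠ y * x → x * y * x⁻¹ * y⁻¹ = z := by
    intro x y hx hy hne
    obtain ⟨i, hi⟩ := mem_zpowers_iff.mp (S.commutator_mem hx hy)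
    have h2 : z ^ i = 1 ∨ z ^ i = z := by
      rw [← zpow_mod_orderOf, S.z_ord]
      rcases Int.emod_two_eq_zero_or_one i with h | h <;> simp [h]
    rcases h2 with h | h
    · rw [h] at hi
      exact absurd (mul_inv_eq_iff_eq_mul.mp (mul_inv_eq_one.mp hi.symm)) hne
    · rw [← hi, h]
  set B2 := zpowers s ⊔ B1
  have hB1 : Nat.card B1 ≤ 2 * Nat.card C := card_sup_zpowers_le (hnC t ht) ht.2.2.1
  have hB1R : B1 ≤ S.classTwo := sup_le (zpowers_le.mpr ht) S.C_le_classTwo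
  have hR : S.classTwo = B2 := by
    refine (eq_of_le_of_card_ge (sup_le (zpowers_le.mpr hs) hB1R : B2 ≤ S.classTwo) ?_).symm
    obtain ⟨d, hd⟩ := Subgroup.card_dvd_of_le (le_sup_right : C ≤ B1)
    obtain ⟨e, he⟩ := Subgroup.card_dvd_of_le (le_sup_right : B1 ≤ B2)
    have hd2 : 2 ≤ d := by
      rcases d with _ | _ | d
      · rw [mul_zero] at hd; exact absurd hd Nat.card_pos.ne'
      · rw [zero_add, mul_one] at hd
        exact absurd (eq_of_le_of_card_ge (le_sup_right : C ≤ B1) hd.le ▸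
          (mem_sup_left (mem_zpowers t) : t ∈ B1)) htC
      · omega
    have he2 : 2 ≤ e := by
      rcases e with _ | _ | e
      · rw [mul_zero] at he; exact absurd he Nat.card_pos.ne'
      · rw [zero_add, mul_one] at he
        exact absurd (eq_of_le_of_card_ge (le_sup_right : B1 ≤ B2) he.le ▸
          (mem_sup_left (mem_zpowers s) : s ∈ B2)) hsB1
      · omega
    rw [he, hd]
    calc Nat.card S.classTwo ≤ 2 ^ 2 * Nat.card C := h2
      _ ≤ Nat.card C * d * e := by rw [mul_comm, mul_assoc]; exact Nat.mul_le_mul_left _ (by nlinarith)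
  -- every element of `Q` acts as an inner automorphism of it
  let T : Subgroup G := Q ⊓ centralizer (S.classTwo : Set G)
  have hT : T ≤ C := by
    by_contra hne
    have hCT : C ≤ T := fun c hc =>
      ⟨S.C_le hc, mem_centralizer_iff.mpr fun x hx => hx.2.1 c hc⟩
    have hTN : Q ≤ normalizer (T : Set G) := fun g hg => by
      have hconj : ∀ g ∈ Q, ∀ x ∈ T, g * x * g⁻¹ ∈ T := fun g hg x hx => by
        refine ⟨Q.mul_mem (Q.mul_mem hg hx.1) (Q.inv_mem hg), mem_centralizer_iff.mpr fun y hy => ?_⟩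
        have h1 := mem_centralizer_iff.mp hx.2 _ (S.classTwo_conj (L.inv_mem (S.Q_le_L hg)) hy)
        calc y * (g * x * g⁻¹) = g * ((g⁻¹ * y * g⁻¹⁻¹) * x) * g⁻¹ := by group
          _ = g * (x * (g⁻¹ * y * g⁻¹⁻¹)) * g⁻¹ := by rw [h1]
          _ = g * x * g⁻¹ * y := by group
      rw [Subgroup.mem_normalizer_iff]
      refine fun x => ⟨hconj g hg x, fun h => ?_⟩
      simpa [mul_assoc] using hconj g⁻¹ (Q.inv_mem hg) _ h
    obtain ⟨w, hwT, hwR, hwC⟩ := S.exists_classTwo inf_le_left hCT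
      (fun e => hne e.le) hTN fun x hx c hc =>
        (mem_centralizer_iff.mp hx.2 c (S.C_le_classTwo hc)).symm
    exact hwC (S.mem_C_of_central hwR fun y hy => (mem_centralizer_iff.mp hwT.2 y hy).symm)
  obtain ⟨u, huQ, y, hyP, huq, hu1, hy1, huy⟩ := S.exists_fix
  suffices hQR : u ∈ S.classTwo from hu1 (S.eq_one_of_fix (hno u hQR huq) hyP hy1 huy)
  have hk1 : ∀ g ∈ Q, ∀ x ∈ S.classTwo, g * x * g⁻¹ * x⁻¹ = 1 ∨ g * x * g⁻¹ * x⁻¹ = z := by
    intro g hg x hx
    have h1 : g * x * g⁻¹ * x⁻¹ ∈ C := by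
      rw [show g * x * g⁻¹ * x⁻¹ = (x * g * x⁻¹ * g⁻¹)⁻¹ by group]
      exact C.inv_mem (hx.2.2.2 g hg)
    rw [hCz] at h1
    obtain ⟨i, hi⟩ := mem_zpowers_iff.mp h1
    rw [← hi, ← zpow_mod_orderOf, S.z_ord]
    rcases Int.emod_two_eq_zero_or_one i with h | h <;> simp [h]
  -- choose the inner element with the same action on the two generators
  have hcomm1 : t * s * t⁻¹ * s⁻¹ = z := hkz ht hs hst
  have hcomm2 : s * t * s⁻¹ * t⁻¹ = z := hkz hs ht (fun e => hst e.symm)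
  have hone : ∀ x : G, x * x * x⁻¹ * x⁻¹ = 1 := fun x => by group
  have hzc : ∀ {x}, x ∈ S.classTwo → Commute x z := fun hx => hx.2.1 z S.z_mem
  obtain ⟨r, hr, hrt, hrs⟩ : ∃ r ∈ S.classTwo, r * t * r⁻¹ * t⁻¹ = u * t * u⁻¹ * t⁻¹ ∧
      r * s * r⁻¹ * s⁻¹ = u * s * u⁻¹ * s⁻¹ := by
    rcases hk1 u huQ t ht with h | h <;> rcases hk1 u huQ s hs with h' | h' <;> rw [h, h']
    · exact ⟨1, S.classTwo.one_mem, by group, by group⟩
    · exact ⟨t, ht, hone t, hcomm1⟩
    · exact ⟨s, hs, hcomm2, hone s⟩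
    · refine ⟨s * t, S.classTwo.mul_mem hs ht, ?_, ?_⟩
      · rw [commutator_split (by rw [hone]; exact Commute.one_right s), hone, one_mul, hcomm2]
      · rw [commutator_split (by rw [hcomm1]; exact hzc hs), hone, mul_one, hcomm1]
  have hru : ∀ x, r * x * r⁻¹ * x⁻¹ = u * x * u⁻¹ * x⁻¹ → r⁻¹ * u * x = x * (r⁻¹ * u) := by
    intro x hx
    have h1 : r * x * r⁻¹ = u * x * u⁻¹ := mul_right_cancel hx
    calc r⁻¹ * u * x = r⁻¹ * (u * x * u⁻¹) * u := by group
      _ = r⁻¹ * (r * x * r⁻¹) * u := by rw [h1]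
      _ = _ := by group
  have hmem : r⁻¹ * u ∈ T := by
    refine ⟨Q.mul_mem (Q.inv_mem hr.1) huQ, ?_⟩
    rw [hR]
    have hle : B2 ≤ centralizer ({r⁻¹ * u} : Set G) := by
      refine sup_le (zpowers_le.mpr ?_) (sup_le (zpowers_le.mpr ?_) ?_)
      · exact mem_centralizer_singleton_iff.mpr (hru s hrs).symm
      · exact mem_centralizer_singleton_iff.mpr (hru t hrt).symm
      · intro c hc
        refine mem_centralizer_singleton_iff.mpr ?_
        rw [hCz] at hc
        obtain ⟨i, rfl⟩ := mem_zpowers_iff.mp hc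
        exact (Commute.zpow_left (S.z_cent _ (Q.mul_mem (Q.inv_mem hr.1) huQ)).symm i)
    exact mem_centralizer_iff.mpr fun x hx => mem_centralizer_singleton_iff.mp (hle hx)
  have h1 : u = r * (r⁻¹ * u) := by group
  rw [h1]
  exact S.classTwo.mul_mem hr (S.C_le_classTwo (hT hmem))

end CfsgLib.Derangements
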