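import Mathlib
import Cfsg.Agent.Lib.Derangements.AffineClassTwo

/-!
# Counting elementary abelian subgroups of the class two subgroup
-/

set_option autoImplicit false
set_option linter.unusedSectionVars false
set_option linter.style.haveILetI false

namespace CfsgLib.Derangements

open MulAction Subgroup
open scoped Pointwise

variable {G : Type*} [Group G] [Finite G] {Ω : Type*} [MulAction G Ω]
variable {P : Subgroup G} {a : Ω} {q : ℕ} [hq : Fact q.Prime] {L Q C : Subgroup G} {z : G}

/-- A non-central element cuts out a subgroup of index exactly `q`. -/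
theorem SylowConfig.card_inf_centralizer (S : SylowConfig Ω P a q L Q C z) {H : Subgroup G}
    (hH : H ≤ S.classTwo) {t : G} (ht : t ∈ S.classTwo) (hne : ∃ h ∈ H, t * h ≠ h * t) :
    q * Nat.card ↥(H ⊓ centralizer ({t} : Set G)) = Nat.card H := by
  classical
  have hmul : ∀ h h' : H, t * (h * h' : H) * t⁻¹ * ((h * h' : H) : G)⁻¹ =
      (t * h * t⁻¹ * (h : G)⁻¹) * (t * h' * t⁻¹ * (h' : G)⁻¹) := fun h h' => by
    have hk : (t * h' * t⁻¹ * (h' : G)⁻¹) ∈ C := ht.2.2.2 h' (hH h'.2).1
    have hc : (h : G) * (t * h' * t⁻¹ * (h' : G)⁻¹) = (t * h' * t⁻¹ * (h' : G)⁻¹) * h :=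
      (hH h.2).2.1 _ hk
    rw [Subgroup.coe_mul]
    calc t * ((h : G) * h') * t⁻¹ * ((h : G) * h')⁻¹
        = (t * h * t⁻¹ * (h : G)⁻¹) * ((h : G) * (t * h' * t⁻¹ * (h' : G)⁻¹)) * (h : G)⁻¹ := by group
      _ = _ := by rw [hc]; group
  let φ : H →* zpowers z := MonoidHom.mk'
    (fun h => ⟨t * h * t⁻¹ * (h : G)⁻¹, S.commutator_mem ht (hH h.2)⟩)
    fun h h' => Subtype.ext (hmul h h')
  have hker : Nat.card φ.ker = Nat.card ↥(H ⊓ centralizer ({t} : Set G)) := by
    refine Nat.card_congr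
      { toFun := fun h => ⟨((h : H) : G), (h : H).2, mem_centralizer_singleton_iff.mpr
          (mul_inv_eq_iff_eq_mul.mp (mul_inv_eq_one.mp (congrArg Subtype.val (MonoidHom.mem_ker.mp h.2)))).symm⟩
        invFun := fun h => ⟨⟨h, h.2.1⟩, MonoidHom.mem_ker.mpr (Subtype.ext (by
          show t * (h : G) * t⁻¹ * (h : G)⁻¹ = 1
          rw [← mem_centralizer_singleton_iff.mp h.2.2]
          group))⟩
        left_inv := fun h => rfl
        right_inv := fun h => rfl }
  have hrange : φ.range = ⊤ := by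
    have hcard : Nat.card (zpowers z) = q := by rw [Nat.card_zpowers, S.z_ord]
    haveI : Fact (Nat.card (zpowers z)).Prime := ⟨hcard ▸ hq.out⟩
    rcases φ.range.eq_bot_or_eq_top_of_prime_card with h | h
    · obtain ⟨x, hx, hxne⟩ := hne
      refine absurd ?_ hxne
      have h1 : φ ⟨x, hx⟩ = 1 := by
        have : φ ⟨x, hx⟩ ∈ φ.range := ⟨_, rfl⟩
        rwa [h, mem_bot] at this
      exact mul_inv_eq_iff_eq_mul.mp (mul_inv_eq_one.mp (congrArg Subtype.val h1))
    · exact h
  rw [← hker, ← φ.ker.card_mul_index, Subgroup.index_ker, hrange, Subgroup.card_top,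
    Nat.card_zpowers, S.z_ord, mul_comm]

/-- A subgroup above `C` and its centraliser in the class two subgroup. -/
theorem SylowConfig.card_mul_centralizer (S : SylowConfig Ω P a q L Q C z) {B : Subgroup G}
    (hCB : C ≤ B) (hB : B ≤ S.classTwo) :
    Nat.card C * Nat.card S.classTwo =
      Nat.card B * Nat.card ↥(S.classTwo ⊓ centralizer (B : Set G)) := by
  classical
  set R := S.classTwo with hR
  set Z := R ⊓ centralizer (B : Set G)
  haveI : Fintype B := Fintype.ofFinite _
  haveI : Fintype R := Fintype.ofFinite _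
  have hfib1 : ∀ x : B, (Finset.univ.filter fun t : R => (x : G) * t = t * x).card =
      Nat.card ↥(R ⊓ centralizer ({(x : G)} : Set G)) := by
    intro x
    rw [← Fintype.card_subtype, ← Nat.card_eq_fintype_card]
    exact Nat.card_congr
      { toFun := fun t => ⟨t.1, t.1.2, mem_centralizer_singleton_iff.mpr t.2.symm⟩
        invFun := fun t => ⟨⟨t, t.2.1⟩, (mem_centralizer_singleton_iff.mp t.2.2).symm⟩
        left_inv := fun t => rfl
        right_inv := fun t => rfl }
  have hfib2 : ∀ t : R, (Finset.univ.filter fun x : B => (x : G) * t = t * x).card =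
      Nat.card ↥(B ⊓ centralizer ({(t : G)} : Set G)) := by
    intro t
    rw [← Fintype.card_subtype, ← Nat.card_eq_fintype_card]
    exact Nat.card_congr
      { toFun := fun x => ⟨x.1, x.1.2, mem_centralizer_singleton_iff.mpr x.2⟩
        invFun := fun x => ⟨⟨x, x.2.1⟩, mem_centralizer_singleton_iff.mp x.2.2⟩
        left_inv := fun t => rfl
        right_inv := fun t => rfl }
  have hcomm : (∑ x : B, Nat.card ↥(R ⊓ centralizer ({(x : G)} : Set G))) =
      ∑ t : R, Nat.card ↥(B ⊓ centralizer ({(t : G)} : Set G)) := by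
    simp only [← hfib1, ← hfib2, Finset.card_filter]
    exact Finset.sum_comm
  have h1 : ∀ x : B, q * Nat.card ↥(R ⊓ centralizer ({(x : G)} : Set G)) =
      if (x : G) ∈ C then q * Nat.card R else Nat.card R := by
    intro x
    split_ifs with hx
    · have e : R ⊓ centralizer ({(x : G)} : Set G) = R :=
        inf_eq_left.mpr fun g hg => mem_centralizer_singleton_iff.mpr (hg.2.1 _ hx)
      rw [e]
    · refine S.card_inf_centralizer le_rfl (hB x.2) ?_
      by_contra hall
      push Not at hall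
      exact hx (S.mem_C_of_central (hB x.2) hall)
  have h2 : ∀ t : R, q * Nat.card ↥(B ⊓ centralizer ({(t : G)} : Set G)) =
      if (t : G) ∈ Z then q * Nat.card B else Nat.card B := by
    intro t
    split_ifs with ht
    · have e : B ⊓ centralizer ({(t : G)} : Set G) = B :=
        inf_eq_left.mpr fun g hg => mem_centralizer_singleton_iff.mpr (mem_centralizer_iff.mp ht.2 g hg)
      rw [e]
    · refine S.card_inf_centralizer hB t.2 ?_
      by_contra hall
      push Not at hall
      exact ht ⟨t.2, mem_centralizer_iff.mpr fun x hx => (hall x hx).symm⟩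
  have e := congrArg (q * ·) hcomm
  simp only [Finset.mul_sum, h1, h2, Finset.sum_ite, Finset.sum_const, smul_eq_mul] at e
  have c1 : (Finset.univ.filter fun x : B => (x : G) ∈ C).card = Nat.card C := by
    rw [← Fintype.card_subtype, ← Nat.card_eq_fintype_card]
    exact Nat.card_congr
      { toFun := fun t => ⟨t.1, t.2⟩, invFun := fun t => ⟨⟨t, hCB t.2⟩, t.2⟩
        left_inv := fun t => rfl, right_inv := fun t => rfl }
  have c1' : Nat.card C + (Finset.univ.filter fun x : B => ¬ (x : G) ∈ C).card = Nat.card B := by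
    rw [← c1, Finset.card_filter_add_card_filter_not, Finset.card_univ, Nat.card_eq_fintype_card]
  have c2 : (Finset.univ.filter fun t : R => (t : G) ∈ Z).card = Nat.card Z := by
    rw [← Fintype.card_subtype, ← Nat.card_eq_fintype_card]
    exact Nat.card_congr
      { toFun := fun t => ⟨t.1, t.2⟩, invFun := fun t => ⟨⟨t, t.2.1⟩, t.2⟩
        left_inv := fun t => rfl, right_inv := fun t => rfl }
  have c2' : Nat.card Z + (Finset.univ.filter fun t : R => ¬ (t : G) ∈ Z).card = Nat.card R := by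
    rw [← c2, Finset.card_filter_add_card_filter_not, Finset.card_univ, Nat.card_eq_fintype_card]
  rw [c1, c2] at e
  obtain ⟨q', rfl⟩ : ∃ q', q = q' + 2 := ⟨q - 2, by have := hq.out.two_le; omega⟩
  have e' : (q' + 1) * (Nat.card C * Nat.card R) = (q' + 1) * (Nat.card B * Nat.card Z) := by
    have x1 : (Finset.univ.filter fun x : B => ¬ (x : G) ∈ C).card * Nat.card R + Nat.card C * Nat.card R =
        Nat.card B * Nat.card R := by rw [← c1']; ring
    have x2 : (Finset.univ.filter fun t : R => ¬ (t : G) ∈ Z).card * Nat.card B + Nat.card Z * Nat.card B =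
        Nat.card R * Nat.card B := by rw [← c2']; ring
    ring_nf at e x1 x2 ⊢
    omega
  exact Nat.eq_of_mul_eq_mul_left (by omega) e'

theorem ncard_sdiff_add_inter {α : Type*} (s t : Set α) (hs : s.Finite) :
    (s \ t).ncard + (s ∩ t).ncard = s.ncard := by
  rw [add_comm]; exact Set.ncard_inter_add_ncard_sdiff_eq_ncard s t hs

/-- Subgroups of a family are counted through admissible extensions. -/
theorem card_family_le {𝒳 : Set (Subgroup G)} {e : ℕ} (adm : Subgroup G → Set G)
    (Inv : Subgroup G → Prop) (c : ℕ → ℕ) (h0 : Inv ⊥)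
    (hstep : ∀ A i, Inv A → Nat.card A = q ^ i → ∀ x ∈ adm A,
      Inv (zpowers x ⊔ A) ∧ Nat.card ↥(zpowers x ⊔ A) = q ^ (i + 1))
    (hup : ∀ A i, Inv A → Nat.card A = q ^ i → i < e → (adm A).ncard ≤ c i * (q ^ e - q ^ i))
    (hY : ∀ Y ∈ 𝒳, Nat.card Y = q ^ e ∧ ∀ A ≤ Y, Inv A → ((Y : Set G) \ A) ⊆ adm A) :
    𝒳.ncard ≤ ∏ r ∈ Finset.range e, c r := by
  classical
  have main : ∀ (d : ℕ) (A : Subgroup G) (i : ℕ), i + d = e → Nat.card A = q ^ i → Inv A →
      {Y | Y ∈ 𝒳 ∧ A ≤ Y}.ncard ≤ ∏ r ∈ Finset.range d, c (i + r) := by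
    intro d
    induction d with
    | zero =>
      intro A i hi hA _
      have hsub : {Y | Y ∈ 𝒳 ∧ A ≤ Y} ⊆ {A} := fun Y hYm =>
        Set.mem_singleton_iff.mpr (eq_of_le_of_card_ge hYm.2
          (by rw [(hY Y hYm.1).1, hA, ← hi, add_zero])).symm
      simpa using Set.ncard_le_ncard hsub
    | succ d ih =>
      intro A i hi hA hInv
      set F := {Y | Y ∈ 𝒳 ∧ A ≤ Y} with hF
      haveI : Fintype F := Fintype.ofFinite _
      haveI : Fintype (adm A) := Fintype.ofFinite _
      have hlow : ∀ Y : F, q ^ e - q ^ i ≤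
          (Finset.univ.filter fun x : adm A => (x : G) ∈ (Y : Subgroup G)).card := by
        intro Y
        obtain ⟨hYc, hYs⟩ := hY _ Y.2.1
        rw [← Fintype.card_subtype, ← Nat.card_eq_fintype_card, ← hYc, ← hA, ← SetLike.coe_sort_coe,
          Nat.card_coe_set_eq, ← SetLike.coe_sort_coe (p := A), Nat.card_coe_set_eq,
          ← Set.ncard_sdiff (SetLike.coe_subset_coe.mpr Y.2.2) (Set.toFinite _),
          ← Nat.card_coe_set_eq]
        exact Nat.card_le_card_of_injective
          (fun x => ⟨⟨x.1, hYs A Y.2.2 hInv x.2⟩, x.2.1⟩)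
          fun x y h => Subtype.ext (congrArg
            (fun u : {x : adm A // (x : G) ∈ (Y : Subgroup G)} => ((u : adm A) : G)) h)
      have hhigh : ∀ x : adm A, (Finset.univ.filter fun Y : F => (x : G) ∈ (Y : Subgroup G)).card ≤
          ∏ r ∈ Finset.range d, c (i + 1 + r) := by
        intro x
        obtain ⟨hI, hc⟩ := hstep A i hInv hA x x.2
        refine le_trans ?_ (ih (zpowers (x : G) ⊔ A) (i + 1) (by omega) hc hI)
        rw [← Fintype.card_subtype, ← Nat.card_eq_fintype_card, ← Nat.card_coe_set_eq]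
        exact Nat.card_le_card_of_injective
          (fun Y => ⟨((Y : F) : Subgroup G), (Y : F).2.1, sup_le (zpowers_le.mpr Y.2) (Y : F).2.2⟩)
          fun Y Y' h => Subtype.ext (Subtype.ext (congrArg
            (fun u : {Y | Y ∈ 𝒳 ∧ zpowers (x : G) ⊔ A ≤ Y} => (u : Subgroup G)) h))
      have hswap : ∑ Y : F, (Finset.univ.filter fun x : adm A => (x : G) ∈ (Y : Subgroup G)).card =
          ∑ x : adm A, (Finset.univ.filter fun Y : F => (x : G) ∈ (Y : Subgroup G)).card := by
        simp only [Finset.card_filter]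
        exact Finset.sum_comm
      have h1 : F.ncard * (q ^ e - q ^ i) ≤ (adm A).ncard * ∏ r ∈ Finset.range d, c (i + 1 + r) := by
        calc F.ncard * (q ^ e - q ^ i) = ∑ _Y : F, (q ^ e - q ^ i) := by
              rw [Finset.sum_const, Finset.card_univ, smul_eq_mul, ← Nat.card_eq_fintype_card,
                Nat.card_coe_set_eq]
          _ ≤ _ := Finset.sum_le_sum fun Y _ => hlow Y
          _ = _ := hswap
          _ ≤ ∑ _x : adm A, ∏ r ∈ Finset.range d, c (i + 1 + r) := Finset.sum_le_sum fun x _ => hhigh x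
          _ = _ := by
              rw [Finset.sum_const, Finset.card_univ, smul_eq_mul, ← Nat.card_eq_fintype_card,
                Nat.card_coe_set_eq]
      have hlt : q ^ i < q ^ e := Nat.pow_lt_pow_right hq.out.one_lt (by omega)
      refine Nat.le_of_mul_le_mul_right (h1.trans ?_) (show 0 < q ^ e - q ^ i by omega)
      refine (Nat.mul_le_mul_right _ (hup A i hInv hA (by omega))).trans (le_of_eq ?_)
      have e : ∏ r ∈ Finset.range d, c (i + (r + 1)) = ∏ r ∈ Finset.range d, c (i + 1 + r) :=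
        Finset.prod_congr rfl fun r _ => congrArg c (by omega)
      rw [Finset.prod_range_succ', add_zero, e]
      ring
  have := main e ⊥ 0 (zero_add e) (by rw [Subgroup.card_bot, pow_zero]) h0
  simpa using this

/-- An elementary abelian subgroup of the class two subgroup meeting `C` trivially. -/
structure SylowConfig.Elem (S : SylowConfig Ω P a q L Q C z) (A : Subgroup G) : Prop where
  le : A ≤ S.classTwo
  comm : ∀ x ∈ A, ∀ y ∈ A, x * y = y * x
  pow : ∀ x ∈ A, x ^ q = 1
  inf : ∀ x ∈ A, x ∈ C → x = 1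

theorem SylowConfig.Elem.card_sup (S : SylowConfig Ω P a q L Q C z) {A : Subgroup G} (hA : S.Elem A) :
    ((A ⊔ C : Subgroup G) : Set G) = (A : Set G) * (C : Set G) ∧
      Nat.card ↥(A ⊔ C) = Nat.card A * Nat.card C := by
  have hset : ((A ⊔ C : Subgroup G) : Set G) = (A : Set G) * (C : Set G) :=
    Subgroup.coe_mul_of_left_le_normalizer_right _ _ fun x hx => S.normC (S.Q_le_L (hA.le hx).1)
  refine ⟨hset, ?_⟩
  rw [← Nat.card_prod]
  refine (Nat.card_congr (Equiv.ofBijective
    (fun u : A × C => (⟨(u.1 : G) * u.2,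
      (A ⊔ C).mul_mem (mem_sup_left u.1.2) (mem_sup_right u.2.2)⟩ : ↥(A ⊔ C))) ⟨?_, ?_⟩)).symm
  · rintro ⟨x, c⟩ ⟨x', c'⟩ h
    have h' : (x : G) * c = (x' : G) * c' := congrArg Subtype.val h
    have h1 : (x'⁻¹ * x : G) = (c' : G) * (c : G)⁻¹ := by
      rw [eq_mul_inv_iff_mul_eq, mul_assoc, h']
      simp
    have h2 := hA.inf _ (A.mul_mem (A.inv_mem x'.2) x.2) (h1 ▸ C.mul_mem c'.2 (C.inv_mem c.2))
    have hx : x = x' := Subtype.ext (inv_mul_eq_one.mp h2).symm
    subst hx
    exact Prod.ext rfl (Subtype.ext (mul_left_cancel h'))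
  · rintro ⟨g, hg⟩
    obtain ⟨x, hx, c, hc, rfl⟩ : g ∈ (A : Set G) * (C : Set G) := hset ▸ hg
    exact ⟨(⟨x, hx⟩, ⟨c, hc⟩), rfl⟩

/-- The centraliser of an elementary subgroup. -/
theorem SylowConfig.Elem.card_centralizer (S : SylowConfig Ω P a q L Q C z) {A : Subgroup G}
    (hA : S.Elem A) :
    Nat.card A * Nat.card ↥(S.classTwo ⊓ centralizer (A : Set G)) = Nat.card S.classTwo := by
  have h := S.card_mul_centralizer (B := A ⊔ C) le_sup_right (sup_le hA.le S.C_le_classTwo)
  have e : S.classTwo ⊓ centralizer ((A ⊔ C : Subgroup G) : Set G) =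
      S.classTwo ⊓ centralizer (A : Set G) := by
    refine le_antisymm (inf_le_inf_left _ (centralizer_le (SetLike.coe_subset_coe.mpr le_sup_left))) ?_
    intro g hg
    refine ⟨hg.1, mem_centralizer_iff.mpr fun y hy => ?_⟩
    obtain ⟨x, hx, c, hc, rfl⟩ : y ∈ (A : Set G) * (C : Set G) := (hA.card_sup S).1 ▸ hy
    exact (Commute.mul_left (show Commute x g from mem_centralizer_iff.mp hg.2 x hx)
      (show Commute c g from (hg.1.2.1 c hc).symm)).eq
  rw [e, (hA.card_sup S).2] at h
  exact Nat.eq_of_mul_eq_mul_left (Nat.card_pos (α := C)) (h.trans (by ring)).symm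

/-- The admissible extensions of an elementary subgroup. -/
def SylowConfig.adm (S : SylowConfig Ω P a q L Q C z) (A : Subgroup G) : Set G :=
  {x | x ∈ S.classTwo ⊓ centralizer (A : Set G) ∧ x ^ q = 1} \ (A ⊔ C : Subgroup G)

theorem SylowConfig.Elem.step (S : SylowConfig Ω P a q L Q C z) {A : Subgroup G} (hA : S.Elem A)
    {i : ℕ} (hc : Nat.card A = q ^ i) {x : G} (hx : x ∈ S.adm A) :
    S.Elem (zpowers x ⊔ A) ∧ Nat.card ↥(zpowers x ⊔ A) = q ^ (i + 1) := by
  obtain ⟨⟨hxH, hxq⟩, hxAC⟩ := hx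
  have hcom : ∀ y ∈ A, Commute x y := fun y hy => (mem_centralizer_iff.mp hxH.2 y hy).symm
  have hn : x ∈ normalizer (A : Set G) := by
    rw [Subgroup.mem_normalizer_iff]
    intro y
    constructor
    · intro hy
      rwa [(hcom y hy).eq, mul_inv_cancel_right]
    · intro hy
      have h1 : x * y * x⁻¹ = y := by
        have := (hcom _ hy).eq
        calc x * y * x⁻¹ = x⁻¹ * (x * (x * y * x⁻¹)) := by group
          _ = x⁻¹ * ((x * y * x⁻¹) * x) := by rw [this]
          _ = y := by group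
      rwa [h1] at hy
  have hset : ((zpowers x ⊔ A : Subgroup G) : Set G) = (zpowers x : Set G) * (A : Set G) :=
    Subgroup.coe_mul_of_left_le_normalizer_right _ _ (zpowers_le.mpr hn)
  have hmem : ∀ g ∈ zpowers x ⊔ A, ∃ (j : ℤ) (y : G), y ∈ A ∧ g = x ^ j * y := by
    intro g hg
    obtain ⟨_, ⟨j, rfl⟩, y, hy, rfl⟩ : g ∈ (zpowers x : Set G) * (A : Set G) := hset ▸ hg
    exact ⟨j, y, hy, rfl⟩
  refine ⟨⟨sup_le (zpowers_le.mpr hxH.1) hA.le, ?_, ?_, ?_⟩, ?_⟩
  · intro g hg g' hg'
    obtain ⟨j, y, hy, rfl⟩ := hmem g hg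
    obtain ⟨l, y', hy', rfl⟩ := hmem g' hg'
    exact (((Commute.refl x).zpow_zpow j l).mul_right ((hcom y' hy').zpow_left j)).mul_left
      (((hcom y hy).symm.zpow_right l).mul_right (hA.comm y hy y' hy'))
  · intro g hg
    obtain ⟨j, y, hy, rfl⟩ := hmem g hg
    rw [((hcom y hy).zpow_left j).mul_pow, hA.pow y hy, mul_one, ← zpow_natCast, ← zpow_mul,
      mul_comm, zpow_mul, zpow_natCast, hxq, one_zpow]
  · intro g hg hgC
    obtain ⟨j, y, hy, rfl⟩ := hmem g hg
    by_cases hj : (q : ℤ) ∣ j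
    · obtain ⟨l, rfl⟩ := hj
      have e : x ^ ((q : ℤ) * l) = 1 := by rw [zpow_mul, zpow_natCast, hxq, one_zpow]
      rw [e, one_mul] at hgC ⊢
      exact hA.inf y hy hgC
    · refine absurd ?_ hxAC
      obtain ⟨u, v, huv⟩ : ∃ u v : ℤ, u * j + v * q = 1 :=
        (Int.isCoprime_iff_nat_coprime.mpr (Nat.coprime_comm.mp
          (hq.out.coprime_iff_not_dvd.mpr fun hd => hj (Int.natCast_dvd.mpr hd))))
      have h1 : x ^ j ∈ A ⊔ C := by
        have := (A ⊔ C).mul_mem (mem_sup_right hgC) (mem_sup_left (A.inv_mem hy))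
        rwa [mul_inv_cancel_right] at this
      have h2 : x = (x ^ j) ^ u := by
        conv_lhs => rw [← zpow_one x, ← huv, zpow_add, zpow_mul' x v, zpow_natCast, hxq, one_zpow,
          mul_one, mul_comm u j, zpow_mul]
      rw [h2]
      exact (A ⊔ C).zpow_mem h1 u
  · refine le_antisymm ((card_sup_zpowers_le hn (hxq ▸ A.one_mem)).trans (le_of_eq (by rw [hc]; ring))) ?_
    obtain ⟨d, hd⟩ := Subgroup.card_dvd_of_le (le_sup_right : A ≤ zpowers x ⊔ A)
    obtain ⟨j, hj⟩ := (S.pgroup.to_le (show zpowers x ⊔ A ≤ Q from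
      sup_le (zpowers_le.mpr hxH.1.1) (hA.le.trans S.classTwo_le))).exists_card_eq
    rw [hj]
    refine Nat.pow_le_pow_right hq.out.pos (Nat.succ_le_of_lt (Nat.lt_of_not_le fun hle => hxAC ?_))
    have e := eq_of_le_of_card_ge (le_sup_right : A ≤ zpowers x ⊔ A)
      (by rw [hj, hc]; exact Nat.pow_le_pow_right hq.out.pos hle)
    refine mem_sup_left ?_
    rw [e]
    exact mem_sup_left (mem_zpowers x)

/-- The elements of order dividing `q` already in `A ⊔ C`. -/
theorem SylowConfig.Elem.card_adm_add (S : SylowConfig Ω P a q L Q C z) {A : Subgroup G}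
    (hA : S.Elem A) : (S.adm A).ncard + Nat.card A * q ≤
      {x | x ∈ S.classTwo ⊓ centralizer (A : Set G) ∧ x ^ q = 1}.ncard := by
  have h1 : Nat.card A * q ≤ ({x | x ∈ S.classTwo ⊓ centralizer (A : Set G) ∧ x ^ q = 1} ∩
      ((A ⊔ C : Subgroup G) : Set G)).ncard := by
    rw [show Nat.card A * q = Nat.card (A × zpowers z) by rw [Nat.card_prod, Nat.card_zpowers, S.z_ord],
      ← Nat.card_coe_set_eq]
    have hzC : ∀ w ∈ zpowers z, w ∈ C := fun w hw => zpowers_le.mpr S.z_mem hw
    refine Nat.card_le_card_of_injective (fun u : A × zpowers z => ⟨(u.1 : G) * u.2,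
      ⟨⟨S.classTwo.mul_mem (hA.le u.1.2) (S.C_le_classTwo (hzC _ u.2.2)),
        mem_centralizer_iff.mpr fun y hy => ?_⟩, ?_⟩, ?_⟩) fun u u' h => ?_
    · exact (Commute.mul_right (show Commute y (u.1 : G) from hA.comm y hy _ u.1.2)
        (show Commute y (u.2 : G) from (hA.le hy).2.1 _ (hzC _ u.2.2))).eq
    · rw [(show Commute (u.1 : G) u.2 from (hA.le u.1.2).2.1 _ (hzC _ u.2.2)).mul_pow, hA.pow _ u.1.2,
        one_mul]
      obtain ⟨j, hj⟩ := mem_zpowers_iff.mp u.2.2
      rw [← hj, ← zpow_natCast, ← zpow_mul, mul_comm, zpow_mul, zpow_natCast, S.z_pow, one_zpow]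
    · exact (A ⊔ C).mul_mem (mem_sup_left u.1.2) (mem_sup_right (hzC _ u.2.2))
    · have h' : (u.1 : G) * u.2 = (u'.1 : G) * u'.2 := congrArg Subtype.val h
      have h2 : ((u'.1 : G)⁻¹ * u.1 : G) = (u'.2 : G) * (u.2 : G)⁻¹ := by
        rw [eq_mul_inv_iff_mul_eq, mul_assoc, h']
        simp
      have h3 := hA.inf _ (A.mul_mem (A.inv_mem u'.1.2) u.1.2)
        (h2 ▸ C.mul_mem (hzC _ u'.2.2) (C.inv_mem (hzC _ u.2.2)))
      have hx : u.1 = u'.1 := Subtype.ext (inv_mul_eq_one.mp h3).symm
      rw [hx] at h'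
      exact Prod.ext hx (Subtype.ext (mul_left_cancel h'))
  have h4 := ncard_sdiff_add_inter {x | x ∈ S.classTwo ⊓ centralizer (A : Set G) ∧ x ^ q = 1}
    ((A ⊔ C : Subgroup G) : Set G) (Set.toFinite _)
  rw [SylowConfig.adm]
  omega

/-- Elements of order dividing `q` above `C`. -/
theorem SylowConfig.card_pow_eq_one_le (S : SylowConfig Ω P a q L Q C z) {H : Subgroup G}
    (hCH : C ≤ H) (hH : H ≤ S.classTwo) :
    {x | x ∈ H ∧ x ^ q = 1}.ncard * Nat.card C ≤ q * Nat.card H := by
  classical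
  set Om := {x | x ∈ H ∧ x ^ q = 1}
  have key : Om.ncard ≤ (C.subgroupOf H).index * Nat.card (zpowers z) := by
    rw [← Nat.card_coe_set_eq, Subgroup.index, ← Nat.card_prod]
    have hrep : ∀ t : Om, ∃ s : Om, (QuotientGroup.mk (⟨s.1, s.2.1⟩ : H) : H ⧸ C.subgroupOf H) =
        QuotientGroup.mk (⟨t.1, t.2.1⟩ : H) := fun t => ⟨t, rfl⟩
    let σ : H ⧸ C.subgroupOf H → G := fun x =>
      if h : ∃ s : Om, (QuotientGroup.mk (⟨s.1, s.2.1⟩ : H) : H ⧸ C.subgroupOf H) = x then
        (h.choose : G) else 1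
    have hmem : ∀ t : Om, (σ (QuotientGroup.mk (⟨t.1, t.2.1⟩ : H)))⁻¹ * t.1 ∈ zpowers z := by
      intro t
      simp only [σ, dif_pos (hrep t)]
      set s := (hrep t).choose
      have hs := (hrep t).choose_spec
      have h1 : (s : G)⁻¹ * t.1 ∈ C :=
        mem_subgroupOf.mp ((QuotientGroup.eq (s := C.subgroupOf H)).mp hs)
      refine S.omega _ h1 ?_
      have h2 : Commute (s : G) ((s : G)⁻¹ * t.1) := (hH s.2.1).2.1 _ h1
      have h3 : t.1 = (s : G) * ((s : G)⁻¹ * t.1) := by group
      have h4 := t.2.2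
      rw [h3, h2.mul_pow, s.2.2, one_mul] at h4
      exact h4
    refine Nat.card_le_card_of_injective (fun t : Om => (QuotientGroup.mk (⟨t.1, t.2.1⟩ : H),
      (⟨_, hmem t⟩ : zpowers z))) fun t t' h => ?_
    have h1 := congrArg Prod.fst h
    have h2 := congrArg (fun x : (H ⧸ C.subgroupOf H) × zpowers z => (x.2 : G)) h
    simp only at h1 h2
    rw [h1] at h2
    exact Subtype.ext (mul_left_cancel h2)
  rw [Nat.card_zpowers, S.z_ord] at key
  calc Om.ncard * Nat.card C ≤ (C.subgroupOf H).index * q * Nat.card C := Nat.mul_le_mul_right _ key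
    _ = q * ((C.subgroupOf H).index * Nat.card (C.subgroupOf H)) := by
        rw [Nat.card_congr (subgroupOfEquivOfLe hCH).toEquiv]; ring
    _ = q * Nat.card H := by rw [Subgroup.index_mul_card]

/-- Outside the centraliser of an elementary subgroup exactly half the elements are involutions. -/
theorem SylowConfig.involutions_balanced [hq2 : Fact (Nat.Prime 2)] {L Q C : Subgroup G} {z : G}
    (S : SylowConfig Ω P a 2 L Q C z) (hC : Nat.card C = 2) {A : Subgroup G} (hA : S.Elem A) :
    2 * {x | x ∈ S.classTwo ∧ x ^ 2 = 1}.ncard + Nat.card ↥(S.classTwo ⊓ centralizer (A : Set G)) =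
      2 * {x | x ∈ S.classTwo ⊓ centralizer (A : Set G) ∧ x ^ 2 = 1}.ncard + Nat.card S.classTwo := by
  classical
  set R := S.classTwo with hR
  set H := R ⊓ centralizer (A : Set G) with hH
  set Out : Set G := {x | x ∈ R ∧ x ∉ H} with hOut
  haveI : Fintype Out := Fintype.ofFinite _
  haveI : Fintype A := Fintype.ofFinite _
  have hCz : C = zpowers z := (eq_of_le_of_card_ge (zpowers_le.mpr S.z_mem)
    (by rw [hC, Nat.card_zpowers, S.z_ord])).symm
  have h01 : ∀ c ∈ C, c = 1 ∨ c = z := by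
    intro c hc
    obtain ⟨i, rfl⟩ := mem_zpowers_iff.mp (hCz ▸ hc)
    rw [← zpow_mod_orderOf, S.z_ord]
    rcases Int.emod_two_eq_zero_or_one i with h | h <;> simp [h]
  have hzz : z * z = 1 := by rw [← pow_two]; exact S.z_pow
  have hshift : ∀ (x : Out) (u : A), (x : G) * u ∈ Out := fun x u =>
    ⟨R.mul_mem x.2.1 (hA.le u.2), fun h => x.2.2 (by
      have hu : (u : G) ∈ H := ⟨hA.le u.2, mem_centralizer_iff.mpr fun y hy => hA.comm y hy u u.2⟩
      simpa using H.mul_mem h (H.inv_mem hu))⟩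
  -- translation invariance
  have hinv : ∀ u : A, (Finset.univ.filter fun x : Out => ((x : G) * u) ^ 2 = 1).card =
      (Finset.univ.filter fun x : Out => (x : G) ^ 2 = 1).card := by
    intro u
    rw [← Fintype.card_subtype, ← Fintype.card_subtype]
    refine Fintype.card_congr
      { toFun := fun x => ⟨⟨_, hshift x.1 u⟩, x.2⟩
        invFun := fun x => ⟨⟨_, hshift x.1 u⁻¹⟩, by simpa using x.2⟩
        left_inv := fun x => Subtype.ext (Subtype.ext (by simp))
        right_inv := fun x => Subtype.ext (Subtype.ext (by simp)) }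
  -- half of each translate
  have hhalf : ∀ x : Out, 2 * (Finset.univ.filter fun u : A => ((x : G) * u) ^ 2 = 1).card =
      Fintype.card A := by
    intro x
    obtain ⟨b, hb, hxb⟩ : ∃ b ∈ A, b * (x : G) ≠ x * b := by
      by_contra h
      push Not at h
      exact x.2.2 ⟨x.2.1, mem_centralizer_iff.mpr h⟩
    have hbR : b ∈ R := hA.le hb
    have hk : (x : G) * b * (x : G)⁻¹ * b⁻¹ = z := by
      rcases h01 _ (x.2.1.2.2.2 b hbR.1) with h | h
      · exact absurd (mul_inv_eq_iff_eq_mul.mp (mul_inv_eq_one.mp h)).symm hxb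
      · exact h
    have hb2 : b * b = 1 := by rw [← pow_two]; exact hA.pow b hb
    have hflip : ∀ u : A, (((x : G) * u) * b) ^ 2 = z * ((x : G) * u) ^ 2 := by
      intro u
      have hub : (u : G) * b = b * u := hA.comm u u.2 b hb
      have e : (x : G) * u * b * ((x : G) * u)⁻¹ * b⁻¹ = z := by
        calc (x : G) * u * b * ((x : G) * u)⁻¹ * b⁻¹ = (x : G) * ((u : G) * b) * (u : G)⁻¹ * (x : G)⁻¹ * b⁻¹ := by
              group
          _ = (x : G) * b * (x : G)⁻¹ * b⁻¹ := by rw [hub]; group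
          _ = z := hk
      set y := (x : G) * u with hy
      have hyR : y ∈ R := R.mul_mem x.2.1 (hA.le u.2)
      have hzb : b * z = z * b := hbR.2.1 z S.z_mem
      have hzy : y * z = z * y := hyR.2.1 z S.z_mem
      have e' : y * b = z * b * y := by
        calc y * b = (y * b * y⁻¹ * b⁻¹) * b * y := by group
          _ = z * b * y := by rw [e]
      calc (y * b) ^ 2 = (y * b) * (y * b) := pow_two _
        _ = (z * b * y) * (y * b) := by rw [← e']
        _ = z * (b * (y * y) * b) := by group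
        _ = z * (y * y) := by
            rw [hbR.2.1 (y * y) (by rw [← pow_two]; exact hyR.2.2.1), mul_assoc (y * y), hb2, mul_one]
        _ = z * y ^ 2 := by rw [pow_two]
    have heq : (Finset.univ.filter fun u : A => ((x : G) * u) ^ 2 = 1).card =
        (Finset.univ.filter fun u : A => ¬ ((x : G) * u) ^ 2 = 1).card := by
      rw [← Fintype.card_subtype, ← Fintype.card_subtype]
      refine Fintype.card_congr
        { toFun := fun u => ⟨u.1 * ⟨b, hb⟩, ?_⟩
          invFun := fun u => ⟨u.1 * ⟨b, hb⟩, ?_⟩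
          left_inv := fun u => Subtype.ext (Subtype.ext (by simp [mul_assoc, hb2]))
          right_inv := fun u => Subtype.ext (Subtype.ext (by simp [mul_assoc, hb2])) }
      · show ¬ ((x : G) * ((u.1 : G) * b)) ^ 2 = 1
        rw [← mul_assoc, hflip, u.2, mul_one]
        exact S.z_ne_one
      · show ((x : G) * ((u.1 : G) * b)) ^ 2 = 1
        rw [← mul_assoc, hflip]
        rcases h01 _ (R.mul_mem x.2.1 (hA.le u.1.2)).2.2.1 with h | h
        · exact absurd h u.2
        · rw [h, hzz]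
    have h := Finset.card_filter_add_card_filter_not (s := (Finset.univ : Finset A))
      (fun u : A => ((x : G) * u) ^ 2 = 1)
    rw [Finset.card_univ] at h
    omega
  have hswap : ∑ x : Out, (Finset.univ.filter fun u : A => ((x : G) * u) ^ 2 = 1).card =
      ∑ u : A, (Finset.univ.filter fun x : Out => ((x : G) * u) ^ 2 = 1).card := by
    simp only [Finset.card_filter]
    exact Finset.sum_comm
  have h1 : 2 * (Finset.univ.filter fun x : Out => (x : G) ^ 2 = 1).card = Fintype.card Out := by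
    have h2 := congrArg (2 * ·) hswap
    simp only [Finset.mul_sum, hhalf, hinv, Finset.sum_const, Finset.card_univ, smul_eq_mul] at h2
    refine (Nat.eq_of_mul_eq_mul_left (Fintype.card_pos (α := A)) ?_).symm
    calc _ = Fintype.card Out * Fintype.card A := mul_comm _ _
      _ = _ := h2.trans (by ring)
  have h3 : (Finset.univ.filter fun x : Out => (x : G) ^ 2 = 1).card =
      ({x | x ∈ R ∧ x ^ 2 = 1} \ (H : Set G)).ncard := by
    rw [← Fintype.card_subtype, ← Nat.card_eq_fintype_card, ← Nat.card_coe_set_eq]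
    exact Nat.card_congr
      { toFun := fun x => ⟨x.1, ⟨x.1.2.1, x.2⟩, x.1.2.2⟩
        invFun := fun x => ⟨⟨x, x.2.1.1, x.2.2⟩, x.2.1.2⟩
        left_inv := fun x => rfl
        right_inv := fun x => rfl }
  have h4 : {x | x ∈ R ∧ x ^ 2 = 1} ∩ (H : Set G) = {x | x ∈ H ∧ x ^ 2 = 1} :=
    Set.ext fun x => ⟨fun h => ⟨h.2, h.1.2⟩, fun h => ⟨⟨h.1.1, h.2⟩, h.1⟩⟩
  have h5 := ncard_sdiff_add_inter {x | x ∈ R ∧ x ^ 2 = 1} (H : Set G) (Set.toFinite _)
  rw [h4] at h5
  have h6 : Fintype.card Out + Nat.card H = Nat.card R := by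
    rw [← Nat.card_eq_fintype_card, Nat.card_coe_set_eq, ← SetLike.coe_sort_coe,
      Nat.card_coe_set_eq, ← SetLike.coe_sort_coe (p := R), Nat.card_coe_set_eq,
      show Out = (R : Set G) \ (H : Set G) from rfl,
      Set.ncard_sdiff_add_ncard_of_subset (SetLike.coe_subset_coe.mpr inf_le_left) (Set.toFinite _)]
  omega

end CfsgLib.Derangements
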