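import Mathlib

/-!
# The arithmetic of the class two bound
-/

set_option autoImplicit false

namespace CfsgLib.Derangements

/-- The product bounding the number of elementary subgroups. -/
def classTwoProd (q u e : ℕ) : ℕ := ∏ i ∈ Finset.range e, (q ^ (u + i) + 1)

theorem prod_count (q u e : ℕ) :
    ∏ r ∈ Finset.range e, q * (q ^ (u + (e - 1 - r)) + 1) = q ^ e * classTwoProd q u e := by
  rw [Finset.prod_mul_distrib, Finset.prod_const, Finset.card_range,
    Finset.prod_range_reflect (fun i => q ^ (u + i) + 1) e]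
  rfl

theorem succ_sq_le_of_two {m u e w : ℕ} (he : 1 ≤ e) (hw : 2 ^ (u + 1) + 1 ≤ w)
    (hm : m * 2 ^ (u + 1) ≤ classTwoProd 2 u e * (w - 1)) : (m + 1) ^ 2 ≤ w ^ (2 ^ e) := by
  have key : ∀ n : ℕ, classTwoProd 2 u (n + 1) * (w - 1) + 2 ^ (u + 1) ≤
      2 ^ (u + 1) * w ^ (2 ^ n) := by
    intro n
    induction n with
    | zero =>
      have := Nat.two_pow_pos (u + 1)
      obtain ⟨v, rfl⟩ : ∃ v, w = v + 1 := ⟨w - 1, by omega⟩
      simp only [classTwoProd, zero_add, Finset.prod_range_one, add_zero, pow_zero, pow_one,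
        Nat.add_sub_cancel]
      rw [mul_add, mul_one]
      have : 2 ^ u + 1 ≤ 2 ^ (u + 1) := by
        rw [pow_succ]; have := Nat.one_le_two_pow (n := u); omega
      exact Nat.add_le_add_right (Nat.mul_le_mul_right _ this) _
    | succ n ih =>
      have hK : 2 ^ (u + (n + 1)) ≤ w ^ (2 ^ n) := by
        refine le_trans ?_ (Nat.pow_le_pow_left (show 2 ^ (u + 1) ≤ w by omega) _)
        rw [← pow_mul]
        refine Nat.pow_le_pow_right two_pos ?_
        have h1 : u ≤ u * 2 ^ n := Nat.le_mul_of_pos_right u (Nat.two_pow_pos n)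
        have h2 : n < 2 ^ n := Nat.lt_two_pow_self
        rw [add_mul, one_mul]
        omega
      have hsq : w ^ (2 ^ (n + 1)) = w ^ (2 ^ n) * w ^ (2 ^ n) := by
        rw [← pow_add]; congr 1; rw [pow_succ]; ring
      rw [classTwoProd, Finset.prod_range_succ, ← classTwoProd, hsq,
        mul_right_comm (classTwoProd 2 u (n + 1))]
      set V := classTwoProd 2 u (n + 1) * (w - 1)
      set K := w ^ (2 ^ n)
      set c := 2 ^ (u + 1)
      set f := 2 ^ (u + (n + 1))
      nlinarith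
  obtain ⟨n, rfl⟩ : ∃ n, e = n + 1 := ⟨e - 1, by omega⟩
  have h1 : (m + 1) * 2 ^ (u + 1) ≤ w ^ (2 ^ n) * 2 ^ (u + 1) := by
    rw [add_mul, one_mul, mul_comm (w ^ 2 ^ n)]
    exact (Nat.add_le_add_right hm _).trans (key n)
  rw [pow_succ 2 n, pow_mul]
  exact Nat.pow_le_pow_left (Nat.le_of_mul_le_mul_right h1 (Nat.two_pow_pos _)) 2

theorem succ_sq_le_of_odd {m q e w : ℕ} (hq : 3 ≤ q) (he : 1 ≤ e) (hw : q + 1 ≤ w)
    (hm : m * q ≤ classTwoProd q 1 e * (w - 1)) : (m + 1) ^ 2 ≤ w ^ (q ^ e) := by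
  have key : ∀ n : ℕ, q + 1 ≤ classTwoProd q 1 (n + 1) ∧
      (classTwoProd q 1 (n + 1) * w) ^ 2 ≤ q ^ 2 * w ^ (q ^ (n + 1)) := by
    intro n
    induction n with
    | zero =>
      simp only [classTwoProd, zero_add, Finset.prod_range_one, add_zero, pow_one]
      refine ⟨le_rfl, ?_⟩
      refine le_trans ?_ (Nat.mul_le_mul_left _ (Nat.pow_le_pow_right (by omega) hq))
      calc ((q + 1) * w) ^ 2 ≤ (2 * q * w) ^ 2 := Nat.pow_le_pow_left (Nat.mul_le_mul_right _ (by omega)) 2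
        _ = q ^ 2 * (4 * w ^ 2) := by ring
        _ ≤ q ^ 2 * w ^ 3 := Nat.mul_le_mul_left _ (by
            rw [pow_succ w 2, mul_comm (w ^ 2)]; exact Nat.mul_le_mul_right _ (by omega))
    | succ n ih =>
      rw [classTwoProd, Finset.prod_range_succ, ← classTwoProd]
      refine ⟨ih.1.trans (Nat.le_mul_of_pos_right _ (by positivity)), ?_⟩
      have h1 : q ^ (1 + (n + 1)) + 1 ≤ w ^ (q ^ (n + 1)) := by
        refine le_trans ?_ (Nat.pow_le_pow_left hw _)
        refine le_trans ?_ (Nat.pow_le_pow_right (by omega) (show n + 2 ≤ q ^ (n + 1) from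
          Nat.lt_pow_self (by omega)))
        rw [show 1 + (n + 1) = n + 2 by omega]
        exact Nat.pow_lt_pow_left (Nat.lt_succ_self q) (by omega)
      calc (classTwoProd q 1 (n + 1) * (q ^ (1 + (n + 1)) + 1) * w) ^ 2
          = (classTwoProd q 1 (n + 1) * w) ^ 2 * (q ^ (1 + (n + 1)) + 1) ^ 2 := by ring
        _ ≤ q ^ 2 * w ^ (q ^ (n + 1)) * (w ^ (q ^ (n + 1))) ^ 2 :=
            Nat.mul_le_mul ih.2 (Nat.pow_le_pow_left h1 2)
        _ = q ^ 2 * w ^ (3 * q ^ (n + 1)) := by rw [mul_assoc, ← pow_mul, ← pow_add]; ring_nf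
        _ ≤ q ^ 2 * w ^ (q ^ (n + 1 + 1)) := by
            refine Nat.mul_le_mul_left _ (Nat.pow_le_pow_right (by omega) ?_)
            rw [pow_succ q (n + 1), mul_comm (q ^ (n + 1)) q]
            exact Nat.mul_le_mul_right _ hq
  obtain ⟨n, rfl⟩ : ∃ n, e = n + 1 := ⟨e - 1, by omega⟩
  obtain ⟨hV, h2⟩ := key n
  set V := classTwoProd q 1 (n + 1)
  have h1 : (m + 1) * q ≤ V * w := by
    obtain ⟨v, rfl⟩ : ∃ v, w = v + 1 := ⟨w - 1, by omega⟩
    rw [Nat.add_sub_cancel] at hm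
    rw [add_mul, one_mul, mul_add, mul_one]
    omega
  have h3 := (Nat.pow_le_pow_left h1 2).trans h2
  rw [mul_pow, mul_comm] at h3
  exact Nat.le_of_mul_le_mul_left h3 (by positivity)

end CfsgLib.Derangements
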