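import Mathlib
import Cfsg.Agent.Lib.Derangements.AffineClassTwoCount
import Cfsg.Agent.Lib.Derangements.ClassTwoArith

/-!
# The index bound in the class two case
-/

set_option autoImplicit false
set_option linter.unusedSectionVars false
set_option linter.style.haveILetI false

namespace CfsgLib.Derangements

open MulAction Subgroup
open scoped Pointwise

variable {G : Type*} [Group G] [Finite G] {Ω : Type*} [MulAction G Ω]
variable {P : Subgroup G} {a : Ω} {q : ℕ} [hq : Fact q.Prime] {L Q C : Subgroup G} {z : G}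

variable [IsPretransitive G Ω] [Finite Ω] [Nontrivial Ω] {p : ℕ}

/-- The bound in the class two case. -/
theorem SylowConfig.bound_of_classTwo (S : SylowConfig Ω P a q L Q C z)
    (cfg : RegularConfig Ω p P a) (hnb : ¬ ((derSubgroup G Ω).index + 1) ^ 2 ≤ Nat.card Ω)
    {t₀ : G} (ht₀ : t₀ ∈ S.classTwo) (ht₀C : t₀ ∉ C) : False := by
  classical
  set R := S.classTwo with hRdef
  have hRL : R ≤ L := S.classTwo_le.trans S.Q_le_L
  have hRD : R ≤ derSubgroup G Ω ⊓ L := S.classTwo_le.trans S.Q_le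
  have hLP : L ≤ normalizer (P : Set G) := S.L_le.trans inf_le_right
  -- a non-central element of order `q` with a fixed point
  obtain ⟨r, hr, hrq, hrC⟩ := S.exists_order_q_outside ht₀ ht₀C
  have hPne : P ≠ ⊥ := (Subgroup.one_lt_card_iff_ne_bot P).mp (cfg.card_eq ▸ Finite.one_lt_card)
  haveI : Nontrivial P := (Subgroup.nontrivial_iff_ne_bot P).mpr hPne
  obtain ⟨⟨v, hvP⟩, hv1'⟩ := exists_ne (1 : P)
  obtain ⟨i, y, hyP, hy1, hfix⟩ := cfg.exists_fix_mul S.coprime (hr.2.1 z S.z_mem) hrq S.z_pow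
    le_rfl (hLP (hRL hr)) (hLP (S.Q_le_L (S.C_le S.z_mem))) S.z_free hvP
    (fun h => hv1' (Subtype.ext h))
  have hu₀ : r * z ^ i ∈ R := R.mul_mem hr (R.pow_mem (S.C_le_classTwo S.z_mem) i)
  have hu₀C : r * z ^ i ∉ C := fun h => hrC (by
    simpa using C.mul_mem h (C.inv_mem (C.pow_mem S.z_mem i)))
  obtain ⟨y₀, hy₀P, hy₀1, hyy₀, hmax⟩ := exists_max_stabilizer (A := R) hyP hy1
  set X := R ⊓ centralizer ({y₀} : Set G) with hXdef
  have hXC : ∀ x ∈ X, x ∈ C → x = 1 := fun x hx hxC =>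
    S.eq_one_of_fix hxC hy₀P hy₀1 (mem_centralizer_singleton_iff.mp hx.2)
  have hXc : ∀ x ∈ X, ∀ x' ∈ X, x * x' = x' * x := fun x hx x' hx' => by
    refine mul_inv_eq_iff_eq_mul.mp (mul_inv_eq_one.mp (hXC _ ?_ ?_))
    · exact X.mul_mem (X.mul_mem (X.mul_mem hx hx') (X.inv_mem hx)) (X.inv_mem hx')
    · exact hx.1.2.2.2 x' hx'.1.1
  have hXp : ∀ x ∈ X, x ^ q = 1 := fun x hx => hXC _ (X.pow_mem hx q) hx.1.2.2.1
  have hXne : X ≠ ⊥ := fun h => by
    rw [h, Subgroup.card_bot] at hyy₀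
    have h1 : r * z ^ i ∈ R ⊓ centralizer ({y} : Set G) :=
      ⟨hu₀, mem_centralizer_singleton_iff.mpr hfix⟩
    rw [Subgroup.eq_bot_of_card_le _ hyy₀, mem_bot] at h1
    exact hu₀C (h1 ▸ C.one_mem)
  set W := fixIn P X with hWdef
  have hy₀W : y₀ ∈ W := mem_fixIn.mpr ⟨hy₀P, fun x hx => mem_centralizer_singleton_iff.mp hx.2⟩
  have hstab : ∀ w ∈ W, w ≠ 1 → R ⊓ centralizer ({w} : Set G) = X := fun w hw hw1 =>
    hmax w hw.1 hw1 (mem_centralizer_fixIn hw)
  have hW1 : 1 < Nat.card W := (Subgroup.one_lt_card_iff_ne_bot W).mpr fun h => by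
    rw [h, mem_bot] at hy₀W; exact hy₀1 hy₀W
  set C' := R ⊓ centralizer (X : Set G) with hC'def
  have hXC' : X ≤ C' := fun x hx =>
    ⟨hx.1, mem_centralizer_iff.mpr fun x' hx' => hXc x' hx' x hx⟩
  have hCC' : C ≤ C' := fun c hc =>
    ⟨S.C_le_classTwo hc, mem_centralizer_iff.mpr fun x hx => hx.1.2.1 c hc⟩
  have hC'N : C' ≤ normalizer (X : Set G) := fun g hg => by
    rw [Subgroup.mem_normalizer_iff]
    intro x
    constructor
    · intro hx
      rwa [← mem_centralizer_iff.mp hg.2 x hx, mul_inv_cancel_right]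
    · intro hx
      have h1 := mem_centralizer_iff.mp hg.2 _ hx
      have h2 : x = g * x * g⁻¹ := by
        calc x = g⁻¹ * ((g * x * g⁻¹) * g) := by group
          _ = g⁻¹ * (g * (g * x * g⁻¹)) := by rw [h1]
          _ = g * x * g⁻¹ := by group
      rwa [h2]
  have hNX : R ⊓ normalizer (X : Set G) = C' := by
    refine le_antisymm ?_ (le_inf inf_le_left hC'N)
    intro g hg
    refine ⟨hg.1, mem_centralizer_iff.mpr fun x hx => ?_⟩
    refine (mul_inv_eq_iff_eq_mul.mp (mul_inv_eq_one.mp (hXC _ ?_ ?_))).symm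
    · exact X.mul_mem ((Subgroup.mem_normalizer_iff.mp hg.2 x).mp hx) (X.inv_mem hx)
    · exact hg.1.2.2.2 x hx.1.1
  have hXE : S.Elem X := ⟨inf_le_left, hXc, hXp, hXC⟩
  set k := Nat.card X with hk
  have hRC' : Nat.card R = k * Nat.card C' := (hXE.card_centralizer S).symm
  have hrk : (conjSet R X).ncard = k := by
    have h := card_conjSet R X
    rw [hNX, hRC'] at h
    exact Nat.eq_of_mul_eq_mul_right Nat.card_pos h
  -- the elementary subgroup containing all conjugates
  set E := X ⊔ zpowers z with hEdef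
  have hzR : z ∈ R := S.C_le_classTwo S.z_mem
  have hzX : ∀ x ∈ X, x * z = z * x := fun x hx => hx.1.2.1 z S.z_mem
  have hzNX : zpowers z ≤ normalizer (X : Set G) :=
    zpowers_le.mpr (hC'N (hCC' S.z_mem))
  have hEset : (E : Set G) = (zpowers z : Set G) * (X : Set G) := by
    rw [hEdef, sup_comm]
    exact Subgroup.coe_mul_of_left_le_normalizer_right _ _ hzNX
  have hEc : ∀ e ∈ E, ∀ e' ∈ E, e * e' = e' * e := by
    have hle : E ≤ centralizer (E : Set G) := by
      refine sup_le (fun x hx => mem_centralizer_iff.mpr fun e he => ?_)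
        (fun x hx => mem_centralizer_iff.mpr fun e he => ?_)
      · rw [hEset] at he
        obtain ⟨_, ⟨j, rfl⟩, x', hx', rfl⟩ := he
        exact (Commute.mul_left ((show Commute z x from (hzX x hx).symm).zpow_left j) (show Commute x' x from hXc x' hx' x hx)).eq
      · rw [hEset] at he
        obtain ⟨_, ⟨j, rfl⟩, x', hx', rfl⟩ := he
        obtain ⟨l, rfl⟩ := mem_zpowers_iff.mp hx
        exact (Commute.mul_left ((Commute.refl z).zpow_zpow j l)
          ((show Commute x' z from hzX x' hx').zpow_right l)).eq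
    exact fun e he e' he' => (mem_centralizer_iff.mp (hle he') e he)
  have hEcard : Nat.card E ≤ q * k := by
    rw [hk, ← S.z_ord, ← Nat.card_zpowers, ← Nat.card_prod]
    refine Nat.card_le_card_of_surjective
      (fun u : zpowers z × X => (⟨(u.1 : G) * u.2,
        E.mul_mem (mem_sup_right u.1.2) (mem_sup_left u.2.2)⟩ : E)) ?_
    rintro ⟨e, he⟩
    obtain ⟨w, hw, x, hx, rfl⟩ : e ∈ (zpowers z : Set G) * (X : Set G) := hEset ▸ he
    exact ⟨(⟨w, hw⟩, ⟨x, hx⟩), rfl⟩
  have hER : E ≤ R := sup_le (fun x hx => hx.1) (zpowers_le.mpr hzR)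
  have hEP : fixIn P E = ⊥ := (Subgroup.eq_bot_iff_forall _).mpr fun w hw =>
    S.z_free w hw.1 ((mem_fixIn.mp hw).2 z (mem_sup_right (mem_zpowers z)))
  set 𝒳 := conjSet R X with h𝒳
  haveI : Fintype 𝒳 := Fintype.ofFinite _
  have h𝒳mem : ∀ Y ∈ 𝒳, Y ≤ E ∧ Nat.card Y = k ∧ Nat.card (fixIn P Y) = Nat.card W := by
    rintro Y ⟨g, hg, rfl⟩
    refine ⟨?_, (Nat.card_congr (X.equivMapOfInjective _ (MulAut.conj g).injective).toEquiv).symm,
      card_fixIn_map (hLP (hRL hg))⟩
    rintro _ ⟨x, hx, rfl⟩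
    show g * x * g⁻¹ ∈ E
    rw [show g * x * g⁻¹ = (g * x * g⁻¹ * x⁻¹) * x by group]
    exact E.mul_mem (mem_sup_right (S.commutator_mem hg hx.1)) (mem_sup_left hx)
  have hprod : Nat.card W ^ k ≤ Nat.card Ω := by
    have h := cfg.prod_card_le (E := E)
      (le_inf (hER.trans (hRD.trans inf_le_left)) ((hER.trans hRL).trans (S.L_le.trans inf_le_left)))
      ((hER.trans hRL).trans hLP) hEc hEP (fun Y : 𝒳 => (Y : Subgroup G))
      (fun Y => (h𝒳mem _ Y.2).1) fun Y Y' hne' => ?_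
    · rw [Finset.prod_congr rfl (fun (Y : 𝒳) _ => (h𝒳mem _ Y.2).2.2), Finset.prod_const,
        Finset.card_univ, ← Nat.card_eq_fintype_card, Nat.card_coe_set_eq, h𝒳, hrk] at h
      exact h
    · obtain ⟨hY, hYc, -⟩ := h𝒳mem _ Y.2
      obtain ⟨hY', hYc', -⟩ := h𝒳mem _ Y'.2
      have hle : (Y : Subgroup G) ⊔ Y' ≤ E := sup_le hY hY'
      obtain ⟨d, hd⟩ := Subgroup.card_dvd_of_le
        (le_sup_left : (Y : Subgroup G) ≤ (Y : Subgroup G) ⊔ Y')
      have hd1 : d ≠ 1 := fun h => hne' (by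
        rw [h, mul_one] at hd
        have e := eq_of_le_of_card_ge (le_sup_left : (Y : Subgroup G) ≤ (Y : Subgroup G) ⊔ Y') hd.le
        have hY'Y : (Y' : Subgroup G) ≤ Y := by rw [e]; exact le_sup_right
        exact Subtype.ext (eq_of_le_of_card_ge hY'Y (by rw [hYc, hYc'])).symm)
      obtain ⟨j, hj⟩ := (S.pgroup.to_le (hle.trans (hER.trans S.classTwo_le))).exists_card_eq
      obtain ⟨l, -, hl⟩ := (Nat.dvd_prime_pow hq.out).mp (⟨_, by rw [← hj, hd]; ring⟩ : d ∣ q ^ j)
      have hl0 : l ≠ 0 := fun h => hd1 (by rw [hl, h, pow_zero])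
      have hqd : q ≤ d := hl ▸ Nat.le_self_pow hl0 q
      refine (eq_of_le_of_card_ge hle (hEcard.trans ?_)).ge
      rw [hd, hYc, mul_comm]
      exact Nat.mul_le_mul_left _ hqd
  -- elements of order `q` centralising a maximal stabiliser
  set XC := X ⊔ C with hXCdef
  have hno : ∀ t ∈ C', t ^ q = 1 → t ∈ XC := by
    intro t ht htq
    have htW : t ∈ normalizer (W : Set G) := normalizer_le_fixIn (hLP (hRL ht.1)) (hC'N ht)
    have hzW : z ∈ normalizer (W : Set G) :=
      normalizer_le_fixIn (hLP (hRL hzR)) (hzNX (mem_zpowers z))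
    obtain ⟨j, w, hw, hw1, hwfix⟩ := cfg.exists_fix_mul S.coprime (ht.1.2.1 z S.z_mem) htq S.z_pow
      (fixIn_le P X) htW hzW (fun w hw h => S.z_free w hw.1 h) hy₀W hy₀1
    have h1 : t * z ^ j ∈ X := hstab w hw hw1 ▸
      ⟨R.mul_mem ht.1 (R.pow_mem hzR j), mem_centralizer_singleton_iff.mpr hwfix⟩
    simpa using XC.mul_mem (mem_sup_left h1)
      (mem_sup_right (C.inv_mem (C.pow_mem S.z_mem j)))
  have hXCle : XC ≤ C' := sup_le hXC' hCC'
  have hXCset : (XC : Set G) = (X : Set G) * (C : Set G) :=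
    Subgroup.coe_mul_of_left_le_normalizer_right _ _ fun x hx => S.normC (hRL hx.1)
  have hXCcard : Nat.card XC = k * Nat.card C := (hXE.card_sup S).2
  obtain ⟨hC'le, hC'le'⟩ := S.card_le_of_no_order_q (le_sup_right : C ≤ XC) hXCle inf_le_left hno
  -- orbit lengths
  set T := L ⊓ normalizer (X : Set G) with hTdef
  have hC'T : C' ≤ derSubgroup G Ω ⊓ T :=
    le_inf (inf_le_left.trans (hRD.trans inf_le_left)) (le_inf (inf_le_left.trans hRL) hC'N)
  have hdvd := cfg.index_mul_dvd (S := T) (inf_le_left.trans S.L_le) hC'T (fixIn_le P X)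
    (fun g hg => normalizer_le_fixIn (hLP hg.1) hg.2)
    (X := X) (fun w hw hw1 => le_antisymm (fun g hg => hstab w hw hw1 ▸ ⟨hg.1.1, hg.2⟩)
      (le_inf hXC' (mem_centralizer_fixIn hw)))
  rw [← hk, ← hWdef] at hdvd
  have hle := Nat.le_of_dvd (by omega) hdvd
  have hmain := index_mul_conjSet_le (Ω := Ω) (X := X) S.covers hRD
  rw [hrk, ← hTdef] at hmain
  obtain ⟨cq, hcq⟩ : k ∣ Nat.card C' := Subgroup.card_dvd_of_le hXC'
  have hkpos : 0 < k := Nat.card_pos
  rw [hcq, Nat.mul_div_cancel_left _ hkpos] at hle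
  have hcqpos : 0 < cq := Nat.pos_of_ne_zero fun h => by
    rw [h, mul_zero] at hcq; exact Nat.card_pos.ne' hcq
  -- a small quotient forces equality
  have habel : Nat.card C' ≤ q * Nat.card XC → Nat.card C' = Nat.card XC := by
    intro hle'
    rcases le_or_gt (Nat.card C') (Nat.card XC) with h | h
    · exact le_antisymm h (Subgroup.card_le_of_le hXCle)
    obtain ⟨t, ht, htXC⟩ : ∃ t ∈ C', t ∉ XC := by
      by_contra hall
      push Not at hall
      exact absurd (Subgroup.card_le_of_le (show C' ≤ XC from hall)) (not_le.mpr h)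
    have hB : zpowers t ⊔ XC = C' := by
      have hBC' : zpowers t ⊔ XC ≤ C' := sup_le (zpowers_le.mpr ht) hXCle
      refine eq_of_le_of_card_ge hBC' (hle'.trans ?_)
      obtain ⟨d, hd⟩ := Subgroup.card_dvd_of_le (le_sup_right : XC ≤ zpowers t ⊔ XC)
      obtain ⟨j, hj⟩ := (S.pgroup.to_le
        (hBC'.trans (inf_le_left.trans S.classTwo_le))).exists_card_eq
      obtain ⟨l, -, hl⟩ := (Nat.dvd_prime_pow hq.out).mp (⟨_, by rw [← hj, hd]; ring⟩ : d ∣ q ^ j)
      have hl0 : l ≠ 0 := fun h0 => htXC (by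
        rw [hl, h0, pow_zero, mul_one] at hd
        rw [eq_of_le_of_card_ge (le_sup_right : XC ≤ zpowers t ⊔ XC) hd.le]
        exact mem_sup_left (mem_zpowers t))
      rw [hd, hl, mul_comm]
      exact Nat.mul_le_mul_left _ (Nat.le_self_pow hl0 q)
    have hXCcent : ∀ w ∈ XC, ∀ g ∈ C', w * g = g * w := by
      intro w hw g hg
      obtain ⟨x, hx, c, hc, rfl⟩ : w ∈ (X : Set G) * (C : Set G) := hXCset ▸ hw
      exact (Commute.mul_left (show Commute x g from mem_centralizer_iff.mp hg.2 x hx)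
        (show Commute c g from (hg.1.2.1 c hc).symm)).eq
    have hle2 : C' ≤ centralizer (C' : Set G) := by
      have hXC2 : XC ≤ centralizer (C' : Set G) := fun w hw =>
        mem_centralizer_iff.mpr fun g hg => (hXCcent w hw g hg).symm
      conv_lhs => rw [← hB]
      refine sup_le (zpowers_le.mpr (mem_centralizer_iff.mpr fun g hg => ?_)) hXC2
      have h2 : C' ≤ centralizer ({t} : Set G) := by
        rw [← hB]
        exact sup_le (zpowers_le.mpr (mem_centralizer_singleton_iff.mpr rfl))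
          fun w hw => mem_centralizer_singleton_iff.mpr (hXCcent w hw t ht)
      exact mem_centralizer_singleton_iff.mp (h2 hg)
    have e : R ⊓ centralizer (C' : Set G) = C' :=
      le_antisymm (inf_le_inf_left R (centralizer_le (SetLike.coe_subset_coe.mpr hXC')))
        (le_inf inf_le_left hle2)
    have h5 := S.card_mul_centralizer hCC' inf_le_left
    rw [e, ← hRdef, hRC'] at h5
    rw [hXCcard]
    refine (Nat.eq_of_mul_eq_mul_right (Nat.card_pos (α := C')) ?_).symm
    rw [← h5]; ring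
  -- conjugates
  obtain ⟨e, he⟩ := (S.pgroup.to_le (inf_le_left.trans S.classTwo_le) : IsPGroup q X).exists_card_eq
  rw [← hk] at he
  have he1 : 1 ≤ e := Nat.pos_of_ne_zero fun h => hXne (X.eq_bot_of_card_eq (by rw [← hk, he, h, pow_zero]))
  have hconj : ∀ u, (∀ A i, S.Elem A → Nat.card A = q ^ i → i < e →
      (S.adm A).ncard ≤ q * (q ^ (u + (e - 1 - i)) + 1) * (q ^ e - q ^ i)) →
      (conjSet L X).ncard ≤ q ^ e * classTwoProd q u e := by
    intro u hu
    rw [← prod_count]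
    refine card_family_le (fun A => S.adm A) (fun A => S.Elem A) _ ⟨bot_le, ?_, ?_, ?_⟩
      (fun A i hA hc x hx => hA.step S hc hx) hu ?_
    · intro x hx y hy; rw [mem_bot] at hx hy; rw [hx, hy]
    · intro x hx; rw [mem_bot] at hx; rw [hx, one_pow]
    · intro x hx _; rwa [mem_bot] at hx
    rintro Y ⟨g, hg, rfl⟩
    refine ⟨by rw [← he, hk]; exact (Nat.card_congr
      (X.equivMapOfInjective _ (MulAut.conj g).injective).toEquiv).symm, ?_⟩
    rintro A hAY hA w ⟨⟨x, hx, rfl⟩, hwA⟩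
    refine ⟨⟨⟨S.classTwo_conj hg hx.1, mem_centralizer_iff.mpr fun v hv => ?_⟩, ?_⟩, ?_⟩
    · obtain ⟨x', hx', rfl⟩ := hAY hv
      show MulAut.conj g x' * MulAut.conj g x = MulAut.conj g x * MulAut.conj g x'
      rw [← map_mul, ← map_mul, hXc x' hx' x hx]
    · show (MulAut.conj g x) ^ q = 1
      rw [← map_pow, hXp x hx, map_one]
    · intro hmem
      obtain ⟨v, hv, c, hc, hvc⟩ : MulAut.conj g x ∈ (A : Set G) * (C : Set G) :=
        (hA.card_sup S).1 ▸ hmem
      obtain ⟨x', hx', rfl⟩ := hAY hv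
      refine hwA ?_
      have h1 : c = MulAut.conj g (x'⁻¹ * x) := by
        rw [map_mul, map_inv]
        exact eq_inv_mul_iff_mul_eq.mpr hvc
      have h2 : x'⁻¹ * x = 1 := hXC _ (X.mul_mem (X.inv_mem hx') hx) (by
        rw [h1, MulAut.conj_apply] at hc
        exact (Subgroup.mem_normalizer_iff.mp (S.normC hg) _).mpr hc)
      rw [inv_mul_eq_one.mp h2] at hv
      exact hv
  have hm : ∀ c s, c ≤ cq → (conjSet L X).ncard ≤ q ^ e * s →
      (derSubgroup G Ω).index * c ≤ s * (Nat.card W - 1) ∧ c + 1 ≤ Nat.card W := by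
    intro c s hc hs
    set T0 := (derSubgroup G Ω).relIndex T
    have hT0 : 0 < T0 := Nat.pos_of_ne_zero FiniteIndex.index_ne_zero
    have hTc : T0 * c ≤ Nat.card W - 1 := (Nat.mul_le_mul_left _ hc).trans hle
    refine ⟨Nat.le_of_mul_le_mul_left ?_ hkpos, ?_⟩
    · calc k * ((derSubgroup G Ω).index * c) = (derSubgroup G Ω).index * k * c := by ring
        _ ≤ (conjSet L X).ncard * T0 * c := Nat.mul_le_mul_right _ hmain
        _ ≤ q ^ e * s * T0 * c := Nat.mul_le_mul_right _ (Nat.mul_le_mul_right _ hs)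
        _ = k * (s * (T0 * c)) := by rw [he]; ring
        _ ≤ k * (s * (Nat.card W - 1)) := Nat.mul_le_mul_left _ (Nat.mul_le_mul_left _ hTc)
    · have : c ≤ T0 * c := Nat.le_mul_of_pos_left c hT0
      omega
  rw [he] at hprod
  have hpow : ∀ i, i < e → ∃ T j, e = i + (j + 1) ∧ q ^ (j + 1) = T + 1 ∧ e - 1 - i = j := by
    intro i hi
    exact ⟨q ^ (e - i) - 1, e - 1 - i, by omega, by
      rw [show e - 1 - i + 1 = e - i by omega, Nat.sub_add_cancel (Nat.one_le_pow _ _ hq.out.pos)], rfl⟩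
  by_cases hbig : q ≠ 2 ∨ 2 < Nat.card C
  · have hC'card : Nat.card C' = k * Nat.card C := (habel (hC'le' hbig)).trans hXCcard
    have hcqC : cq = Nat.card C := Nat.eq_of_mul_eq_mul_left hkpos (hcq.symm.trans hC'card)
    have hs := hconj 1 fun A i hA hAc hi => by
      obtain ⟨T', j, hj, hT', hji⟩ := hpow i hi
      have h1 := hA.card_centralizer S
      rw [← hRdef, hRC', hC'card, hAc, he, hj] at h1
      have h2 := S.card_pow_eq_one_le (H := R ⊓ centralizer (A : Set G))
        (le_inf S.C_le_classTwo fun c hc => mem_centralizer_iff.mpr fun y hy => (hA.le hy).2.1 c hc)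
        inf_le_left
      have h3 := hA.card_adm_add S
      rw [← hRdef, hAc] at h3
      have hH : Nat.card ↥(R ⊓ centralizer (A : Set G)) =
          q ^ i * (T' + 1) * (T' + 1) * Nat.card C := by
        refine Nat.eq_of_mul_eq_mul_left (pow_pos hq.out.pos i) (h1.trans ?_)
        rw [pow_add, hT']; ring
      have h4 : {x | x ∈ R ⊓ centralizer (A : Set G) ∧ x ^ q = 1}.ncard ≤
          q * (q ^ i * (T' + 1) * (T' + 1)) :=
        Nat.le_of_mul_le_mul_right (h2.trans (le_of_eq (by rw [hH]; ring))) (Nat.card_pos (α := C))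
      have h5 : q * (q ^ i * (T' + 1) * (T' + 1)) =
          q * (T' + 2) * (q ^ i * T') + q ^ i * q := by ring
      rw [hji, hj, show 1 + j = j + 1 from add_comm 1 j, hT', pow_add, hT',
        show q ^ i * (T' + 1) - q ^ i = q ^ i * T' by rw [mul_add, mul_one, Nat.add_sub_cancel],
        show T' + 1 + 1 = T' + 2 from rfl]
      omega
    have hqC : q ≤ Nat.card C := by
      rw [← S.z_ord, ← Nat.card_zpowers]
      exact Subgroup.card_le_of_le (zpowers_le.mpr S.z_mem)
    by_cases hq2 : q = 2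
    · subst hq2
      have hC4 : 4 ≤ cq := by
        rcases hbig with h | h
        · exact absurd rfl h
        obtain ⟨f, hf⟩ := (S.pgroup.to_le S.C_le).exists_card_eq
        rcases f with _ | _ | f
        · rw [pow_zero] at hf; omega
        · rw [pow_one] at hf; omega
        · rw [hcqC, hf, pow_succ, pow_succ]
          have := Nat.one_le_two_pow (n := f)
          omega
      obtain ⟨h1, h2⟩ := hm (2 ^ (1 + 1)) _ (by norm_num; omega) hs
      exact hnb ((succ_sq_le_of_two he1 h2 h1).trans hprod)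
    · have hq3 : 3 ≤ q := by have := hq.out.two_le; omega
      obtain ⟨h1, h2⟩ := hm q _ (hcqC ▸ hqC) hs
      exact hnb ((succ_sq_le_of_odd hq3 he1 h2 h1).trans hprod)
  push Not at hbig
  obtain ⟨rfl, hC2⟩ := hbig
  have hC : Nat.card C = 2 := by
    refine le_antisymm hC2 ?_
    rw [← S.z_ord, ← Nat.card_zpowers]
    exact Subgroup.card_le_of_le (zpowers_le.mpr S.z_mem)
  rw [hC] at hXCcard
  have hOmC' : {x | x ∈ C' ∧ x ^ 2 = 1}.ncard = 2 * k := by
    rw [mul_comm, ← hXCcard, ← SetLike.coe_sort_coe, Nat.card_coe_set_eq]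
    congr 1
    refine Set.ext fun x => ⟨fun h => hno x h.1 h.2, fun h => ⟨hXCle h, ?_⟩⟩
    obtain ⟨u, hu, c, hc, rfl⟩ : x ∈ (X : Set G) * (C : Set G) := hXCset ▸ h
    rw [(show Commute u c from hu.1.2.1 c hc).mul_pow, hXp u hu, one_mul, ← hC]
    exact orderOf_dvd_iff_pow_eq_one.mp (Subgroup.orderOf_dvd_natCard _ hc)
  have hbR := S.involutions_balanced hC hXE
  rw [← hRdef, ← hC'def, hOmC'] at hbR
  -- the centraliser has two possible orders
  have hcases : Nat.card C' = 2 * k ∨ Nat.card C' = 8 * k := by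
    obtain ⟨d, hd⟩ := Subgroup.card_dvd_of_le hXCle
    obtain ⟨j, hj⟩ := (S.pgroup.to_le (inf_le_left.trans S.classTwo_le) : IsPGroup 2 C').exists_card_eq
    obtain ⟨l, -, rfl⟩ := (Nat.dvd_prime_pow Nat.prime_two).mp (⟨_, by rw [← hj, hd]; ring⟩ : d ∣ 2 ^ j)
    rw [hXCcard] at hd hC'le habel
    have hl : l ≤ 2 := by
      refine (Nat.pow_le_pow_iff_right (show 1 < 2 by norm_num)).mp (Nat.le_of_mul_le_mul_left ?_
        (show 0 < k * 2 by omega))
      rw [← hd, mul_comm (k * 2)]; exact hC'le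
    interval_cases l
    · left; rw [hd]; ring
    · left
      rw [habel (le_of_eq (by rw [hd]; ring))]; ring
    · right; rw [hd]; ring
  have hHc : ∀ A i, S.Elem A → Nat.card A = 2 ^ i →
      2 ^ i * Nat.card ↥(R ⊓ centralizer (A : Set G)) = k * Nat.card C' ∧
      2 * {x | x ∈ R ⊓ centralizer (A : Set G) ∧ x ^ 2 = 1}.ncard + Nat.card C' =
        4 * k + Nat.card ↥(R ⊓ centralizer (A : Set G)) ∧
      (S.adm A).ncard + 2 ^ i * 2 ≤ {x | x ∈ R ⊓ centralizer (A : Set G) ∧ x ^ 2 = 1}.ncard := by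
    intro A i hA hAc
    have h1 := hA.card_centralizer S
    have h2 := S.involutions_balanced hC hA
    have h3 := hA.card_adm_add S
    rw [← hRdef] at h1 h2 h3
    rw [hAc] at h1 h3
    exact ⟨h1.trans hRC', by omega, h3⟩
  rcases hcases with hd | hd
  · have hs := hconj 0 fun A i hA hAc hi => by
      obtain ⟨T', j, hj, hT', hji⟩ := hpow i hi
      obtain ⟨h1, h2, h3⟩ := hHc A i hA hAc
      rw [hd, he, hj, pow_add, hT'] at h1 h2
      have hH : Nat.card ↥(R ⊓ centralizer (A : Set G)) = 2 * (2 ^ i * (T' + 1) * (T' + 1)) :=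
        Nat.eq_of_mul_eq_mul_left (Nat.two_pow_pos i) (h1.trans (by ring))
      rw [hH] at h2
      rw [hji, hj, pow_add 2 i, hT', zero_add, mul_add 2, mul_one, ← pow_succ' 2 j, hT',
        show 2 ^ i * (T' + 1) - 2 ^ i = 2 ^ i * T' by rw [mul_add, mul_one, Nat.add_sub_cancel]]
      have h5 : (T' + 1 + 2) * (2 ^ i * T') + 2 ^ i * 2 =
          2 ^ i * (T' + 1) * (T' + 1) + 2 ^ i * (T' + 1) := by ring
      omega
    have hcq2 : cq = 2 := Nat.eq_of_mul_eq_mul_left hkpos (hcq.symm.trans (hd.trans (mul_comm 2 k)))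
    obtain ⟨h1, h2⟩ := hm (2 ^ (0 + 1)) _ (by norm_num; omega) hs
    exact hnb ((succ_sq_le_of_two he1 h2 h1).trans hprod)
  · have hs := hconj 2 fun A i hA hAc hi => by
      obtain ⟨T', j, hj, hT', hji⟩ := hpow i hi
      obtain ⟨h1, h2, h3⟩ := hHc A i hA hAc
      rw [hd, he, hj, pow_add, hT'] at h1 h2
      have hH : Nat.card ↥(R ⊓ centralizer (A : Set G)) = 8 * (2 ^ i * (T' + 1) * (T' + 1)) :=
        Nat.eq_of_mul_eq_mul_left (Nat.two_pow_pos i) (h1.trans (by ring))
      rw [hH] at h2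
      rw [hji, hj, pow_add 2 i, hT', show 2 + j = 1 + (j + 1) by omega, pow_add 2 1, hT', pow_one,
        show 2 ^ i * (T' + 1) - 2 ^ i = 2 ^ i * T' by rw [mul_add, mul_one, Nat.add_sub_cancel]]
      have h5 : 2 * (2 * (T' + 1) + 1) * (2 ^ i * T') + 2 ^ i * 2 + 2 * (2 ^ i * (T' + 1)) =
          4 * (2 ^ i * (T' + 1) * (T' + 1)) := by ring
      omega
    have hcq8 : cq = 8 := Nat.eq_of_mul_eq_mul_left hkpos (hcq.symm.trans (hd.trans (mul_comm 8 k)))
    obtain ⟨h1, h2⟩ := hm (2 ^ (2 + 1)) _ (by norm_num; omega) hs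
    exact hnb ((succ_sq_le_of_two he1 h2 h1).trans hprod)

end CfsgLib.Derangements
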