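import Mathlib
import Cfsg.Agent.Lib.Derangements.AffineSetup
import Cfsg.Agent.Lib.PGroups.UniqueOrderP

/-!
# The index bound when the invariant abelian subgroup is self-centralising
-/

set_option autoImplicit false
set_option linter.unusedSectionVars false
set_option linter.style.haveILetI false

namespace CfsgLib.Derangements

open MulAction Subgroup

variable {G : Type*} [Group G] {Ω : Type*} [MulAction G Ω]
variable [Finite G] [IsPretransitive G Ω] [Finite Ω] [Nontrivial Ω] {p : ℕ} {P : Subgroup G} {a : Ω}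
variable {q : ℕ} [hq : Fact q.Prime] {L Q C : Subgroup G} {z : G}

omit [MulAction G Ω] [IsPretransitive G Ω] [Finite Ω] [Nontrivial Ω] hq in
theorem mul_pow_eq_prod {M : Type*} [CommMonoid M] (ι : M →* G) (c u : G) (f : ℕ → M)
    (hf : ∀ i, ι (f i) = u ^ i * c * (u ^ i)⁻¹) :
    ∀ n, (c * u) ^ n = ι (∏ i ∈ Finset.range n, f i) * u ^ n := by
  intro n
  induction n with
  | zero => simp
  | succ n ih =>
    rw [pow_succ (c * u) n, ih, Finset.prod_range_succ, map_mul, hf, pow_succ u n]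
    simp [mul_assoc]

/-- The bound when `C` is its own centraliser in `Q`. -/
theorem SylowConfig.bound_of_selfCentralizing (S : SylowConfig Ω P a q L Q C z)
    (cfg : RegularConfig Ω p P a) (hm : 2 ≤ (derSubgroup G Ω).index)
    (hnb : ¬ ((derSubgroup G Ω).index + 1) ^ 2 ≤ Nat.card Ω)
    (hself : ∀ g ∈ Q, (∀ c ∈ C, g * c = c * g) → g ∈ C) : False := by
  classical
  obtain ⟨u, huQ, y, hyP, huq, hu1, hy1, huy⟩ := S.exists_fix
  have huC : u ∉ C := fun h => hu1 (S.eq_one_of_fix h hyP hy1 huy)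
  have hLP : L ≤ normalizer (P : Set G) := S.L_le.trans inf_le_right
  have huN : u ∈ normalizer (C : Set G) := S.normC (S.Q_le_L huQ)
  set X := zpowers u with hXdef
  set W := fixIn P X with hWdef
  have hyW : y ∈ W := mem_fixIn.mpr ⟨hyP, fun x hx =>
    mem_centralizer_singleton_iff.mp (zpowers_le.mpr (mem_centralizer_singleton_iff.mpr huy) hx)⟩
  have hXC : ∀ x ∈ X, x ∈ C → x = 1 := fun x hx hxC =>
    S.eq_one_of_fix hxC hyP hy1 ((mem_fixIn.mp hyW).2 x hx)
  -- orbit lengths on the fixed points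
  set T := L ⊓ normalizer (X : Set G) with hTdef
  have hzT : zpowers z ≤ derSubgroup G Ω ⊓ T := by
    rw [zpowers_le]
    refine ⟨(S.Q_le (S.C_le S.z_mem)).1, S.Q_le_L (S.C_le S.z_mem), ?_⟩
    show z ∈ normalizer (X : Set G)
    rw [← map_conj_eq_iff, hXdef, MonoidHom.map_zpowers]
    congr 1
    show z * u * z⁻¹ = u
    rw [← S.z_cent u huQ, mul_inv_cancel_right]
  have hstab : ∀ w ∈ W, w ≠ 1 → zpowers z ⊓ centralizer ({w} : Set G) = ⊥ := by
    intro w hw hw1
    refine (Subgroup.eq_bot_iff_forall _).mpr fun x hx => ?_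
    exact S.eq_one_of_fix ((zpowers_le.mpr S.z_mem) hx.1) hw.1 hw1
      (mem_centralizer_singleton_iff.mp hx.2)
  have hdvd := cfg.index_mul_dvd (S := T) (inf_le_left.trans S.L_le) hzT (fixIn_le P X)
    (fun g hg => normalizer_le_fixIn (hLP hg.1) hg.2) hstab
  rw [Nat.card_zpowers, S.z_ord, Subgroup.card_bot, Nat.div_one, ← hWdef] at hdvd
  have hW1 : 1 < Nat.card W := (Subgroup.one_lt_card_iff_ne_bot W).mpr fun h => by
    rw [h, mem_bot] at hyW; exact hy1 hyW
  have hle := Nat.le_of_dvd (by omega) hdvd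
  -- conjugates under `C`
  set F := C ⊓ centralizer ({u} : Set G) with hFdef
  have hCN : C ⊓ normalizer (X : Set G) = F := by
    apply le_antisymm <;> intro c hc <;> refine ⟨hc.1, ?_⟩
    · refine mem_centralizer_singleton_iff.mpr ?_
      have h1 : c * u * c⁻¹ * u⁻¹ = 1 := by
        refine hXC _ (X.mul_mem ((Subgroup.mem_normalizer_iff.mp hc.2 u).mp (mem_zpowers u))
          (X.inv_mem (mem_zpowers u))) ?_
        rw [show c * u * c⁻¹ * u⁻¹ = c * (u * c⁻¹ * u⁻¹) by group]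
        exact C.mul_mem hc.1 ((Subgroup.mem_normalizer_iff.mp huN c⁻¹).mp (C.inv_mem hc.1))
      exact mul_inv_eq_iff_eq_mul.mp (mul_inv_eq_one.mp h1)
    · show c ∈ normalizer (X : Set G)
      rw [← map_conj_eq_iff, hXdef, MonoidHom.map_zpowers]
      congr 1
      show c * u * c⁻¹ = u
      rw [mem_centralizer_singleton_iff.mp hc.2, mul_inv_cancel_right]
  have hr := card_conjSet C X
  rw [hCN] at hr
  set r := (conjSet C X).ncard with hrdef
  -- two conjugates with trivially meeting fixed points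
  obtain ⟨c, hc, hcu⟩ : ∃ c ∈ C, c * u ≠ u * c := by
    by_contra h
    push Not at h
    exact huC (hself u huQ fun c hc => (h c hc).symm)
  have hw2 : Nat.card W ^ 2 ≤ Nat.card Ω := by
    set X' := X.map (MulAut.conj c).toMonoidHom
    have hcP : c ∈ normalizer (P : Set G) := hLP (S.Q_le_L (S.C_le hc))
    rw [sq, ← cfg.card_eq]
    conv_lhs => arg 2; rw [hWdef, ← card_fixIn_map (X := X) hcP]
    rw [← Nat.card_prod]
    refine Nat.card_le_card_of_injective
      (fun v : W × fixIn P X' => (⟨(v.1 : G) * v.2, P.mul_mem v.1.2.1 v.2.2.1⟩ : P)) ?_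
    rintro ⟨v, v'⟩ ⟨w, w'⟩ h
    have h' : (v : G) * v' = (w : G) * w' := congrArg Subtype.val h
    have h1 : (w : G)⁻¹ * v = (w' : G) * (v' : G)⁻¹ := by
      rw [eq_mul_inv_iff_mul_eq, mul_assoc, h']
      simp
    have h2 : (w : G)⁻¹ * v ∈ W := W.mul_mem (W.inv_mem w.2) v.2
    have h3 : (w : G)⁻¹ * v ∈ fixIn P X' := h1 ▸ (fixIn P X').mul_mem w'.2 ((fixIn P X').inv_mem v'.2)
    have h4 : (w : G)⁻¹ * v = 1 := by
      set e := (w : G)⁻¹ * v
      by_contra he
      have e1 := (mem_fixIn.mp h2).2 u (mem_zpowers u)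
      have e2 := (mem_fixIn.mp h3).2 (c * u * c⁻¹) ⟨u, mem_zpowers u, rfl⟩
      have e3 : c * u * c⁻¹ * u⁻¹ ∈ centralizer ({e} : Set G) :=
        mul_mem (mem_centralizer_singleton_iff.mpr e2)
          (inv_mem (mem_centralizer_singleton_iff.mpr e1))
      have e4 : c * u * c⁻¹ * u⁻¹ ∈ C := by
        rw [show c * u * c⁻¹ * u⁻¹ = c * (u * c⁻¹ * u⁻¹) by group]
        exact C.mul_mem hc ((Subgroup.mem_normalizer_iff.mp huN c⁻¹).mp (C.inv_mem hc))
      have e5 := S.eq_one_of_fix e4 h2.1 he (mem_centralizer_singleton_iff.mp e3)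
      exact hcu (mul_inv_eq_iff_eq_mul.mp (mul_inv_eq_one.mp e5))
    have hvw : v = w := Subtype.ext (inv_mul_eq_one.mp h4).symm
    subst hvw
    exact Prod.ext rfl (Subtype.ext (mul_left_cancel h'))
  -- conjugates under `L`
  haveI hCcyc : IsCyclic C := by
    haveI : IsMulCommutative C := ⟨⟨fun x y => Subtype.ext (S.comm x x.2 y y.2)⟩⟩
    refine CfsgLib.PGroups.isCyclic_of_abelian_of_unique (p := q) (S.pgroup.to_le S.C_le)
      (z := ⟨z, S.z_mem⟩) (fun x hx => ?_) (Subtype.ext S.z_pow)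
    obtain ⟨i, hi⟩ := mem_zpowers_iff.mp (S.omega x x.2 (by rw [← Subgroup.coe_pow, hx]; rfl))
    exact mem_zpowers_iff.mpr ⟨i, Subtype.ext (by rw [Subgroup.coe_zpow]; exact hi)⟩
  obtain ⟨γ, hγ⟩ := hCcyc.exists_generator
  obtain ⟨i, hi⟩ := mem_zpowers_iff.mp
    (hγ ⟨u * γ * u⁻¹, (Subgroup.mem_normalizer_iff.mp huN γ).mp γ.2⟩)
  have hact : ∀ d ∈ C, u * d * u⁻¹ = d ^ i := by
    intro d hd
    obtain ⟨j, hj⟩ := mem_zpowers_iff.mp (hγ ⟨d, hd⟩)
    have hj' : (γ : G) ^ j = d := by rw [← Subgroup.coe_zpow, hj]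
    have hi' : (γ : G) ^ i = u * γ * u⁻¹ := by rw [← Subgroup.coe_zpow, hi]
    rw [← hj', ← conj_zpow, ← hi', ← zpow_mul, ← zpow_mul, mul_comm]
  set T0 := {t | t ∈ Q ∧ t ^ q = 1 ∧ t * u⁻¹ ∈ C}
  have hs : (conjSet L X).ncard ≤ T0.ncard := by
    refine le_trans (Set.ncard_le_ncard ?_ (Set.toFinite _))
      (Set.ncard_image_le (f := fun t : G => zpowers t) (Set.toFinite T0))
    rintro Y ⟨g, hg, rfl⟩
    refine ⟨g * u * g⁻¹, ⟨(Subgroup.mem_normalizer_iff.mp (S.normQ hg) u).mp huQ, ?_, ?_⟩, ?_⟩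
    · rw [conj_pow, huq, mul_one, mul_inv_cancel]
    · refine hself _ (Q.mul_mem ((Subgroup.mem_normalizer_iff.mp (S.normQ hg) u).mp huQ) (Q.inv_mem huQ))
        fun d hd => ?_
      have hd' : g⁻¹ * d * g ∈ C :=
        (Subgroup.mem_normalizer_iff'.mp (S.normC hg) (g⁻¹ * d)).mpr (by simpa [mul_assoc] using hd)
      set e := u⁻¹ * d * u with he
      have heC : e ∈ C :=
        (Subgroup.mem_normalizer_iff'.mp huN (u⁻¹ * d)).mpr (by simpa [mul_assoc] using hd)
      have h1 : e ^ i = d := by rw [← hact e heC, he]; group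
      have h2 : g * u * g⁻¹ * e * (g * u * g⁻¹)⁻¹ = e ^ i := by
        have heg : g⁻¹ * e * g ∈ C :=
          (Subgroup.mem_normalizer_iff'.mp (S.normC hg) (g⁻¹ * e)).mpr (by simpa [mul_assoc] using heC)
        calc g * u * g⁻¹ * e * (g * u * g⁻¹)⁻¹ = g * (u * (g⁻¹ * e * g) * u⁻¹) * g⁻¹ := by group
          _ = g * (g⁻¹ * e * g) ^ i * g⁻¹ := by rw [hact _ heg]
          _ = e ^ i := by rw [← conj_zpow]; congr 1; group
      rw [h1, he] at h2
      calc g * u * g⁻¹ * u⁻¹ * d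
          = (g * u * g⁻¹ * (u⁻¹ * d * u) * (g * u * g⁻¹)⁻¹) * (g * u * g⁻¹ * u⁻¹) := by group
        _ = d * (g * u * g⁻¹ * u⁻¹) := by rw [h2]
    · show zpowers (g * u * g⁻¹) = _
      rw [hXdef, MonoidHom.map_zpowers]
      rfl
  letI : CommGroup C := { mul_comm := fun x y => Subtype.ext (S.comm x x.2 y y.2) }
  have huiN : ∀ i : ℕ, u ^ i ∈ normalizer (C : Set G) := fun i => Subgroup.pow_mem _ huN i
  let f : C → ℕ → C := fun d i =>
    ⟨u ^ i * d * (u ^ i)⁻¹, (Subgroup.mem_normalizer_iff.mp (huiN i) d).mp d.2⟩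
  let φ : C →* C := MonoidHom.mk' (fun d => ∏ i ∈ Finset.range q, f d i) fun d e => by
    rw [← Finset.prod_mul_distrib]
    exact Finset.prod_congr rfl fun i _ => Subtype.ext (by simp [f, mul_assoc])
  have hφ : ∀ d : C, ((d : G) * u) ^ q = (φ d : G) := fun d => by
    rw [mul_pow_eq_prod C.subtype (d : G) u (f d) (fun _ => rfl) q, huq, mul_one]
    rfl
  have hT0 : T0.ncard ≤ Nat.card φ.ker := by
    rw [← Nat.card_coe_set_eq]
    refine Nat.card_le_card_of_injective (fun t : T0 => (⟨⟨t.1 * u⁻¹, t.2.2.2⟩, ?_⟩ : φ.ker))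
      fun t t' h => Subtype.ext (mul_right_cancel (congrArg (fun x : φ.ker => ((x : C) : G)) h))
    refine MonoidHom.mem_ker.mpr (Subtype.ext ?_)
    rw [← hφ]
    show (t.1 * u⁻¹ * u) ^ q = 1
    rw [inv_mul_cancel_right]
    exact t.2.2.1
  have hker : Nat.card φ.ker ≤ q * r := by
    let ψ : F →* φ.range := MonoidHom.mk'
      (fun d => ⟨φ ⟨d, d.2.1⟩, ⟨_, rfl⟩⟩) fun d e => Subtype.ext (map_mul φ ⟨d, d.2.1⟩ ⟨e, e.2.1⟩)
    have hψ : Nat.card ψ.ker ≤ q := by
      refine le_trans ?_ S.card_omega_le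
      rw [← Nat.card_coe_set_eq]
      refine Nat.card_le_card_of_injective (fun d : ψ.ker => (⟨((d : F) : G), ?_⟩ :
        ({x | x ∈ C ∧ x ^ q = 1} : Set G))) fun d e h => Subtype.ext (Subtype.ext (congrArg (fun x : ({x | x ∈ C ∧ x ^ q = 1} : Set G) => (x : G)) h))
      refine ⟨d.1.2.1, ?_⟩
      have h1 : φ ⟨(d : F), d.1.2.1⟩ = 1 := congrArg Subtype.val (MonoidHom.mem_ker.mp d.2)
      have h2 : Commute ((d : F) : G) u := mem_centralizer_singleton_iff.mp d.1.2.2
      have h3 := hφ ⟨(d : F), d.1.2.1⟩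
      rw [h1, h2.mul_pow, huq, mul_one] at h3
      exact h3
    have h1 : Nat.card F ≤ q * Nat.card φ.range := by
      rw [← ψ.ker.card_mul_index, Subgroup.index_ker]
      exact Nat.mul_le_mul hψ (Subgroup.card_le_card_group _)
    have h2 : Nat.card φ.ker * Nat.card φ.range = Nat.card C := by
      rw [← φ.ker.card_mul_index, Subgroup.index_ker]
    refine Nat.le_of_mul_le_mul_right (a := Nat.card φ.ker) (b := q * r) (c := Nat.card φ.range) ?_ Nat.card_pos
    rw [h2, ← hr, mul_comm q r, mul_assoc]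
    exact Nat.mul_le_mul_left _ h1
  have hmain := index_mul_conjSet_le (Ω := Ω) (X := X) S.covers (R := C)
    (S.C_le.trans S.Q_le)
  rw [← hTdef, ← hrdef] at hmain
  have hrpos : 0 < r := conjSet_ncard_pos C X
  have hmr : (derSubgroup G Ω).index * r ≤ (Nat.card W - 1) * r :=
    calc (derSubgroup G Ω).index * r ≤ (conjSet L X).ncard * (derSubgroup G Ω).relIndex T := hmain
      _ ≤ q * r * (derSubgroup G Ω).relIndex T := Nat.mul_le_mul_right _ ((hs.trans hT0).trans hker)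
      _ = (derSubgroup G Ω).relIndex T * q * r := by ring
      _ ≤ _ := Nat.mul_le_mul_right _ hle
  have hmw := Nat.le_of_mul_le_mul_right hmr hrpos
  exact hnb ((Nat.pow_le_pow_left (by omega) 2).trans hw2)

end CfsgLib.Derangements
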