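import Mathlib
import Cfsg.Agent.Lib.Derangements.AffineCyclic
import Cfsg.Agent.Lib.Derangements.AffineClassTwoBound

/-!
# When the index bound fails the stabiliser acts without fixed points on the regular subgroup
-/

set_option autoImplicit false
set_option linter.unusedSectionVars false
set_option linter.style.haveILetI false

namespace CfsgLib.Derangements

open MulAction Subgroup
open scoped Pointwise

variable {G : Type*} [Group G] [Finite G] {Ω : Type*} [MulAction G Ω] [IsPretransitive G Ω]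
variable [Finite Ω] [Nontrivial Ω] {p : ℕ} {P : Subgroup G} {a : Ω}

theorem le_normalizer_of_conj_mem {H A : Subgroup G} (h : ∀ g ∈ H, ∀ x ∈ A, g * x * g⁻¹ ∈ A) :
    H ≤ normalizer (A : Set G) := fun g hg => by
  rw [Subgroup.mem_normalizer_iff]
  refine fun x => ⟨h g hg x, fun hx => ?_⟩
  simpa [mul_assoc] using h g⁻¹ (H.inv_mem hg) _ hx

theorem RegularConfig.eq_one_of_commute [FaithfulSMul G Ω] (cfg : RegularConfig Ω p P a)
    (hm : 2 ≤ (derSubgroup G Ω).index)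
    (hnb : ¬ ((derSubgroup G Ω).index + 1) ^ 2 ≤ Nat.card Ω)
    {u : G} (hu : u ∈ derSubgroup G Ω ⊓ (stabilizer G a ⊓ normalizer (P : Set G))) (hu1 : u ≠ 1)
    {y : G} (hy : y ∈ P) (huy : u * y = y * u) : y = 1 := by
  classical
  by_contra hy1
  set D := derSubgroup G Ω with hDdef
  set L := stabilizer G a ⊓ normalizer (P : Set G) with hLdef
  obtain ⟨q, hq, hqdvd⟩ := Nat.exists_prime_and_dvd (n := orderOf u)
    (fun h => hu1 (orderOf_eq_one_iff.mp h))
  haveI : Fact q.Prime := ⟨hq⟩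
  set u₀ := u ^ (orderOf u / q) with hu₀def
  have hu₀o : orderOf u₀ = q := orderOf_pow_orderOf_div (orderOf_pos u).ne' hqdvd
  have hu₀ : u₀ ∈ D ⊓ L := (D ⊓ L).pow_mem hu _
  have hu₀y : u₀ * y = y * u₀ := (Commute.pow_left huy _).eq
  have hqp : IsPGroup q (zpowers u₀) :=
    IsPGroup.of_card (n := 1) (by rw [Nat.card_zpowers, hu₀o, pow_one])
  obtain ⟨Q, hQp, huQ, hQle, hQmax, -⟩ := exists_max_pgroup (D ⊓ L) (zpowers u₀) hqp (zpowers_le.mpr hu₀)
  replace huQ : u₀ ∈ Q := huQ (mem_zpowers u₀)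
  set L1 := L ⊓ normalizer (Q : Set G) with hL1def
  have hL1 : Covers Ω L1 := cfg.covers.normalizer_sylow hQp hQle hQmax
  have hQL1 : Q ≤ L1 := le_inf (hQle.trans inf_le_right) Subgroup.le_normalizer
  have hQD : Q ≤ D ⊓ L1 := le_inf (hQle.trans inf_le_left) hQL1
  -- a maximal invariant abelian subgroup
  let 𝒜 : Set (Subgroup G) := {A | A ≤ Q ∧ (∀ x ∈ A, ∀ x' ∈ A, x * x' = x' * x) ∧
    L1 ≤ normalizer (A : Set G)}
  have hbot : (⊥ : Subgroup G) ∈ 𝒜 := by
    refine ⟨bot_le, fun x hx x' hx' => ?_, le_normalizer_of_conj_mem fun g _ x hx => ?_⟩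
    · rw [mem_bot] at hx hx'; rw [hx, hx']
    · rw [mem_bot] at hx ⊢; rw [hx, mul_one, mul_inv_cancel]
  obtain ⟨C, hC, hCmax⟩ := Set.exists_max_image 𝒜 (fun A => Nat.card A) (Set.toFinite _) ⟨⊥, hbot⟩
  obtain ⟨hCQ, hCc, hCN⟩ := hC
  have hmax : ∀ A : Subgroup G, C ≤ A → A ≤ Q → (∀ x ∈ A, ∀ x' ∈ A, x * x' = x' * x) →
      L1 ≤ normalizer (A : Set G) → A = C := fun A hCA hAQ hAc hAN =>
    (eq_of_le_of_card_ge hCA (hCmax A ⟨hAQ, hAc, hAN⟩)).symm
  -- it contains the centre of `Q`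
  set Z := Q ⊓ centralizer (Q : Set G) with hZdef
  have hZN : L1 ≤ normalizer (Z : Set G) := le_normalizer_of_conj_mem fun g hg x hx => by
    refine ⟨(Subgroup.mem_normalizer_iff.mp hg.2 x).mp hx.1, mem_centralizer_iff.mpr fun w hw => ?_⟩
    have h1 : g⁻¹ * w * g ∈ Q :=
      (Subgroup.mem_normalizer_iff'.mp hg.2 (g⁻¹ * w)).mpr (by simpa [mul_assoc] using hw)
    have h2 := mem_centralizer_iff.mp hx.2 _ h1
    calc w * (g * x * g⁻¹) = g * ((g⁻¹ * w * g) * x) * g⁻¹ := by group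
      _ = g * (x * (g⁻¹ * w * g)) * g⁻¹ := by rw [h2]
      _ = g * x * g⁻¹ * w := by group
  have hZC : Z ≤ C := by
    have hset : ((C ⊔ Z : Subgroup G) : Set G) = (C : Set G) * (Z : Set G) :=
      Subgroup.coe_mul_of_left_le_normalizer_right _ _ fun c hc => hZN (hQL1 (hCQ hc))
    have h := hmax (C ⊔ Z) le_sup_left (sup_le hCQ inf_le_left) ?_ ?_
    · exact le_sup_right.trans h.le
    · intro x hx x' hx'
      obtain ⟨c, hc, w, hw, rfl⟩ : x ∈ (C : Set G) * (Z : Set G) := hset ▸ hx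
      obtain ⟨c', hc', w', hw', rfl⟩ : x' ∈ (C : Set G) * (Z : Set G) := hset ▸ hx'
      have k1 : ∀ {b v : G}, b ∈ Q → v ∈ Z → Commute b v := fun hb hv =>
        mem_centralizer_iff.mp hv.2 _ hb
      exact ((show Commute c c' from hCc c hc c' hc').mul_right (k1 (hCQ hc) hw')).mul_left
        ((k1 (hCQ hc') hw).symm.mul_right (k1 hw.1 hw'))
    · refine le_normalizer_of_conj_mem fun g hg x hx => ?_
      obtain ⟨c, hc, w, hw, rfl⟩ : x ∈ (C : Set G) * (Z : Set G) := hset ▸ hx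
      rw [show g * (c * w) * g⁻¹ = (g * c * g⁻¹) * (g * w * g⁻¹) by group]
      exact mul_mem (mem_sup_left ((Subgroup.mem_normalizer_iff.mp (hCN hg) c).mp hc))
        (mem_sup_right ((Subgroup.mem_normalizer_iff.mp (hZN hg) w).mp hw))
  have hQne : Q ≠ ⊥ := fun h => by
    rw [h, mem_bot] at huQ
    rw [huQ, orderOf_one] at hu₀o
    exact hq.one_lt.ne hu₀o
  haveI : Nontrivial Q := (Subgroup.nontrivial_iff_ne_bot Q).mpr hQne
  haveI := hQp.center_nontrivial
  obtain ⟨i, hi⟩ := (hQp.to_subgroup (center Q)).exists_card_eq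
  have hi0 : i ≠ 0 := fun h => by
    rw [h, pow_zero] at hi
    exact absurd hi (Finite.one_lt_card (α := center Q)).ne'
  obtain ⟨⟨z', hz'⟩, hz'o⟩ := exists_prime_orderOf_dvd_card' (G := center Q) q (hi ▸ dvd_pow_self q hi0)
  rw [← Subgroup.orderOf_coe, ← Subgroup.orderOf_coe] at hz'o
  set z : G := (z' : G) with hzdef
  have hzQ : ∀ g ∈ Q, g * z = z * g := fun g hg =>
    congrArg Subtype.val (mem_center_iff.mp hz' ⟨g, hg⟩)
  have hzC : z ∈ C := hZC ⟨z'.2, mem_centralizer_iff.mpr hzQ⟩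
  have hzo : orderOf z = q := hz'o
  -- the elements of order dividing `q`
  let A₀ : Subgroup G :=
    { carrier := {x | x ∈ C ∧ x ^ q = 1}
      one_mem' := ⟨C.one_mem, one_pow q⟩
      mul_mem' := fun {x x'} hx hx' => ⟨C.mul_mem hx.1 hx'.1, by
        rw [(show Commute x x' from hCc x hx.1 x' hx'.1).mul_pow, hx.2, hx'.2, one_mul]⟩
      inv_mem' := fun {x} hx => ⟨C.inv_mem hx.1, by rw [inv_pow, hx.2, inv_one]⟩ }
  have hA₀N : L1 ≤ normalizer (A₀ : Set G) := le_normalizer_of_conj_mem fun g hg x hx =>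
    ⟨(Subgroup.mem_normalizer_iff.mp (hCN hg) x).mp hx.1, by rw [conj_pow, hx.2, mul_one, mul_inv_cancel]⟩
  have hA₀card : Nat.card A₀ ≤ q :=
    cfg.elementary_le hm hnb hL1 inf_le_left ((fun x hx => hQD (hCQ hx.1)) : A₀ ≤ D ⊓ L1) hA₀N
      (fun x hx x' hx' => hCc x hx.1 x' hx'.1) (fun x hx => hx.2)
  have hA₀ : zpowers z = A₀ := by
    refine eq_of_le_of_card_ge (zpowers_le.mpr ⟨hzC, ?_⟩) (by rw [Nat.card_zpowers, hzo]; exact hA₀card)
    rw [← hzo]; exact pow_orderOf_eq_one z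
  have hzfree : ∀ v ∈ P, z * v = v * z → v = 1 := by
    intro v hv h
    have h1 : fixIn P (zpowers z) = ⊥ := by
      refine cfg.fixIn_eq_bot hm hnb ((zpowers_le.mpr (hQD (hCQ hzC)).2).trans inf_le_left) ?_ hL1
        (inf_le_left.trans inf_le_right) (hA₀ ▸ hA₀N)
      intro hb
      rw [zpowers_eq_bot] at hb
      rw [hb, orderOf_one] at hzo
      exact hq.one_lt.ne hzo
    have h2 : v ∈ fixIn P (zpowers z) := mem_fixIn.mpr ⟨hv, fun x hx => by
      obtain ⟨j, rfl⟩ := mem_zpowers_iff.mp hx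
      exact ((show Commute z v from h).zpow_left j).eq⟩
    rwa [h1, mem_bot] at h2
  have hcop : (Nat.card P).Coprime q := Nat.Coprime.of_dvd_right
    (hu₀o ▸ Subgroup.orderOf_dvd_natCard _ (show u₀ ∈ D ⊓ stabilizer G a from ⟨hu₀.1, hu₀.2.1⟩))
    (cfg.coprime_card le_rfl)
  have S : SylowConfig Ω P a q L1 Q C z :=
    { covers := hL1, L_le := inf_le_left, pgroup := hQp, Q_le := hQD, normQ := inf_le_right
      C_le := hCQ, normC := hCN, comm := hCc, z_mem := hzC, z_ord := hzo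
      omega := fun x hx hxq => hA₀ ▸ (show x ∈ A₀ from ⟨hx, hxq⟩)
      z_free := hzfree, z_cent := hzQ, coprime := hcop, maximal := hmax
      exists_fix := ⟨u₀, huQ, y, hy, hu₀o ▸ pow_orderOf_eq_one u₀,
        fun h => by rw [h, orderOf_one] at hu₀o; exact hq.one_lt.ne hu₀o, hy1, hu₀y⟩ }
  by_cases hself : ∀ g ∈ Q, (∀ c ∈ C, g * c = c * g) → g ∈ C
  · exact S.bound_of_selfCentralizing cfg hm hnb hself
  push Not at hself
  obtain ⟨g, hgQ, hgc, hgC⟩ := hself
  set T := Q ⊓ centralizer (C : Set G) with hTdef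
  have hCT : C ≤ T := fun c hc => ⟨hCQ hc, mem_centralizer_iff.mpr fun c' hc' => hCc c' hc' c hc⟩
  have hgT : g ∈ T := ⟨hgQ, mem_centralizer_iff.mpr fun c hc => (hgc c hc).symm⟩
  have hTN : Q ≤ normalizer (T : Set G) := le_normalizer_of_conj_mem fun x hx t ht => by
    refine ⟨Q.mul_mem (Q.mul_mem hx ht.1) (Q.inv_mem hx), mem_centralizer_iff.mpr fun c hc => ?_⟩
    have h1 : x⁻¹ * c * x ∈ C :=
      (Subgroup.mem_normalizer_iff'.mp (hCN (hQL1 hx)) (x⁻¹ * c)).mpr (by simpa [mul_assoc] using hc)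
    have h2 := mem_centralizer_iff.mp ht.2 _ h1
    calc c * (x * t * x⁻¹) = x * ((x⁻¹ * c * x) * t) * x⁻¹ := by group
      _ = x * (t * (x⁻¹ * c * x)) * x⁻¹ := by rw [h2]
      _ = x * t * x⁻¹ * c := by group
  obtain ⟨t, -, ht, htC⟩ := S.exists_classTwo (T := T) inf_le_left hCT (fun e => hgC (e ▸ hgT)) hTN
    fun t ht c hc => (mem_centralizer_iff.mp ht.2 c hc).symm
  exact S.bound_of_classTwo cfg hnb ht htC

end CfsgLib.Derangements
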