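import Mathlib
import Cfsg.Agent.Lib.Chars.Linear
import Cfsg.Agent.Lib.Chars.PermChar

/-!
# Restricting irreducible characters to a self-centralising abelian Sylow-like subgroup

If the centraliser of every non-trivial element of the abelian subgroup `P` is `P`, the multiplicities
of the linear characters of `P` in the restrictions satisfy an orthogonality relation in which only
the action of the normaliser complement `N` appears.
-/

set_option autoImplicit false
set_option linter.unusedSectionVars false
set_option linter.style.haveILetI false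

namespace CfsgLib.Derangements

open Cfsg CfsgLib.Chars
open scoped ComplexConjugate

variable {K : Type*} [Group K] [Finite K]

/-- An abelian subgroup that is the centraliser of each of its non-trivial elements, with a
fixed-point-free complement in its normaliser. -/
structure CCSetup (P N : Subgroup K) : Prop where
  comm : ∀ x ∈ P, ∀ y ∈ P, x * y = y * x
  cent : ∀ y ∈ P, y ≠ 1 → ∀ g : K, g * y = y * g → g ∈ P
  le_normalizer : N ≤ Subgroup.normalizer (P : Set K)
  decomp : ∀ g ∈ Subgroup.normalizer (P : Set K), ∃ x ∈ P, ∃ h ∈ N, g = x * h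
  free : ∀ h ∈ N, h ≠ 1 → ∀ y ∈ P, h * y = y * h → y = 1
  gen : ∀ M : Subgroup K, M.Normal → P ≤ M → M = ⊤

variable {P N : Subgroup K}

/-- The multiplicity of a character of `P` in a restriction. -/
noncomputable def resMult [Fintype P] (ψ : IrrCharacter K) (η : IrrCharacter P) : ℕ :=
  (inner_irr_right_nat (isCharacter_restrict P (isCharacter_of_irr ψ.2)) η).choose

theorem resMult_spec [Fintype P] (ψ : IrrCharacter K) (η : IrrCharacter P) :
    classInner (fun y : P => (ψ : K → ℂ) y) (η : P → ℂ) = resMult ψ η :=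
  (inner_irr_right_nat (isCharacter_restrict P (isCharacter_of_irr ψ.2)) η).choose_spec

theorem CCSetup.degree_one (S : CCSetup P N) [Fintype P] [Fintype (IrrCharacter P)]
    (η : IrrCharacter P) : (η : P → ℂ) 1 = 1 := by
  classical
  have hcard : Fintype.card (IrrCharacter P) = Nat.card P := by
    rw [← Nat.card_eq_fintype_card, card_irr_eq_card_classes]
    refine (Nat.card_congr (Equiv.ofBijective ConjClasses.mk ⟨fun x y h => ?_, ConjClasses.mk_surjective⟩)).symm
    obtain ⟨c, hc⟩ := isConj_iff.mp (ConjClasses.mk_eq_mk_iff_isConj.mp h)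
    rw [← hc, show c * x = x * c from Subtype.ext (S.comm c c.2 x x.2), mul_inv_cancel_right]
  choose f hf0 hf using fun θ : IrrCharacter P => irr_degree_nat θ.2
  have hsum : ∑ θ : IrrCharacter P, f θ ^ 2 = Nat.card P := by
    have := sum_degree_sq (G := P)
    simp only [hf] at this
    exact_mod_cast this
  have hone : f η = 1 := by
    by_contra hne
    have h1 : Fintype.card (IrrCharacter P) < ∑ θ : IrrCharacter P, f θ ^ 2 := by
      rw [← Finset.card_univ, Finset.card_eq_sum_ones]
      refine Finset.sum_lt_sum (fun θ _ => Nat.one_le_pow _ _ (hf0 θ)) ⟨η, Finset.mem_univ _, ?_⟩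
      have : 2 ≤ f η := by have := hf0 η; omega
      calc 1 < 2 ^ 2 := by norm_num
        _ ≤ f η ^ 2 := Nat.pow_le_pow_left this 2
    omega
  rw [hf η, hone, Nat.cast_one]

theorem CCSetup.card_irr (S : CCSetup P N) : Nat.card (IrrCharacter P) = Nat.card P := by
  rw [card_irr_eq_card_classes]
  refine (Nat.card_congr (Equiv.ofBijective ConjClasses.mk ⟨fun x y h => ?_, ConjClasses.mk_surjective⟩)).symm
  obtain ⟨c, hc⟩ := isConj_iff.mp (ConjClasses.mk_eq_mk_iff_isConj.mp h)
  rw [← hc, show c * x = x * c from Subtype.ext (S.comm c c.2 x x.2), mul_inv_cancel_right]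

/-- Conjugation by an element of the complement, on `P`. -/
def CCSetup.conjHom (S : CCSetup P N) (h : N) : P →* P where
  toFun y := ⟨(h : K) * y * (h : K)⁻¹,
    (Subgroup.mem_normalizer_iff.mp (S.le_normalizer h.2) y).mp y.2⟩
  map_one' := Subtype.ext (by simp)
  map_mul' x y := Subtype.ext (by simp [mul_assoc])

theorem CCSetup.conjHom_surjective (S : CCSetup P N) (h : N) : Function.Surjective (S.conjHom h) := by
  intro y
  refine ⟨⟨(h : K)⁻¹ * y * (h : K), ?_⟩, Subtype.ext (by simp [CCSetup.conjHom, mul_assoc])⟩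
  exact (Subgroup.mem_normalizer_iff'.mp (S.le_normalizer h.2) ((h : K)⁻¹ * y)).mpr
    (by simp [mul_assoc])

/-- The twist of a character of `P` by an element of the complement. -/
def CCSetup.twist (S : CCSetup P N) (h : N) (η : IrrCharacter P) : IrrCharacter P :=
  ⟨fun y => (η : P → ℂ) (S.conjHom h y),
    isIrrCharacter_comp (S.conjHom h) (S.conjHom_surjective h) η.2⟩

theorem CCSetup.twist_twist (S : CCSetup P N) (h k : N) (η : IrrCharacter P) :
    S.twist h (S.twist k η) = S.twist (k * h) η := by
  refine Subtype.ext (funext fun y => congrArg (η : P → ℂ) (Subtype.ext ?_))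
  simp [CCSetup.conjHom, mul_assoc]

theorem CCSetup.twist_one (S : CCSetup P N) (η : IrrCharacter P) : S.twist 1 η = η := by
  refine Subtype.ext (funext fun y => congrArg (η : P → ℂ) (Subtype.ext ?_))
  simp [CCSetup.conjHom]

theorem CCSetup.twist_principal (S : CCSetup P N) (h : N) : S.twist h (principal P) = principal P :=
  Subtype.ext rfl

theorem CCSetup.resMult_twist (S : CCSetup P N) [Fintype P] (ψ : IrrCharacter K) (h : N)
    (η : IrrCharacter P) : resMult ψ (S.twist h η) = resMult ψ η := by
  have e : classInner (fun y : P => (ψ : K → ℂ) y) (S.twist h η : P → ℂ) =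
      classInner (fun y : P => (ψ : K → ℂ) y) (η : P → ℂ) := by
    rw [inner_def, inner_def]
    congr 1
    refine Fintype.sum_bijective (S.conjHom h) ⟨fun x y hxy => ?_, S.conjHom_surjective h⟩ _ _ fun y => ?_
    · exact Subtype.ext (mul_left_cancel (mul_right_cancel (congrArg Subtype.val hxy)))
    · rw [show (ψ : K → ℂ) ((S.conjHom h y : P) : K) = (ψ : K → ℂ) (y : K) from
        isClassFunction_irr ψ (y : K) (h : K)]
      rfl
  rw [resMult_spec, resMult_spec] at e
  exact_mod_cast e

/-- The complement acts freely on the non-principal characters of `P`. -/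
theorem CCSetup.eq_one_of_twist (S : CCSetup P N) [Fintype P] [Fintype (IrrCharacter P)] {h : N}
    {η : IrrCharacter P} (he : S.twist h η = η) (hη : η ≠ principal P) : h = 1 := by
  classical
  by_contra hne
  have hne' : (h : K) ≠ 1 := fun e => hne (Subtype.ext e)
  obtain ⟨lam, hlam⟩ := exists_hom_of_degree_one (isCharacter_of_irr η.2) (S.degree_one η)
  let f : P → P := fun y => S.conjHom h y * y⁻¹
  have hf : Function.Injective f := by
    intro x y hxy
    have h1 : S.conjHom h (y⁻¹ * x) = y⁻¹ * x := by
      have hc : ∀ u v : P, u * v = v * u := fun u v => Subtype.ext (S.comm u u.2 v v.2)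
      have h2 : S.conjHom h x * x⁻¹ = S.conjHom h y * y⁻¹ := hxy
      rw [map_mul, map_inv]
      calc (S.conjHom h y)⁻¹ * S.conjHom h x
          = (S.conjHom h y)⁻¹ * (S.conjHom h x * x⁻¹) * x := by group
        _ = (S.conjHom h y)⁻¹ * (S.conjHom h y * y⁻¹) * x := by rw [h2]
        _ = y⁻¹ * x := by group
    have h2 := congrArg Subtype.val h1
    have h3 := S.free h h.2 hne' ((y⁻¹ * x : P) : K) (y⁻¹ * x).2 (mul_inv_eq_iff_eq_mul.mp h2)
    exact (inv_mul_eq_one.mp (Subtype.ext h3 : y⁻¹ * x = 1)).symm
  refine hη (Subtype.ext (funext fun y => ?_))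
  obtain ⟨x, rfl⟩ := (Finite.injective_iff_surjective.mp hf) y
  have h1 : (η : P → ℂ) (S.conjHom h x) = (η : P → ℂ) x := congrFun (congrArg Subtype.val he) x
  rw [hlam] at h1 ⊢
  show ((lam (S.conjHom h x * x⁻¹) : ℂˣ) : ℂ) = (principal P : P → ℂ) (f x)
  rw [principal_apply, map_mul, map_inv, Units.ext h1, mul_inv_cancel, Units.val_one]

/-- How many elements of the complement move one character to another. -/
noncomputable def CCSetup.count (S : CCSetup P N) (η η' : IrrCharacter P) : ℕ :=
  Nat.card {h : N // S.twist h η' = η}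

/-- The orthogonality relation of the multiplicities. -/
theorem CCSetup.orthogonality (S : CCSetup P N) [Fintype P] [Fintype (IrrCharacter K)]
    (η η' : IrrCharacter P) :
    (∑ ψ : IrrCharacter K, resMult ψ η * resMult ψ η') * Nat.card P ^ 2 +
        Nat.card P * Nat.card N = Nat.card K + Nat.card P ^ 2 * S.count η η' := by
  classical
  haveI := Fintype.ofFinite K
  haveI := Fintype.ofFinite N
  set n := Nat.card P with hn
  have hnC : (n : ℂ) ≠ 0 := Nat.cast_ne_zero.mpr Nat.card_pos.ne'
  have hexp : ∀ (ψ : IrrCharacter K) (θ : IrrCharacter P),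
      (n : ℂ) * (resMult ψ θ : ℂ) = ∑ y : P, (ψ : K → ℂ) y * conj ((θ : P → ℂ) y) := by
    intro ψ θ
    rw [← resMult_spec, inner_def, ← mul_assoc, mul_inv_cancel₀ hnC, one_mul]
  -- the inner sum over the second variable
  have hinner : ∀ y : P, ∑ y' : P,
      (η' : P → ℂ) y' * ∑ ψ : IrrCharacter K, (ψ : K → ℂ) y * conj ((ψ : K → ℂ) y') =
      if y = 1 then (Nat.card K : ℂ) * (η' : P → ℂ) 1
      else (n : ℂ) * ∑ h : N, (η' : P → ℂ) (S.conjHom h y) := by
    intro y
    have hval : ∀ y' : P, ∑ ψ : IrrCharacter K, (ψ : K → ℂ) y * conj ((ψ : K → ℂ) y') =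
        if IsConj (y' : K) (y : K) then
          (Nat.card (Subgroup.centralizer ({(y : K)} : Set K)) : ℂ) else 0 :=
      fun y' => second_orthogonality _ _
    simp only [hval, mul_ite, mul_zero, ← Finset.sum_filter, ← Finset.sum_mul]
    split_ifs with hy
    · subst hy
      have h1 : (Finset.univ.filter fun y' : P => IsConj (y' : K) ((1 : P) : K)) = {1} := by
        ext y'
        simp only [Finset.mem_filter, Finset.mem_univ, true_and, Finset.mem_singleton]
        exact ⟨fun h => Subtype.ext (isConj_one_left.mp h), fun h => h ▸ IsConj.refl _⟩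
      rw [h1, Finset.sum_singleton, show Subgroup.centralizer ({((1 : P) : K)} : Set K) = ⊤ from
        eq_top_iff.mpr fun x _ => Subgroup.mem_centralizer_singleton_iff.mpr (by simp),
        Subgroup.card_top, mul_comm]
    · have hcent : Subgroup.centralizer ({(y : K)} : Set K) = P := by
        refine le_antisymm (fun g hg => S.cent y y.2 (fun e => hy (Subtype.ext e)) g
          (Subgroup.mem_centralizer_singleton_iff.mp hg)) fun g hg => ?_
        exact Subgroup.mem_centralizer_singleton_iff.mpr (S.comm g hg y y.2)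
      rw [hcent, ← hn, mul_comm, Finset.sum_filter]
      congr 1
      rw [← Finset.sum_filter]
      refine (Finset.sum_bij (fun (h : N) _ => S.conjHom h y) ?_ ?_ ?_ fun h _ => rfl).symm
      · intro h _
        simp only [Finset.mem_filter, Finset.mem_univ, true_and]
        exact (isConj_iff.mpr ⟨(h : K), rfl⟩).symm
      · intro h _ k _ hk
        have h1 : (h : K) * y * (h : K)⁻¹ = (k : K) * y * (k : K)⁻¹ := congrArg Subtype.val hk
        by_contra hne
        refine hy (Subtype.ext (S.free ((k : K)⁻¹ * h) (N.mul_mem (N.inv_mem k.2) h.2)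
          (fun e => hne (Subtype.ext (inv_mul_eq_one.mp e).symm)) y y.2 ?_))
        calc (k : K)⁻¹ * h * y = (k : K)⁻¹ * ((h : K) * y * (h : K)⁻¹) * h := by group
          _ = (k : K)⁻¹ * ((k : K) * y * (k : K)⁻¹) * h := by rw [h1]
          _ = (y : K) * ((k : K)⁻¹ * h) := by group
      · intro y' hy'
        simp only [Finset.mem_filter, Finset.mem_univ, true_and] at hy'
        obtain ⟨g, hg⟩ := isConj_iff.mp hy'.symm
        have hy'1 : (y' : K) ≠ 1 := fun e => hy (Subtype.ext (by
          rw [e] at hy'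
          exact isConj_one_right.mp hy'))
        have hgN : g ∈ Subgroup.normalizer (P : Set K) := by
          rw [Subgroup.mem_normalizer_iff]
          intro x
          refine ⟨fun hx => S.cent y' y'.2 hy'1 _ ?_, fun hx => S.cent y y.2 (fun e => hy (Subtype.ext e)) _ ?_⟩
          · rw [← hg]
            calc g * x * g⁻¹ * (g * y * g⁻¹) = g * (x * y) * g⁻¹ := by group
              _ = g * (y * x) * g⁻¹ := by rw [S.comm x hx y y.2]
              _ = g * y * g⁻¹ * (g * x * g⁻¹) := by group
          · have h1 := S.comm _ hx y' y'.2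
            rw [← hg] at h1
            calc x * (y : K) = g⁻¹ * (g * x * g⁻¹ * (g * y * g⁻¹)) * g := by group
              _ = g⁻¹ * (g * y * g⁻¹ * (g * x * g⁻¹)) * g := by rw [h1]
              _ = (y : K) * x := by group
        obtain ⟨x, hx, h, hh, rfl⟩ := S.decomp g hgN
        refine ⟨⟨h, hh⟩, Finset.mem_univ _, Subtype.ext ?_⟩
        have hm : h * (y : K) * h⁻¹ ∈ P :=
          (Subgroup.mem_normalizer_iff.mp (S.le_normalizer hh) y).mp y.2
        rw [← hg]
        calc h * (y : K) * h⁻¹ = h * y * h⁻¹ * x * x⁻¹ := by group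
          _ = x * (h * y * h⁻¹) * x⁻¹ := by rw [S.comm _ hm x hx]
          _ = x * h * y * (x * h)⁻¹ := by group
  -- orthogonality on `P`
  have hη1 : ∀ θ : IrrCharacter P, (θ : P → ℂ) 1 = 1 := fun θ => by
    haveI := irrFintype P
    exact S.degree_one θ
  have hP : ∀ h : N, (∑ y : P, conj ((η : P → ℂ) y) * (η' : P → ℂ) (S.conjHom h y)) =
      if S.twist h η' = η then (n : ℂ) else 0 := by
    intro h
    have h1 := inner_irr (S.twist h η') η
    rw [inner_def, inv_mul_eq_iff_eq_mul₀ hnC, mul_ite, mul_one, mul_zero] at h1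
    rw [← h1]
    exact Finset.sum_congr rfl fun y _ => mul_comm _ _
  have hmain : (n : ℂ) ^ 2 * (∑ ψ : IrrCharacter K, (resMult ψ η : ℂ) * (resMult ψ η' : ℂ)) =
      ∑ y : P, conj ((η : P → ℂ) y) * ∑ y' : P, (η' : P → ℂ) y' *
        ∑ ψ : IrrCharacter K, (ψ : K → ℂ) y * conj ((ψ : K → ℂ) y') := by
    simp only [Finset.mul_sum]
    rw [Finset.sum_congr rfl (fun y _ => Finset.sum_comm), Finset.sum_comm]
    refine Finset.sum_congr rfl fun ψ _ => ?_
    rw [show (n : ℂ) ^ 2 * ((resMult ψ η : ℂ) * (resMult ψ η' : ℂ)) =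
      ((n : ℂ) * (resMult ψ η : ℂ)) * conj ((n : ℂ) * (resMult ψ η' : ℂ)) by
        rw [map_mul, Complex.conj_natCast, Complex.conj_natCast]; ring]
    rw [hexp, hexp, map_sum, Finset.sum_mul_sum]
    refine Finset.sum_congr rfl fun y _ => Finset.sum_congr rfl fun y' _ => ?_
    rw [map_mul, Complex.conj_conj]
    ring
  simp only [hinner] at hmain
  have hsplit : ∀ y : P, (conj ((η : P → ℂ) y) *
      if y = 1 then (Nat.card K : ℂ) * (η' : P → ℂ) 1
        else (n : ℂ) * ∑ h : N, (η' : P → ℂ) (S.conjHom h y)) =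
      conj ((η : P → ℂ) y) * ((n : ℂ) * ∑ h : N, (η' : P → ℂ) (S.conjHom h y)) +
        if y = 1 then (Nat.card K : ℂ) - (n : ℂ) * Nat.card N else 0 := by
    intro y
    split_ifs with hy
    · subst hy
      simp [hη1, Nat.card_eq_fintype_card]
    · rw [add_zero]
  simp only [hsplit] at hmain
  rw [Finset.sum_add_distrib, Finset.sum_ite_eq' Finset.univ (1 : P), if_pos (Finset.mem_univ _)] at hmain
  have hsum : (∑ y : P, conj ((η : P → ℂ) y) * ((n : ℂ) * ∑ h : N, (η' : P → ℂ) (S.conjHom h y))) =
      (n : ℂ) ^ 2 * (S.count η η' : ℂ) := by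
    simp only [Finset.mul_sum]
    rw [Finset.sum_comm]
    have : ∀ h : N, (∑ y : P, conj ((η : P → ℂ) y) * ((n : ℂ) * (η' : P → ℂ) (S.conjHom h y))) =
        (n : ℂ) * if S.twist h η' = η then (n : ℂ) else 0 := fun h => by
      rw [← hP h, Finset.mul_sum]
      exact Finset.sum_congr rfl fun y _ => by ring
    rw [Finset.sum_congr rfl (fun h _ => this h), ← Finset.mul_sum, ← Finset.sum_filter,
      Finset.sum_const, nsmul_eq_mul, CCSetup.count, Nat.card_eq_fintype_card, Fintype.card_subtype]
    ring
  rw [hsum] at hmain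
  have : ((∑ ψ : IrrCharacter K, resMult ψ η * resMult ψ η') * n ^ 2 + n * Nat.card N : ℕ) =
      ((Nat.card K + n ^ 2 * S.count η η' : ℕ) : ℂ) := by
    push_cast
    linear_combination hmain
  exact_mod_cast this

end CfsgLib.Derangements
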