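import Mathlib
import Cfsg.Agent.Lib.Derangements.CCMultiplicity
import Cfsg.Agent.Lib.CharApps.Basic

/-!
# Permutation characters with a regular self-centralising abelian subgroup

If the group is not doubly transitive and the normaliser complement has order `d ≥ 2` then the
degree is less than `d² - d + 1`.
-/

set_option autoImplicit false
set_option linter.unusedSectionVars false
set_option linter.style.haveILetI false

namespace CfsgLib.Derangements

open Cfsg CfsgLib.Chars MulAction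
open scoped ComplexConjugate

variable {K : Type*} [Group K] [Finite K] {P N : Subgroup K}

theorem CCSetup.sum_sq_sub (S : CCSetup P N) [Fintype P] [Fintype (IrrCharacter K)]
    (η η' : IrrCharacter P) (h0 : S.count η η' = 0) :
    ∑ ψ : IrrCharacter K, ((resMult ψ η : ℤ) - resMult ψ η') ^ 2 =
      (S.count η η : ℤ) + S.count η' η' := by
  have h1 := S.orthogonality η η
  have h2 := S.orthogonality η' η'
  have h3 := S.orthogonality η η'
  rw [h0] at h3
  set n := Nat.card P
  have hn : (0 : ℤ) < (n : ℤ) ^ 2 := by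
    have h0 : 0 < n := Nat.card_pos
    positivity
  have e : ∑ ψ : IrrCharacter K, ((resMult ψ η : ℤ) - resMult ψ η') ^ 2 =
      ((∑ ψ : IrrCharacter K, resMult ψ η * resMult ψ η : ℕ) : ℤ) +
        ((∑ ψ : IrrCharacter K, resMult ψ η' * resMult ψ η' : ℕ) : ℤ) -
        2 * ((∑ ψ : IrrCharacter K, resMult ψ η * resMult ψ η' : ℕ) : ℤ) := by
    push_cast
    rw [Finset.mul_sum, ← Finset.sum_add_distrib, ← Finset.sum_sub_distrib]
    exact Finset.sum_congr rfl fun ψ _ => by ring
  rw [e]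
  set A := ∑ ψ : IrrCharacter K, resMult ψ η * resMult ψ η
  set B := ∑ ψ : IrrCharacter K, resMult ψ η' * resMult ψ η'
  set C := ∑ ψ : IrrCharacter K, resMult ψ η * resMult ψ η'
  have h1' : (A : ℤ) * (n : ℤ) ^ 2 + n * Nat.card N = Nat.card K + (n : ℤ) ^ 2 * S.count η η := by
    exact_mod_cast h1
  have h2' : (B : ℤ) * (n : ℤ) ^ 2 + n * Nat.card N = Nat.card K + (n : ℤ) ^ 2 * S.count η' η' := by
    exact_mod_cast h2
  have h3' : (C : ℤ) * (n : ℤ) ^ 2 + n * Nat.card N = Nat.card K + (n : ℤ) ^ 2 * 0 := by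
    exact_mod_cast h3
  refine mul_right_cancel₀ hn.ne' ?_
  linear_combination h1' + h2' - 2 * h3'

theorem CCSetup.count_self (S : CCSetup P N) [Fintype P] {η : IrrCharacter P} (hη : η ≠ principal P) :
    S.count η η = 1 := by
  haveI := irrFintype P
  rw [CCSetup.count, Nat.card_eq_one_iff_unique]
  exact ⟨⟨fun h k => Subtype.ext ((S.eq_one_of_twist h.2 hη).trans (S.eq_one_of_twist k.2 hη).symm)⟩,
    ⟨⟨1, S.twist_one η⟩⟩⟩

theorem CCSetup.count_principal (S : CCSetup P N) :
    S.count (principal P) (principal P) = Nat.card N :=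
  Nat.card_congr (Equiv.subtypeUnivEquiv fun h => S.twist_principal h)

theorem CCSetup.count_principal_ne (S : CCSetup P N) {η : IrrCharacter P} (hη : η ≠ principal P) :
    S.count (principal P) η = 0 := by
  rw [CCSetup.count, Nat.card_eq_zero]
  refine Or.inl ⟨fun ⟨h, hh⟩ => hη ?_⟩
  have e := congrArg (S.twist h⁻¹) hh
  rwa [S.twist_twist, mul_inv_cancel, S.twist_one, S.twist_principal] at e

/-- Degree bound: `n - 1 < d² - d`. -/
theorem CCSetup.card_sub_one_lt (S : CCSetup P N) {Ω : Type*} [MulAction K Ω] [Finite Ω]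
    [IsPretransitive K Ω] (a : Ω) (hfree : ∀ y ∈ P, ∀ b : Ω, y • b = b → y = 1)
    (hcard : Nat.card P = Nat.card Ω) (hd : 2 ≤ Nat.card N) (hn : 3 < Nat.card P)
    (hexc : ¬ (Nat.card P = 7 ∧ Nat.card N = 3))
    (hrank : 3 ≤ Nat.card (orbitRel.Quotient (stabilizer K a) Ω)) :
    Nat.card P - 1 < Nat.card N * Nat.card N - Nat.card N := by
  classical
  haveI := Fintype.ofFinite K
  haveI := Fintype.ofFinite P
  haveI := Fintype.ofFinite N
  haveI := irrFintype K
  haveI := irrFintype P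
  set n := Nat.card P with hndef
  set d := Nat.card N with hddef
  set π := fun g : K => (Nat.card (fixedBy Ω g) : ℂ) with hπ
  have hπc : IsCharacter K π := isCharacter_fixedBy
  choose mπ hmπ using fun ψ : IrrCharacter K => inner_irr_right_nat hπc ψ
  -- the permutation character is regular on `P`
  have hπsum : ∀ η : IrrCharacter P, ∑ ψ : IrrCharacter K, mπ ψ * resMult ψ η = 1 := by
    intro η
    have h1 : classInner (fun y : P => π y) (η : P → ℂ) = 1 := by
      rw [inner_def, Finset.sum_eq_single (1 : P)]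
      · have hfix : fixedBy Ω ((1 : P) : K) = Set.univ := Set.eq_univ_of_forall fun b => by simp
        simp only [hπ, hfix, S.degree_one η, map_one, mul_one, Nat.card_univ, ← hcard]
        exact inv_mul_cancel₀ (Nat.cast_ne_zero.mpr Nat.card_pos.ne')
      · intro y _ hy
        have hfix : fixedBy Ω (y : K) = ∅ :=
          Set.eq_empty_of_forall_notMem fun b hb => hy (Subtype.ext (hfree y y.2 b hb))
        simp [hπ, hfix]
      · simp
    have h2 : (fun y : P => π y) = ∑ ψ : IrrCharacter K,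
        (mπ ψ : ℂ) • (fun y : P => (ψ : K → ℂ) y) := by
      funext y
      have := congrFun (classFun_eq_sum (isClassFunction_of_isCharacter hπc)) (y : K)
      simp only [hmπ] at this
      rw [this, Finset.sum_apply, Finset.sum_apply]
      rfl
    rw [h2, inner_sum_left] at h1
    simp only [Chars.inner_smul_left, resMult_spec] at h1
    exact_mod_cast h1
  -- restrictions
  have hexp : ∀ ψ : IrrCharacter K, (fun y : P => (ψ : K → ℂ) y) =
      ∑ η : IrrCharacter P, (resMult ψ η : ℂ) • (η : P → ℂ) := fun ψ => by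
    conv_lhs => rw [classFun_eq_sum (isClassFunction_of_isCharacter
      (isCharacter_restrict P (isCharacter_of_irr ψ.2)))]
    exact Finset.sum_congr rfl fun η _ => by rw [resMult_spec]
  have hdeg : ∀ ψ : IrrCharacter K, (ψ : K → ℂ) 1 = ((∑ η : IrrCharacter P, resMult ψ η : ℕ) : ℂ) := by
    intro ψ
    have := congrFun (hexp ψ) 1
    simp only [Finset.sum_apply, Pi.smul_apply, smul_eq_mul, S.degree_one, mul_one, Subgroup.coe_one] at this
    rw [this, Nat.cast_sum]
  have hdegpos : ∀ ψ : IrrCharacter K, ∃ η : IrrCharacter P, resMult ψ η ≠ 0 := by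
    intro ψ
    by_contra h
    push Not at h
    refine irr_degree_ne_zero ψ.2 ?_
    rw [hdeg ψ]
    simp [h]
  have hle1 : ∀ ψ, mπ ψ ≤ 1 := by
    intro ψ
    obtain ⟨η, hη⟩ := hdegpos ψ
    have h1 := Finset.single_le_sum (f := fun φ : IrrCharacter K => mπ φ * resMult φ η)
      (fun _ _ => Nat.zero_le _) (Finset.mem_univ ψ)
    rw [hπsum η] at h1
    calc mπ ψ ≤ mπ ψ * resMult ψ η := Nat.le_mul_of_pos_right _ (Nat.pos_of_ne_zero hη)
      _ ≤ 1 := h1
  have hm1 : mπ (principal K) = 1 := by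
    have h1 := hmπ (principal K)
    have horb : Nat.card (orbitRel.Quotient K Ω) = 1 := by
      rw [Nat.card_eq_one_iff_unique]
      refine ⟨⟨fun x y => ?_⟩, ⟨Quotient.mk'' a⟩⟩
      obtain ⟨x, rfl⟩ := Quotient.mk''_surjective x
      obtain ⟨y, rfl⟩ := Quotient.mk''_surjective y
      rw [Quotient.eq'', orbitRel_apply, mem_orbit_iff]
      exact exists_smul_eq K y x
    rw [show ((principal K : IrrCharacter K) : K → ℂ) = fun _ => 1 from rfl, hπ, inner_fixedBy_one,
      horb] at h1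
    exact_mod_cast h1.symm
  have hprinc : ∀ η : IrrCharacter P, resMult (principal K) η = if η = principal P then 1 else 0 := by
    intro η
    have h1 := resMult_spec (principal K) η
    rw [show (fun y : P => ((principal K : IrrCharacter K) : K → ℂ) y) =
      ((principal P : IrrCharacter P) : P → ℂ) from rfl, inner_irr] at h1
    split_ifs at h1 ⊢ with h2 h3 h3
    · exact_mod_cast h1.symm
    · exact absurd h2.symm h3
    · exact absurd h3.symm h2
    · exact_mod_cast h1.symm
  -- the non-trivial constituents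
  have hα0 : ∀ ψ, ψ ≠ principal K → mπ ψ ≠ 0 → resMult ψ (principal P) = 0 := by
    intro ψ hψ hm
    have h1 := hπsum (principal P)
    rw [← Finset.add_sum_erase _ _ (Finset.mem_univ (principal K)), hm1, hprinc, if_pos rfl] at h1
    have h2 := Finset.single_le_sum (f := fun φ : IrrCharacter K => mπ φ * resMult φ (principal P))
      (fun _ _ => Nat.zero_le _) (Finset.mem_erase.mpr ⟨hψ, Finset.mem_univ ψ⟩)
    have h3 : mπ ψ * resMult ψ (principal P) = 0 := by omega
    exact (Nat.mul_eq_zero.mp h3).resolve_left hm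
  have hcarrier : ∀ η : IrrCharacter P, η ≠ principal P → ∃ χ : IrrCharacter K, χ ≠ principal K ∧
      mπ χ = 1 ∧ resMult χ η = 1 ∧
      ∀ ψ, ψ ≠ χ → mπ ψ ≠ 0 → resMult ψ η = 0 := by
    intro η hη
    obtain ⟨χ, -, hχ⟩ := Finset.exists_ne_zero_of_sum_ne_zero
      (show (∑ ψ : IrrCharacter K, mπ ψ * resMult ψ η) ≠ 0 by rw [hπsum η]; exact one_ne_zero)
    have h1 := hπsum η
    rw [← Finset.add_sum_erase _ _ (Finset.mem_univ χ)] at h1
    have hpos := Nat.pos_of_ne_zero hχ
    have h2 : mπ χ * resMult χ η = 1 := by omega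
    obtain ⟨h2a, h2b⟩ := mul_eq_one.mp h2
    refine ⟨χ, fun e => ?_, h2a, h2b, fun ψ hψ hm => ?_⟩
    · rw [e, hprinc, if_neg hη] at h2b
      exact zero_ne_one h2b
    · have h3 : (∑ φ ∈ Finset.univ.erase χ, mπ φ * resMult φ η) = 0 := by omega
      exact (Nat.mul_eq_zero.mp (Finset.sum_eq_zero_iff.mp h3 ψ
        (Finset.mem_erase.mpr ⟨hψ, Finset.mem_univ ψ⟩))).resolve_left hm
  have hsub1 : ∀ ψ, ψ ≠ principal K → mπ ψ ≠ 0 → ∀ η : IrrCharacter P, resMult ψ η ≤ 1 := by
    intro ψ hψ hm η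
    by_cases hη : η = principal P
    · rw [hη, hα0 ψ hψ hm]; exact Nat.zero_le _
    obtain ⟨χ, -, -, hχη, huniq⟩ := hcarrier η hη
    by_cases e : ψ = χ
    · rw [e, hχη]
    · rw [huniq ψ e hm]; exact Nat.zero_le _
  -- at least two non-trivial constituents
  have hsq : ∑ ψ : IrrCharacter K, mπ ψ * mπ ψ =
      Nat.card (orbitRel.Quotient (stabilizer K a) Ω) := by
    have h1 := inner_eq_sum (isClassFunction_of_isCharacter hπc) π
    simp only [hmπ, Complex.conj_natCast] at h1
    rw [hπ, inner_fixedBy_self a] at h1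
    exact_mod_cast h1.symm
  set T := Finset.univ.filter fun ψ : IrrCharacter K => ψ ≠ principal K ∧ mπ ψ ≠ 0 with hT
  have hTcard : 2 ≤ T.card := by
    have h1 : ∑ ψ : IrrCharacter K, mπ ψ * mπ ψ ≤ 1 + T.card := by
      rw [← Finset.add_sum_erase _ _ (Finset.mem_univ (principal K)), hm1, one_mul]
      refine Nat.add_le_add_left ?_ _
      rw [hT, Finset.card_filter, ← Finset.add_sum_erase _ _ (Finset.mem_univ (principal K))]
      refine le_trans ?_ (Nat.le_add_left _ _)
      refine Finset.sum_le_sum fun ψ hψ => ?_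
      have := hle1 ψ
      by_cases hm : mπ ψ = 0
      · simp [hm]
      · rw [if_pos ⟨Finset.ne_of_mem_erase hψ, hm⟩]
        exact Nat.mul_le_mul this this
    omega
  have hsplit : ∀ η η' : IrrCharacter P, η ≠ principal P → η' ≠ principal P →
      (∀ h, S.twist h η' ≠ η) → ∀ χ χ' : IrrCharacter K, χ ≠ χ' →
      ((resMult χ η : ℤ) - resMult χ η') ^ 2 = 1 → ((resMult χ' η : ℤ) - resMult χ' η') ^ 2 = 1 →
      ∀ ψ, ψ ≠ χ → ψ ≠ χ' → resMult ψ η = resMult ψ η' := by
    intro η η' hη hη' hor χ χ' hne h1 h2 ψ hψ hψ'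
    have h0 : S.count η η' = 0 := Nat.card_eq_zero.mpr (Or.inl ⟨fun x => hor x.1 x.2⟩)
    have e := S.sum_sq_sub η η' h0
    rw [S.count_self hη, S.count_self hη', ← Finset.add_sum_erase _ _ (Finset.mem_univ χ),
      ← Finset.add_sum_erase _ _ (Finset.mem_erase.mpr ⟨hne.symm, Finset.mem_univ χ'⟩), h1, h2] at e
    have h3 : (∑ φ ∈ (Finset.univ.erase χ).erase χ', ((resMult φ η : ℤ) - resMult φ η') ^ 2) = 0 := by
      push_cast at e
      linarith
    have h4 := (Finset.sum_eq_zero_iff_of_nonneg fun φ _ => sq_nonneg _).mp h3 ψ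
      (Finset.mem_erase.mpr ⟨hψ', Finset.mem_erase.mpr ⟨hψ, Finset.mem_univ ψ⟩⟩)
    exact_mod_cast sub_eq_zero.mp (pow_eq_zero_iff (two_ne_zero) |>.mp h4)
  -- constituents are carried by single orbits
  have horbit : ∀ χ ∈ T, ∀ η η', resMult χ η ≠ 0 → resMult χ η' ≠ 0 → ∃ h, S.twist h η' = η := by
    intro χ hχT η η' hη hη'
    obtain ⟨hχp, hχm⟩ := (Finset.mem_filter.mp hχT).2
    by_contra hor
    push Not at hor
    have hηne : η ≠ principal P := fun e => hη (e ▸ hα0 χ hχp hχm)
    have hη'ne : η' ≠ principal P := fun e => hη' (e ▸ hα0 χ hχp hχm)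
    obtain ⟨χ', hχ'T, hχ'ne⟩ : ∃ χ' ∈ T, χ' ≠ χ := Finset.exists_mem_ne (by omega) χ
    obtain ⟨hχ'p, hχ'm⟩ := (Finset.mem_filter.mp hχ'T).2
    obtain ⟨η'', hη''⟩ := hdegpos χ'
    have hη''ne : η'' ≠ principal P := fun e => hη'' (e ▸ hα0 χ' hχ'p hχ'm)
    have hval : ∀ θ, resMult χ θ ≠ 0 → resMult χ θ = 1 := fun θ h => by
      have := hsub1 χ hχp hχm θ; omega
    have hexcl : ∀ θ φ φ', θ ≠ principal P → φ ∈ T → φ' ∈ T → φ ≠ φ' →
        resMult φ θ ≠ 0 → resMult φ' θ = 0 := by
      intro θ φ φ' hθ hφ hφ' hne h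
      obtain ⟨c, -, -, -, hu⟩ := hcarrier θ hθ
      have e : φ = c := by
        by_contra hc
        exact h (hu φ hc (Finset.mem_filter.mp hφ).2.2)
      exact hu φ' (e ▸ hne.symm) (Finset.mem_filter.mp hφ').2.2
    have h'' : resMult χ' η'' = 1 := by have := hsub1 χ' hχ'p hχ'm η''; omega
    have h''χ : resMult χ η'' = 0 := hexcl η'' χ' χ hη''ne hχ'T hχT hχ'ne hη''
    have hnot : ∀ θ, resMult χ θ ≠ 0 → ∀ h, S.twist h η'' ≠ θ := fun θ hθ h e => hθ (by
      rw [← e, S.resMult_twist, h''χ])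
    have hη1 := hexcl η χ χ' hηne hχT hχ'T hχ'ne.symm hη
    have hη'1 := hexcl η' χ χ' hη'ne hχT hχ'T hχ'ne.symm hη'
    have key : ∀ θ, θ ≠ principal P → resMult χ θ ≠ 0 → resMult χ' θ = 0 →
        ∀ ψ, ψ ≠ χ → ψ ≠ χ' → resMult ψ θ = resMult ψ η'' := by
      intro θ hθ h1 h2
      exact hsplit θ η'' hθ hη''ne (hnot θ h1) χ χ' hχ'ne.symm (by rw [hval θ h1, h''χ]; norm_num)
        (by rw [h2, h'']; norm_num)
    have h0 : S.count η η' = 0 := Nat.card_eq_zero.mpr (Or.inl ⟨fun x => hor x.1 x.2⟩)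
    have e := S.sum_sq_sub η η' h0
    rw [S.count_self hηne, S.count_self hη'ne] at e
    rw [Finset.sum_eq_zero] at e
    · norm_num at e
    intro ψ _
    by_cases h1 : ψ = χ
    · rw [h1, hval η hη, hval η' hη']; norm_num
    by_cases h2 : ψ = χ'
    · rw [h2, hη1, hη'1]; norm_num
    rw [key η hηne hη hη1 ψ h1 h2, key η' hη'ne hη' hη'1 ψ h1 h2]
    norm_num
  -- fix one
  obtain ⟨χ, hχT⟩ := Finset.card_pos.mp (show 0 < T.card by omega)
  obtain ⟨hχp, hχm⟩ := (Finset.mem_filter.mp hχT).2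
  obtain ⟨η₀, hη₀⟩ := hdegpos χ
  have hη₀ne : η₀ ≠ principal P := fun e => hη₀ (e ▸ hα0 χ hχp hχm)
  have hη₀1 : resMult χ η₀ = 1 := by have := hsub1 χ hχp hχm η₀; omega
  have hsupp : ∑ η : IrrCharacter P, resMult χ η = d := by
    calc ∑ η : IrrCharacter P, resMult χ η
        = ∑ η ∈ Finset.univ.image (fun h : N => S.twist h η₀), resMult χ η := by
          refine (Finset.sum_subset (Finset.subset_univ _) fun η _ hη => ?_).symm
          by_contra h
          obtain ⟨k, hk⟩ := horbit χ hχT η η₀ h hη₀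
          exact hη (Finset.mem_image.mpr ⟨k, Finset.mem_univ _, hk⟩)
      _ = ∑ h : N, resMult χ (S.twist h η₀) := by
          refine Finset.sum_image fun h _ k _ hk => ?_
          have e := congrArg (S.twist k⁻¹) hk
          rw [S.twist_twist, S.twist_twist, mul_inv_cancel, S.twist_one] at e
          exact mul_inv_eq_one.mp (S.eq_one_of_twist e hη₀ne)
      _ = ∑ h : N, 1 := Finset.sum_congr rfl fun h _ => by rw [S.resMult_twist, hη₀1]
      _ = d := by rw [Finset.sum_const, Finset.card_univ, smul_eq_mul, mul_one, hddef,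
            Nat.card_eq_fintype_card]
  -- other characters are constant on the non-principal characters
  have hconst : ∀ ψ : IrrCharacter K, ψ ∉ T → ∀ η, η ≠ principal P →
      resMult ψ η = resMult ψ η₀ := by
    intro ψ hψ η hη
    by_cases hor : ∃ h, S.twist h η₀ = η
    · obtain ⟨h, rfl⟩ := hor
      exact S.resMult_twist ψ h η₀
    push Not at hor
    obtain ⟨c, hcp, hcm, hcη, huniq⟩ := hcarrier η hη
    have hcT : c ∈ T := Finset.mem_filter.mpr ⟨Finset.mem_univ _, hcp, by omega⟩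
    have hne : c ≠ χ := fun e => by
      obtain ⟨h, hh⟩ := horbit χ hχT η η₀ (by rw [← e, hcη]; exact one_ne_zero) hη₀
      exact hor h hh
    have hc0 : resMult c η₀ = 0 := by
      obtain ⟨c₀, -, -, -, huniq₀⟩ := hcarrier η₀ hη₀ne
      have e : χ = c₀ := by
        by_contra hc
        exact hη₀ (huniq₀ χ hc hχm)
      exact huniq₀ c (e ▸ hne) (by omega)
    exact hsplit η η₀ hη hη₀ne hor c χ hne (by rw [hcη, hc0]; norm_num)
      (by rw [huniq χ hne.symm hχm, hη₀1]; norm_num) ψ (fun e => hψ (e ▸ hcT)) (fun e => hψ (e ▸ hχT))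
  have hcardP : Fintype.card (IrrCharacter P) = n := by
    rw [← Nat.card_eq_fintype_card, S.card_irr]
  have hdeg2 : ∀ ψ : IrrCharacter K, ψ ∉ T → ∑ η : IrrCharacter P, resMult ψ η =
      resMult ψ (principal P) + resMult ψ η₀ * (n - 1) := by
    intro ψ hψ
    rw [← Finset.add_sum_erase _ _ (Finset.mem_univ (principal P)),
      Finset.sum_congr rfl (fun η hη => hconst ψ hψ η (Finset.ne_of_mem_erase hη)), Finset.sum_const,
      Finset.card_erase_of_mem (Finset.mem_univ _), Finset.card_univ, hcardP, smul_eq_mul, mul_comm]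
  have hker : ∀ ψ : IrrCharacter K, ψ ∉ T → ψ ≠ principal K → resMult ψ η₀ ≠ 0 := by
    intro ψ hψ hne h0
    have hP : P ≤ CharApps.charKer ψ := by
      intro y hy
      rw [CharApps.mem_charKer, hdeg ψ, hdeg2 ψ hψ, h0, zero_mul, add_zero]
      have e := congrFun (hexp ψ) ⟨y, hy⟩
      rw [e, Finset.sum_apply, Finset.sum_eq_single (principal P)]
      · simp [principal_apply]
      · intro η _ hη
        simp [hconst ψ hψ η hη, h0]
      · simp
    have htop := S.gen _ (CharApps.charKer_normal ψ) hP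
    have hconst' : ∀ g : K, (ψ : K → ℂ) g = (ψ : K → ℂ) 1 := fun g =>
      CharApps.mem_charKer.mp (htop ▸ Subgroup.mem_top g)
    have h1 := inner_irr_ne hne
    rw [inner_def] at h1
    simp only [principal_apply, map_one, mul_one, hconst', Finset.sum_const, Finset.card_univ,
      nsmul_eq_mul, ← Nat.card_eq_fintype_card, inv_mul_cancel_left₀ (card_ne_zero K)] at h1
    exact irr_degree_ne_zero ψ.2 h1
  -- the product of the character with its conjugate
  set θ := fun g : K => (χ : K → ℂ) g * conj ((χ : K → ℂ) g) with hθ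
  have hθc : IsCharacter K θ :=
    isCharacter_mul (isCharacter_of_irr χ.2) (isCharacter_conj (isCharacter_of_irr χ.2))
  choose k hk using fun ψ : IrrCharacter K => inner_irr_right_nat hθc ψ
  have hθexp : θ = ∑ ψ : IrrCharacter K, (k ψ : ℂ) • (ψ : K → ℂ) := by
    conv_lhs => rw [classFun_eq_sum (isClassFunction_of_isCharacter hθc)]
    exact Finset.sum_congr rfl fun ψ _ => by rw [hk]
  have hk1 : k (principal K) = 1 := by
    have h1 := hk (principal K)
    rw [inner_def] at h1
    simp only [hθ, principal_apply, map_one, mul_one] at h1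
    have h2 := inner_irr_self χ
    rw [inner_def, h1] at h2
    exact_mod_cast h2
  have hksum : ∑ ψ : IrrCharacter K, k ψ * resMult ψ (principal P) = d := by
    have h1 : classInner (fun y : P => θ y) ((principal P : IrrCharacter P) : P → ℂ) =
        classInner (fun y : P => (χ : K → ℂ) y) (fun y : P => (χ : K → ℂ) y) := by
      rw [inner_def, inner_def]
      congr 1
      exact Finset.sum_congr rfl fun y _ => by simp [hθ, principal_apply]
    have h2 : classInner (fun y : P => (χ : K → ℂ) y) (fun y : P => (χ : K → ℂ) y) = (d : ℂ) := by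
      rw [inner_eq_sum (isClassFunction_of_isCharacter (isCharacter_restrict P (isCharacter_of_irr χ.2)))]
      simp only [resMult_spec, Complex.conj_natCast]
      rw [← hsupp, Nat.cast_sum]
      refine Finset.sum_congr rfl fun η _ => ?_
      rcases Nat.le_one_iff_eq_zero_or_eq_one.mp (hsub1 χ hχp hχm η) with h | h <;> simp [h]
    have h3 : (fun y : P => θ y) = ∑ ψ : IrrCharacter K, (k ψ : ℂ) • (fun y : P => (ψ : K → ℂ) y) := by
      funext y
      rw [congrFun hθexp (y : K), Finset.sum_apply, Finset.sum_apply]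
      rfl
    rw [h3, inner_sum_left, h2] at h1
    simp only [Chars.inner_smul_left, resMult_spec] at h1
    exact_mod_cast h1
  have hkdeg : ∑ ψ : IrrCharacter K, k ψ * ∑ η : IrrCharacter P, resMult ψ η = d * d := by
    have h1 := congrFun hθexp 1
    simp only [hθ, Finset.sum_apply, Pi.smul_apply, smul_eq_mul, hdeg, hsupp, Complex.conj_natCast] at h1
    exact_mod_cast h1.symm
  set O := (Finset.univ.erase (principal K)) \ T with hO
  have hOmem : ∀ ψ ∈ O, ψ ≠ principal K ∧ ψ ∉ T := fun ψ hψ =>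
    ⟨Finset.ne_of_mem_erase (Finset.mem_sdiff.mp hψ).1, (Finset.mem_sdiff.mp hψ).2⟩
  have hTsub : T ⊆ Finset.univ.erase (principal K) := fun ψ hψ =>
    Finset.mem_erase.mpr ⟨(Finset.mem_filter.mp hψ).2.1, Finset.mem_univ _⟩
  have hαsum : ∑ ψ ∈ O, k ψ * resMult ψ (principal P) + 1 = d := by
    rw [← hksum, ← Finset.add_sum_erase _ _ (Finset.mem_univ (principal K)), hk1, hprinc, if_pos rfl,
      ← Finset.sum_sdiff hTsub]
    have : ∑ ψ ∈ T, k ψ * resMult ψ (principal P) = 0 := Finset.sum_eq_zero fun ψ hψ => by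
      rw [hα0 ψ (Finset.mem_filter.mp hψ).2.1 (Finset.mem_filter.mp hψ).2.2, mul_zero]
    rw [this]; ring
  have hprincdeg : ∑ η : IrrCharacter P, resMult (principal K) η = 1 := by
    simp [hprinc]
  have hdegle : 1 + ∑ ψ ∈ O, k ψ * (resMult ψ (principal P) + resMult ψ η₀ * (n - 1)) ≤ d * d := by
    rw [← hkdeg, ← Finset.add_sum_erase _ _ (Finset.mem_univ (principal K)), hk1, hprincdeg, one_mul]
    refine Nat.add_le_add_left ?_ 1
    rw [Finset.sum_congr rfl (fun ψ hψ => by rw [← hdeg2 ψ (hOmem ψ hψ).2])]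
    exact Finset.sum_le_sum_of_subset Finset.sdiff_subset
  set B := ∑ ψ ∈ O, k ψ * resMult ψ η₀ with hB
  have hdB : d + B * (n - 1) ≤ d * d := by
    simp only [mul_add, Finset.sum_add_distrib, ← mul_assoc, ← Finset.sum_mul] at hdegle
    rw [hB]; omega
  obtain ⟨ψ₁, hψ₁, hψ₁0⟩ := Finset.exists_ne_zero_of_sum_ne_zero
    (show (∑ ψ ∈ O, k ψ * resMult ψ (principal P)) ≠ 0 by omega)
  have hψ₁β : resMult ψ₁ η₀ ≠ 0 := hker ψ₁ (hOmem ψ₁ hψ₁).2 (hOmem ψ₁ hψ₁).1
  have hkψ₁ : k ψ₁ ≠ 0 := left_ne_zero_of_mul hψ₁0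
  have hB1 : 1 ≤ B := le_trans (Nat.one_le_iff_ne_zero.mpr (Nat.mul_ne_zero hkψ₁ hψ₁β))
    (Finset.single_le_sum (f := fun φ : IrrCharacter K => k φ * resMult φ η₀)
      (fun _ _ => Nat.zero_le _) hψ₁)
  by_contra hlt
  push Not at hlt
  have hBle : B * (n - 1) ≤ 1 * (n - 1) := by omega
  have hBeq : B = 1 := le_antisymm (Nat.le_of_mul_le_mul_right hBle (by omega)) hB1
  have hothers : ∀ ψ ∈ O, ψ ≠ ψ₁ → k ψ = 0 := by
    intro ψ hψ hne
    by_contra hk0
    have h1 : (∑ φ ∈ ({ψ₁, ψ} : Finset (IrrCharacter K)), k φ * resMult φ η₀) ≤ B :=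
      Finset.sum_le_sum_of_subset (by
        intro x hx
        rcases Finset.mem_insert.mp hx with rfl | hx
        · exact hψ₁
        · exact Finset.mem_singleton.mp hx ▸ hψ)
    rw [Finset.sum_pair hne.symm, hBeq] at h1
    have := Nat.pos_of_ne_zero (Nat.mul_ne_zero hkψ₁ hψ₁β)
    have := Nat.pos_of_ne_zero (Nat.mul_ne_zero hk0 (hker ψ (hOmem ψ hψ).2 (hOmem ψ hψ).1))
    omega
  have hone : k ψ₁ * resMult ψ₁ η₀ = 1 := by
    rw [← hBeq, hB, Finset.sum_eq_single ψ₁ (fun ψ hψ hne => by rw [hothers ψ hψ hne, zero_mul])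
      (fun h => absurd hψ₁ h)]
  obtain ⟨hk1', hβ1⟩ := mul_eq_one.mp hone
  have hα : resMult ψ₁ (principal P) + 1 = d := by
    rw [← hαsum, Finset.sum_eq_single ψ₁ (fun ψ hψ hne => by rw [hothers ψ hψ hne, zero_mul])
      (fun h => absurd hψ₁ h), hk1', one_mul]
  have hcount0 : S.count (principal P) η₀ = 0 := S.count_principal_ne hη₀ne
  have e := S.sum_sq_sub (principal P) η₀ hcount0
  rw [S.count_principal, S.count_self hη₀ne] at e
  have hψ₁χ : ψ₁ ≠ χ := fun h => (hOmem ψ₁ hψ₁).2 (h ▸ hχT)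
  have h3 : (∑ φ ∈ ({principal K, χ, ψ₁} : Finset (IrrCharacter K)),
      ((resMult φ (principal P) : ℤ) - resMult φ η₀) ^ 2) ≤ (d : ℤ) + 1 := by
    refine le_trans (Finset.sum_le_sum_of_subset_of_nonneg (Finset.subset_univ _)
      (fun φ _ _ => sq_nonneg _)) ?_
    rw [e]; push_cast; omega
  rw [Finset.sum_insert (by simp [hχp.symm, ((hOmem ψ₁ hψ₁).1).symm]), Finset.sum_pair hψ₁χ.symm,
    hprinc, if_pos rfl, hprinc, if_neg hη₀ne, hα0 χ hχp hχm, hη₀1, hβ1] at h3
  have hαz : (resMult ψ₁ (principal P) : ℤ) = (d : ℤ) - 1 := by omega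
  rw [hαz] at h3
  push_cast at h3
  have hd3 : (d : ℤ) ≤ 3 := by nlinarith
  have hd3' : d ≤ 3 := by exact_mod_cast hd3
  have : d * d ≤ 3 * 3 := Nat.mul_le_mul hd3' hd3'
  rw [hBeq, one_mul] at hdB
  interval_cases d <;> omega

end CfsgLib.Derangements
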