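import Mathlib
import Cfsg.Agent.Lib.Derangements.AffineNonFree
import Cfsg.Agent.Lib.Derangements.CCPermutation

/-!
# The index bound

If the fixed-point subgroup of the covering stabiliser acts freely on the regular subgroup then
character theory and a congruence on the degree contradict the failure of the index bound.
-/

set_option autoImplicit false
set_option linter.unusedSectionVars false
set_option linter.style.haveILetI false

namespace CfsgLib.Derangements

open MulAction Subgroup

variable {G : Type*} [Group G] {Ω : Type*} [MulAction G Ω]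
variable [Finite G] [IsPretransitive G Ω] [Finite Ω] {p : ℕ} {P : Subgroup G} {a : Ω}

/-- A subgroup between `P` and the derangement subgroup in which `P` is its own normaliser
is `P` itself. -/
theorem RegularConfig.eq_of_normalizer_le [FaithfulSMul G Ω] (cfg : RegularConfig Ω p P a)
    {C : Subgroup G} (hPC : P ≤ C) (hCD : C ≤ derSubgroup G Ω)
    (hN : ∀ g ∈ C, g ∈ normalizer (P : Set G) → g ∈ P) : C = P := by
  classical
  haveI : Fact p.Prime := ⟨cfg.prime⟩
  set A : Subgroup C := stabilizer C a with hA
  have horb : orbit C a = Set.univ := by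
    refine Set.eq_univ_of_forall fun b => ?_
    obtain ⟨x, hx, rfl⟩ := cfg.orbit_eq_univ b
    exact ⟨⟨x, hPC hx⟩, rfl⟩
  have hAcard : Nat.card Ω * Nat.card A = Nat.card C := by
    have h1 := A.index_mul_card
    rw [hA, index_stabilizer, horb, Set.ncard_univ] at h1
    exact h1
  set E : Subgroup G := A.map C.subtype with hE
  have hEle : E ≤ derSubgroup G Ω ⊓ stabilizer G a := by
    rintro _ ⟨c, hc, rfl⟩
    exact ⟨hCD c.2, hc⟩
  have hEcard : Nat.card E = Nat.card A :=
    (Nat.card_congr (A.equivMapOfInjective _ C.subtype_injective).toEquiv).symm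
  set P' : Subgroup C := P.subgroupOf C with hP'
  have hP'card : Nat.card P' = Nat.card P := Nat.card_congr (subgroupOfEquivOfLe hPC).toEquiv
  have hidx : P'.index = Nat.card A := by
    have h1 := P'.card_mul_index
    rw [hP'card, cfg.card_eq, ← hAcard] at h1
    exact Nat.eq_of_mul_eq_mul_left (cfg.card_eq ▸ Nat.card_pos) h1
  have hp' : ¬ p ∣ P'.index := fun h => cfg.coprime
    ((hidx ▸ h).trans (hEcard ▸ Subgroup.card_dvd_of_le hEle))
  let S : Sylow p C := (cfg.pgroup.of_equiv (subgroupOfEquivOfLe hPC).symm).toSylow hp'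
  have hS : (S : Subgroup C) = P' := rfl
  have hNS : normalizer ((S : Subgroup C) : Set C) ≤ centralizer ((S : Subgroup C) : Set C) := by
    intro g hg
    have hgP : (g : G) ∈ normalizer (P : Set G) := by
      rw [Subgroup.mem_normalizer_iff]
      intro y
      by_cases hy : y ∈ C
      · exact Subgroup.mem_normalizer_iff.mp hg ⟨y, hy⟩
      · refine ⟨fun h => absurd (hPC h) hy, fun h => absurd ?_ hy⟩
        have h1 := C.mul_mem (C.mul_mem (C.inv_mem g.2) (hPC h)) g.2
        simpa [mul_assoc] using h1
    exact mem_centralizer_iff.mpr fun y hy =>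
      Subtype.ext (cfg.comm (y : G) hy (g : G) (hN g g.2 hgP))
  set φ := MonoidHom.transferSylow S hNS
  have hker := MonoidHom.ker_transferSylow_isComplement' S hNS
  have hkcard : Nat.card φ.ker * Nat.card Ω = Nat.card C := by
    have h1 := hker.card_mul
    rwa [show Nat.card (S : Subgroup C) = Nat.card Ω from hP'card.trans cfg.card_eq] at h1
  have hAker : A ≤ φ.ker := by
    intro c hc
    rw [MonoidHom.mem_ker, ← orderOf_eq_one_iff]
    refine Nat.eq_one_of_dvd_coprimes (cfg.coprime_card hEle) ?_ ?_
    · rw [← hP'card, ← hS]; exact orderOf_dvd_natCard (φ c)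
    · refine (orderOf_map_dvd φ c).trans ?_
      rw [← Subgroup.orderOf_coe]
      exact Subgroup.orderOf_dvd_natCard E ⟨c, hc, rfl⟩
  have hAeq : A = φ.ker := by
    refine eq_of_le_of_card_ge hAker (le_of_eq ?_)
    refine Nat.eq_of_mul_eq_mul_left (cfg.card_eq ▸ Nat.card_pos : 0 < Nat.card Ω) ?_
    rw [hAcard, mul_comm, hkcard]
  have hAbot : A = ⊥ := by
    refine (Subgroup.eq_bot_iff_forall A).mpr fun s hs =>
      Subtype.ext (eq_of_smul_eq_smul (α := Ω) fun b => ?_)
    obtain ⟨x, hx, rfl⟩ := cfg.orbit_eq_univ b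
    have h1 : (⟨x, hPC hx⟩ : C)⁻¹ * s * ⟨x, hPC hx⟩ ∈ A := by
      rw [hAeq] at hs ⊢
      simpa using φ.normal_ker.conj_mem s hs (⟨x, hPC hx⟩ : C)⁻¹
    have h2 : (x⁻¹ * (s : G) * x) • a = a := h1
    show (s : G) • x • a = (1 : G) • x • a
    rw [one_smul, ← mul_smul, show (s : G) * x = x * (x⁻¹ * s * x) by group, mul_smul, h2]
  rw [hAbot, Subgroup.card_bot, mul_one] at hAcard
  exact (eq_of_le_of_card_ge hPC (by rw [← hAcard, cfg.card_eq])).symm

variable [Nontrivial Ω]

/-- The configuration left when the index bound fails does not occur in a group with a non-trivial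
element fixing two points. -/
theorem RegularConfig.false_of_two_fixed [FaithfulSMul G Ω] (cfg : RegularConfig Ω p P a)
    (hm : 2 ≤ (derSubgroup G Ω).index)
    (hnb : ¬ ((derSubgroup G Ω).index + 1) ^ 2 ≤ Nat.card Ω)
    (hcase : ¬ P.Normal ∨ ∃ g : G, g ≠ 1 ∧ ∃ b c : Ω, b ≠ c ∧ g • b = b ∧ g • c = c) : False := by
  classical
  haveI hDn : (derSubgroup G Ω).Normal := derSubgroup_normal G Ω
  set D := derSubgroup G Ω with hD
  set L := stabilizer G a ⊓ normalizer (P : Set G) with hL
  have hfree : ∀ u ∈ D ⊓ L, ∀ y ∈ P, u * y = y * u → u = 1 ∨ y = 1 := fun u hu y hy h => by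
    by_cases h1 : u = 1
    · exact Or.inl h1
    · exact Or.inr (cfg.eq_one_of_commute hm hnb hu h1 hy h)
  -- the centralisers
  have hcent : ∀ y ∈ P, y ≠ 1 → ∀ g ∈ D, g * y = y * g → g ∈ P := by
    intro y hy hy1 g hg hgy
    have h := cfg.eq_of_normalizer_le (C := D ⊓ centralizer ({y} : Set G))
      (le_inf cfg.le_der fun x hx => mem_centralizer_singleton_iff.mpr (cfg.comm x hx y hy))
      inf_le_left ?_
    · exact h ▸ ⟨hg, mem_centralizer_singleton_iff.mpr hgy⟩
    intro c hc hcN
    obtain ⟨x, hx, hxc⟩ := cfg.orbit_eq_univ (c • a)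
    have h1 : x⁻¹ * c ∈ D ⊓ L := ⟨D.mul_mem (D.inv_mem (cfg.le_der hx)) hc.1,
      show (x⁻¹ * c) • a = a by rw [mul_smul, ← hxc, inv_smul_smul],
      (normalizer (P : Set G)).mul_mem ((normalizer (P : Set G)).inv_mem
        (Subgroup.le_normalizer hx)) hcN⟩
    have h2 : (x⁻¹ * c) * y = y * (x⁻¹ * c) := Commute.mul_left
      (show Commute x y from cfg.comm x hx y hy).inv_left (mem_centralizer_singleton_iff.mp hc.2)
    rcases hfree _ h1 y hy h2 with h3 | h3
    · rwa [← inv_mul_eq_one.mp h3]
    · exact absurd h3 hy1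
  -- the normal closure
  set K := Subgroup.normalClosure (P : Set G) with hKdef
  have hPK : P ≤ K := Subgroup.subset_normalClosure
  have hKD : K ≤ D := Subgroup.normalClosure_le_normal cfg.le_der
  have hKL : K ⊓ L ≤ D ⊓ L := inf_le_inf_right L hKD
  haveI : Fact p.Prime := ⟨cfg.prime⟩
  set P' : Subgroup K := P.subgroupOf K with hP'
  set N : Subgroup K := (K ⊓ L).subgroupOf K with hN'
  have hNcard : Nat.card N = Nat.card ↥(K ⊓ L) :=
    Nat.card_congr (subgroupOfEquivOfLe inf_le_left).toEquiv
  have hP'card : Nat.card P' = Nat.card P := Nat.card_congr (subgroupOfEquivOfLe hPK).toEquiv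
  have hnormK : ∀ g : K, g ∈ normalizer (P' : Set K) → (g : G) ∈ normalizer (P : Set G) := by
    intro g hg
    rw [Subgroup.mem_normalizer_iff]
    intro y
    by_cases hy : y ∈ K
    · exact Subgroup.mem_normalizer_iff.mp hg ⟨y, hy⟩
    · refine ⟨fun h => absurd (hPK h) hy, fun h => absurd ?_ hy⟩
      have h1 := K.mul_mem (K.mul_mem (K.inv_mem g.2) (hPK h)) g.2
      simpa [mul_assoc] using h1
  have hidxK : ¬ p ∣ P'.index := by
    intro h
    refine cfg.coprime (h.trans ?_)
    have h1 := P'.card_mul_index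
    have h2 := card_der (G := G) a
    rw [← hD] at h2
    have h3 := Subgroup.card_dvd_of_le hKD
    rw [← h1, h2, hP'card, cfg.card_eq] at h3
    exact Nat.dvd_of_mul_dvd_mul_left (cfg.card_eq ▸ Nat.card_pos) h3
  have hS : CCSetup P' N := by
    refine ⟨fun x hx y hy => Subtype.ext (cfg.comm x hx y hy), ?_, ?_, ?_, ?_, ?_⟩
    · intro y hy hy1 g hgy
      exact hcent y hy (fun h => hy1 (Subtype.ext h)) g (hKD g.2) (congrArg Subtype.val hgy)
    · intro h hh
      rw [Subgroup.mem_normalizer_iff]
      exact fun y => Subgroup.mem_normalizer_iff.mp hh.2.2 y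
    · intro g hg
      obtain ⟨x, hx, hxg⟩ := cfg.orbit_eq_univ ((g : G) • a)
      have hh : x⁻¹ * (g : G) ∈ K ⊓ L := ⟨K.mul_mem (K.inv_mem (hPK hx)) g.2,
        show (x⁻¹ * (g : G)) • a = a by rw [mul_smul, ← hxg, inv_smul_smul],
        (normalizer (P : Set G)).mul_mem ((normalizer (P : Set G)).inv_mem
          (Subgroup.le_normalizer hx)) (hnormK g hg)⟩
      exact ⟨⟨x, hPK hx⟩, hx, ⟨x⁻¹ * (g : G), hh.1⟩, hh, Subtype.ext (mul_inv_cancel_left x (g : G)).symm⟩
    · intro h hh h1 y hy hhy
      rcases hfree _ (hKL hh) y hy (congrArg Subtype.val hhy) with e | e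
      · exact absurd (Subtype.ext e) h1
      · exact Subtype.ext e
    · intro M hM hPM
      have hidx : ¬ p ∣ P'.index := hidxK
      let S : Sylow p K := (cfg.pgroup.of_equiv (subgroupOfEquivOfLe hPK).symm).toSylow hidx
      have hle : K ≤ M.map K.subtype := by
        show Subgroup.closure (Group.conjugatesOfSet (P : Set G)) ≤ _
        rw [Subgroup.closure_le]
        intro z hz
        obtain ⟨y, hy, hyz⟩ := Group.mem_conjugatesOfSet_iff.mp hz
        obtain ⟨g, rfl⟩ := isConj_iff.mp hyz
        let ψ : P →* K :=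
          { toFun := fun x => ⟨g * x * g⁻¹, Subgroup.normalClosure_normal.conj_mem _ (hPK x.2) g⟩
            map_one' := Subtype.ext (by simp)
            map_mul' := fun x x' => Subtype.ext (by simp [mul_assoc]) }
        obtain ⟨T, hT⟩ := (cfg.pgroup.of_surjective ψ.rangeRestrict
          ψ.rangeRestrict_surjective).exists_le_sylow
        obtain ⟨k, hk⟩ := MulAction.exists_smul_eq K S T
        have h1 : (ψ ⟨y, hy⟩) ∈ (k • S : Sylow p K) := hk.symm ▸ hT ⟨⟨y, hy⟩, rfl⟩
        obtain ⟨s, hs, hsk⟩ := h1
        refine ⟨ψ ⟨y, hy⟩, ?_, rfl⟩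
        rw [← hsk]
        exact hM.conj_mem s (hPM hs) k
      refine eq_top_iff.mpr fun x _ => ?_
      obtain ⟨y, hy, hyx⟩ := hle x.2
      exact (Subtype.ext hyx : y = x) ▸ hy
  rcases Nat.lt_or_ge (Nat.card N) 2 with hd | hd
  · -- the normal closure is `P`
    have hNbot : K ⊓ L = ⊥ := Subgroup.eq_bot_of_card_le _ (by rw [← hNcard]; omega)
    have hKP : K = P := cfg.eq_of_normalizer_le hPK hKD fun g hg hgN => by
      obtain ⟨x, hx, hxg⟩ := cfg.orbit_eq_univ (g • a)
      have hh : x⁻¹ * g ∈ K ⊓ L := ⟨K.mul_mem (K.inv_mem (hPK hx)) hg,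
        show (x⁻¹ * g) • a = a by rw [mul_smul, ← hxg, inv_smul_smul],
        (normalizer (P : Set G)).mul_mem ((normalizer (P : Set G)).inv_mem
          (Subgroup.le_normalizer hx)) hgN⟩
      rw [hNbot, mem_bot] at hh
      rwa [← inv_mul_eq_one.mp hh]
    haveI : P.Normal := hKP ▸ Subgroup.normalClosure_normal
    obtain ⟨g, hg1, b, c, hbc, hgb, hgc⟩ := hcase.resolve_left (not_not_intro ‹P.Normal›)
    have hgD : g ∈ D := by
      by_contra h
      exact hbc (eq_of_fix h hgb hgc)
    obtain ⟨x, hx, rfl⟩ := cfg.orbit_eq_univ b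
    set u := x⁻¹ * g * x with hu
    have hua : u • a = a := by rw [hu, mul_smul, mul_smul, hgb, inv_smul_smul]
    obtain ⟨y, hy, hya⟩ := cfg.orbit_eq_univ (x⁻¹ • c)
    have huc : u • y • a = y • a := by rw [hu, hya, mul_smul, mul_smul, smul_inv_smul, hgc]
    have huN : u ∈ normalizer (P : Set G) := by
      rw [Subgroup.normalizer_eq_top (P)]
      exact mem_top _
    have huD : u ∈ D ⊓ L := ⟨by simpa [hu] using hDn.conj_mem g hgD x⁻¹, hua, huN⟩
    rcases hfree u huD y hy ((cfg.smul_eq_iff hua huN hy).mp huc) with e | e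
    · refine hg1 ?_
      have : g = x * u * x⁻¹ := by rw [hu]; group
      rw [this, e, mul_one, mul_inv_cancel]
    · rw [e, one_smul, eq_inv_smul_iff] at hya
      exact hbc hya
  · -- character theory
    haveI : IsPretransitive K Ω := by
      refine ⟨fun b c => ?_⟩
      obtain ⟨x, hx, rfl⟩ := cfg.orbit_eq_univ b
      obtain ⟨y, hy, rfl⟩ := cfg.orbit_eq_univ c
      refine ⟨⟨y * x⁻¹, K.mul_mem (hPK hy) (K.inv_mem (hPK hx))⟩, ?_⟩
      show (y * x⁻¹) • x • a = y • a
      rw [mul_smul, inv_smul_smul]
    have hrank : 3 ≤ Nat.card (orbitRel.Quotient (stabilizer K a) Ω) := by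
      by_contra hlt
      obtain ⟨g, hg, hgD⟩ := exists_out (covers_stabilizer (G := G) a) hm
      obtain ⟨b, hb⟩ := exists_ne a
      have hgb : g • b ≠ a := fun h => hb (MulAction.injective g (h.trans (mem_stabilizer_iff.mp hg).symm))
      let f : Fin 3 → orbitRel.Quotient (stabilizer K a) Ω :=
        ![Quotient.mk'' a, Quotient.mk'' b, Quotient.mk'' (g • b)]
      have hne : ∀ c : Ω, c ≠ a → (Quotient.mk'' c : orbitRel.Quotient (stabilizer K a) Ω) ≠
          Quotient.mk'' a := by
        intro c hc h
        rw [Quotient.eq'', orbitRel_apply] at h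
        obtain ⟨s, rfl⟩ := h
        exact hc (mem_stabilizer_iff.mp s.2)
      have hsame : (Quotient.mk'' (g • b) : orbitRel.Quotient (stabilizer K a) Ω) = Quotient.mk'' b := by
        by_contra hne'
        have hinj : Function.Injective f := by
          intro i j h
          fin_cases i <;> fin_cases j <;>
            first
              | rfl
              | exact absurd h (hne b hb) | exact absurd h.symm (hne b hb)
              | exact absurd h (hne _ hgb) | exact absurd h.symm (hne _ hgb)
              | exact absurd h hne' | exact absurd h.symm hne'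
        have h3 := Nat.card_le_card_of_injective f hinj
        rw [Nat.card_fin] at h3
        exact hlt h3
      rw [Quotient.eq'', orbitRel_apply] at hsame
      obtain ⟨k, hk⟩ := hsame
      replace hk : (((k : K) : G)) • b = g • b := hk
      have hka : (((k : K) : G)) • a = a := mem_stabilizer_iff.mp k.2
      have hout : (((k : K) : G))⁻¹ * g ∉ D := fun h => hgD (by
        simpa using D.mul_mem (hKD (k : K).2) h)
      refine hb (eq_of_fix hout ?_ ?_)
      · rw [mul_smul, ← hk, inv_smul_smul]
      · rw [mul_smul, mem_stabilizer_iff.mp hg, inv_smul_eq_iff, hka]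
    have hcard : Nat.card P' = Nat.card Ω := hP'card.trans cfg.card_eq
    have hdvd := cfg.index_mul_dvd (S := L) (R := K ⊓ L) (W := P) (X := ⊥) le_rfl hKL le_rfl inf_le_right
      fun y hy hy1 => (Subgroup.eq_bot_iff_forall _).mpr fun u hu =>
        (hfree u (hKL hu.1) y hy (mem_centralizer_singleton_iff.mp hu.2)).resolve_right hy1
    rw [Subgroup.card_bot, Nat.div_one, cfg.covers.relIndex_eq, ← hD, cfg.card_eq] at hdvd
    obtain ⟨j, hj⟩ := hdvd
    have hn1 : 1 < Nat.card Ω := Finite.one_lt_card
    have hj0 : 1 ≤ j := Nat.pos_of_ne_zero fun h => by rw [h, mul_zero] at hj; omega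
    have hnle : Nat.card Ω ≤ D.index * D.index + 2 * D.index := by
      have : (D.index + 1) ^ 2 = D.index * D.index + 2 * D.index + 1 := by ring
      omega
    rw [← hNcard] at hj
    have h5 : 3 < Nat.card P' := by
      rw [hcard]
      have := Nat.mul_le_mul (Nat.mul_le_mul hm hd) hj0
      omega
    have hexc : ¬ (Nat.card P' = 7 ∧ Nat.card N = 3) := by
      rintro ⟨hn7, hd3⟩
      -- seven points
      have hN0 : ∀ h ∈ N, ∀ b : Ω, b ≠ a → h • b = b → h = 1 := by
        intro h hh b hb hfixb
        obtain ⟨y, hy, rfl⟩ := cfg.orbit_eq_univ b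
        rcases hfree _ (hKL hh) y hy ((cfg.smul_eq_iff hh.2.1 hh.2.2 hy).mp hfixb) with e | e
        · exact Subtype.ext e
        · exact absurd (by rw [e, one_smul]) hb
      set A := stabilizer K a with hA
      have hNA : N ≤ A := fun h hh => hh.2.1
      have horb3 : ∀ b : Ω, b ≠ a → 3 ≤ (orbit A b).ncard := by
        intro b hb
        rw [← hd3, ← Nat.card_coe_set_eq]
        refine Nat.card_le_card_of_injective
          (fun h : N => ⟨(⟨h.1, hNA h.2⟩ : A) • b, mem_orbit _ _⟩) fun h h' e => ?_
        have e' : (h : K) • b = (h' : K) • b := congrArg Subtype.val e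
        refine Subtype.ext ((inv_mul_eq_one.mp (hN0 _ (N.mul_mem (N.inv_mem h'.2) h.2) b hb ?_)).symm)
        rw [mul_smul, e', inv_smul_smul]
      have hnA : ∀ b : Ω, b ≠ a → a ∉ orbit A b := by
        rintro b hb ⟨s, hs⟩
        refine hb (MulAction.injective s ?_)
        show s • b = s • a
        rw [mem_stabilizer_iff.mp s.2 |> (show s • a = a from ·)]
        exact hs
      obtain ⟨b, hb⟩ := exists_ne a
      obtain ⟨c, hca, hcb⟩ : ∃ c, c ≠ a ∧ c ∉ orbit A b := by
        by_contra hall
        push Not at hall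
        have hsurj : Nat.card (orbitRel.Quotient A Ω) ≤ Nat.card Bool := by
          refine Nat.card_le_card_of_surjective
            (fun x : Bool => if x then Quotient.mk'' a else Quotient.mk'' b) fun q => ?_
          obtain ⟨c, rfl⟩ := Quotient.mk''_surjective q
          by_cases hc : c = a
          · exact ⟨true, hc ▸ rfl⟩
          · refine ⟨false, ?_⟩
            show (Quotient.mk'' b : orbitRel.Quotient A Ω) = Quotient.mk'' c
            rw [Quotient.eq'', orbitRel_apply]
            exact mem_orbit_symm.mp (hall c hc)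
        rw [Nat.card_eq_fintype_card (α := Bool), Fintype.card_bool] at hsurj
        omega
      set O1 := orbit A b
      set O2 := orbit A c
      have hdisj : Disjoint O1 O2 := Set.disjoint_left.mpr fun x h1 h2 => hcb (by
        show c ∈ orbit A b
        rw [← orbit_eq_iff.mpr h1, orbit_eq_iff.mpr h2]
        exact mem_orbit_self c)
      have hsub : O1 ∪ O2 ⊆ ({a} : Set Ω)ᶜ := by
        rintro x (h | h) rfl
        · exact hnA b hb h
        · exact hnA c hca h
      have h6 : ({a} : Set Ω)ᶜ.ncard = 6 := by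
        rw [Set.ncard_compl, Set.ncard_singleton, ← hcard, hn7]
      have hle := Set.ncard_le_ncard hsub
      rw [Set.ncard_union_eq hdisj, h6] at hle
      have hb3 : 3 ≤ O1.ncard := horb3 b hb
      have hc3 : 3 ≤ O2.ncard := horb3 c hca
      have hcov : O1 ∪ O2 = ({a} : Set Ω)ᶜ :=
        Set.eq_of_subset_of_ncard_le hsub (by rw [Set.ncard_union_eq hdisj, h6]; omega)
      let φ : A →* Equiv.Perm O1 × Equiv.Perm O2 :=
        (MulAction.toPermHom A O1).prod (MulAction.toPermHom A O2)
      have hφ : Function.Injective φ := by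
        refine (injective_iff_map_eq_one φ).mpr fun s hs => Subtype.ext (Subtype.ext
          (eq_of_smul_eq_smul (α := Ω) fun x => ?_))
        show s • x = (1 : G) • x
        rw [one_smul]
        by_cases hx : x = a
        · rw [hx]; exact s.2
        · rcases (hcov.symm ▸ hx : x ∈ O1 ∪ O2) with h | h
          · exact congrArg Subtype.val (Equiv.Perm.ext_iff.mp (congrArg Prod.fst hs) ⟨x, h⟩)
          · exact congrArg Subtype.val (Equiv.Perm.ext_iff.mp (congrArg Prod.snd hs) ⟨x, h⟩)
      have hA36 : Nat.card A ∣ 36 := by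
        have h1 := Subgroup.card_dvd_of_injective φ hφ
        rwa [Nat.card_prod, Nat.card_perm, Nat.card_perm, Nat.card_coe_set_eq, Nat.card_coe_set_eq,
          show O1.ncard = 3 by omega, show O2.ncard = 3 by omega] at h1
      have hKcard : 7 * Nat.card A = Nat.card K := by
        have h1 := A.index_mul_card
        rw [hA, index_stabilizer, MulAction.orbit_eq_univ, Set.ncard_univ, ← hcard, hn7] at h1
        exact h1
      have hidx : ¬ p ∣ P'.index := hidxK
      let S : Sylow p K := (cfg.pgroup.of_equiv (subgroupOfEquivOfLe hPK).symm).toSylow hidx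
      have hp7 : p = 7 := by
        obtain ⟨i, hi⟩ := cfg.pgroup.exists_card_eq
        rw [← hP'card, hn7] at hi
        have : p ∣ 7 := hi ▸ dvd_pow_self p (fun h => by rw [h, pow_zero] at hi; omega)
        exact (Nat.prime_dvd_prime_iff_eq cfg.prime (by norm_num)).mp this
      have hnum : Nat.card (Sylow p K) = (normalizer ((S : Subgroup K) : Set K)).index :=
        S.card_eq_index_normalizer
      have h21 : 21 ∣ Nat.card (normalizer ((S : Subgroup K) : Set K)) := by
        refine Nat.Coprime.mul_dvd_of_dvd_of_dvd (show Nat.Coprime 7 3 by norm_num) ?_ ?_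
        · exact hn7 ▸ Subgroup.card_dvd_of_le (Subgroup.le_normalizer (H := P'))
        · exact hd3 ▸ Subgroup.card_dvd_of_le hS.le_normalizer
      have h12 : Nat.card (Sylow p K) ∣ 12 := by
        obtain ⟨r, hr⟩ := h21
        obtain ⟨r', hr'⟩ := hA36
        have h1 := (normalizer ((S : Subgroup K) : Set K)).index_mul_card
        rw [← hnum, hr, ← hKcard] at h1
        refine ⟨r * r', ?_⟩
        nlinarith
      have hmod : Nat.card (Sylow p K) % p = 1 % p := card_sylow_modEq_one p K
      subst hp7
      have hone : Nat.card (Sylow 7 K) = 1 := by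
        have h13 := Nat.le_of_dvd (by norm_num) h12
        generalize Nat.card (Sylow 7 K) = t at hmod h12 h13
        interval_cases t <;> omega
      haveI : P'.Normal := Subgroup.normalizer_eq_top_iff.mp
        (Subgroup.index_eq_one.mp (hnum.symm.trans hone))
      have htop := hS.gen P' inferInstance le_rfl
      have hNle : ∀ h ∈ N, h = 1 := fun h hh => Subtype.ext (cfg.free _
        (show h ∈ P' from htop ▸ mem_top h) a hh.2.1)
      rw [(Subgroup.eq_bot_iff_forall N).mpr hNle, Subgroup.card_bot] at hd3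
      omega
    have hlt := hS.card_sub_one_lt a (fun y hy b hb => Subtype.ext (cfg.free y hy b hb)) hcard hd h5 hexc hrank
    rw [hcard, hNcard] at hlt
    rw [hNcard] at hd hj
    set m := D.index
    set d := Nat.card ↥(K ⊓ L)
    set n := Nat.card Ω
    have hn2 : n ≤ m * m + 2 * m := hnle
    have h1 : m * j + 2 ≤ d := by
      have h2 : d * (m * j) < d * (d - 1) := by
        rw [show d * (m * j) = m * d * j by ring, ← hj, Nat.mul_sub, mul_one]
        exact hlt
      have := Nat.lt_of_mul_lt_mul_left h2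
      omega
    have h3 : d * j < m + 2 := by
      have h2 : m * (d * j) < m * (m + 2) := by
        rw [← mul_assoc, ← hj, show m * (m + 2) = m * m + 2 * m by ring]
        omega
      exact Nat.lt_of_mul_lt_mul_left h2
    have h4 : m ≤ m * j := Nat.le_mul_of_pos_right m hj0
    have h5 : d ≤ d * j := Nat.le_mul_of_pos_right d hj0
    omega

end CfsgLib.Derangements
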